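import Groth.Agent.Lib.FormalExist7.ThickAlg
import Groth.Agent.Lib.FormalFun.Levels
import Groth.Agent.Lib.DivPart.Basic

/-!
# Ideal sheaves inside all powers of an ideal of the base
-/

set_option autoImplicit false
set_option linter.style.haveILetI false
set_option linter.unusedSectionVars false
universe u

open CategoryTheory CategoryTheory.Limits AlgebraicGeometry Opposite TopologicalSpace

namespace GrothLib.FormalExist7

open GrothLib.FormalFun
open GrothLib.CartierDescent (stalkIdeal stalkIdeal_eq)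

variable {A : Type u} [CommRing A] {X : Scheme.{u}} [X.Over (Spec (CommRingCat.of A))]

theorem stalkIdeal_baseIdeal (J : Ideal A) (y : X) : stalkIdeal (baseIdeal X J) y = J.map (toStalk A y) := by
  obtain ⟨_, ⟨U, hU, rfl⟩, hy, -⟩ := X.isBasis_affineOpens.exists_subset_of_mem_open (Set.mem_univ y) isOpen_univ
  rw [stalkIdeal_eq _ ⟨U, hU⟩ hy, ideal_baseIdeal, Ideal.map_map]
  exact congrArg (fun φ : A →+* _ => J.map φ) (RingHom.ext fun a => germ_toSec hy a)

/-- An ideal sheaf inside all powers of an ideal of the base at a point over it vanishes near that point. -/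
theorem exists_ideal_eq_bot [IsLocallyNoetherian X] (L : X.IdealSheafData) (I : Ideal A) {y : X}
    (hy : I ≤ ((X ↘ Spec (CommRingCat.of A)) y).asIdeal)
    (h : ∀ n : ℕ, stalkIdeal L y ≤ stalkIdeal (baseIdeal X (I ^ (n + 1))) y) :
    ∃ U : X.affineOpens, y ∈ U.1 ∧ L.ideal U = ⊥ := by
  classical
  obtain ⟨_, ⟨U, hU, rfl⟩, hyU, -⟩ := X.isBasis_affineOpens.exists_subset_of_mem_open (Set.mem_univ y) isOpen_univ
  have h0 : stalkIdeal L y = ⊥ := by
    refine le_bot_iff.1 ?_
    refine le_of_le_of_eq (le_iInf fun n => ?_)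
      (Ideal.iInf_pow_eq_bot_of_isLocalRing (IsLocalRing.maximalIdeal (X.presheaf.stalk y))
        (IsLocalRing.maximalIdeal.isMaximal _).ne_top)
    refine (h n).trans ?_
    rw [stalkIdeal_baseIdeal, Ideal.map_pow]
    exact (Ideal.pow_right_mono (Ideal.map_le_iff_le_comap.2 fun a ha =>
      Ideal.mem_comap.2 (toStalk_mem_maximalIdeal (hy ha))) _).trans (Ideal.pow_le_pow_right n.le_succ)
  haveI := IsLocallyNoetherian.component_noetherian (⟨U, hU⟩ : X.affineOpens)
  obtain ⟨s, hs⟩ := IsNoetherian.noetherian (L.ideal ⟨U, hU⟩)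
  let _ := TopCat.Presheaf.algebra_section_stalk X.presheaf (⟨y, hyU⟩ : U)
  haveI := hU.isLocalization_stalk ⟨y, hyU⟩
  have hk : ∀ b : s, ∃ c ∈ (hU.primeIdealOf ⟨y, hyU⟩).asIdeal.primeCompl, c * (b : Γ(X, U)) = 0 := fun b => by
    have hb : X.presheaf.germ U y hyU (b : Γ(X, U)) = 0 := by
      rw [← Ideal.mem_bot, ← h0, stalkIdeal_eq _ ⟨U, hU⟩ hyU]
      exact Ideal.mem_map_of_mem _ (hs.le (Ideal.subset_span b.2))
    obtain ⟨c, hc⟩ := (IsLocalization.map_eq_zero_iff (hU.primeIdealOf ⟨y, hyU⟩).asIdeal.primeCompl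
      (X.presheaf.stalk y) _).1 hb
    exact ⟨c, c.2, hc⟩
  choose c hc hc0 using hk
  let d := ∏ b ∈ s.attach, c b
  have hd : d ∈ (hU.primeIdealOf ⟨y, hyU⟩).asIdeal.primeCompl := prod_mem fun b _ => hc b
  refine ⟨X.affineBasicOpen (U := ⟨U, hU⟩) d, ?_, ?_⟩
  · refine (Scheme.mem_basicOpen _ _ _ hyU).2 ?_
    exact IsLocalization.map_units (X.presheaf.stalk y) (⟨d, hd⟩ : (hU.primeIdealOf ⟨y, hyU⟩).asIdeal.primeCompl)
  · rw [← L.map_ideal_basicOpen ⟨U, hU⟩ d, ← hs, Ideal.map_span]
    refine Ideal.span_eq_bot.2 ?_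
    rintro _ ⟨b, hb, rfl⟩
    have hu := RingedSpace.isUnit_res_basicOpen X.toRingedSpace d
    have h1 : d * b = 0 := by
      rw [show d = c ⟨b, hb⟩ * ∏ b' ∈ s.attach.erase ⟨b, hb⟩, c b' from
        (Finset.mul_prod_erase _ _ (Finset.mem_attach _ _)).symm, mul_right_comm, hc0, zero_mul]
    have h2 := congrArg (X.presheaf.map (homOfLE (X.basicOpen_le d)).op).hom h1
    rw [map_mul, map_zero] at h2
    exact hu.mul_right_eq_zero.1 h2

/-- The points near which an ideal sheaf vanishes. -/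
def vanishOpens (L : X.IdealSheafData) : X.Opens :=
  ⨆ U : {U : X.affineOpens // L.ideal U = ⊥}, U.1.1

theorem le_vanishOpens_of_ideal_eq_bot {L : X.IdealSheafData} {U : X.affineOpens} (h : L.ideal U = ⊥) :
    U.1 ≤ vanishOpens L :=
  le_iSup (fun U : {U : X.affineOpens // L.ideal U = ⊥} => U.1.1) ⟨U, h⟩

theorem eq_bot_of_vanishOpens {L : X.IdealSheafData} (h : vanishOpens L = ⊤) : L = ⊥ :=
  Scheme.IdealSheafData.ext_of_iSup_eq_top (fun U : {U : X.affineOpens // L.ideal U = ⊥} => U.1) h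
    fun U => U.2.trans (by simp)

theorem vanishOpens_subset_support (L : X.IdealSheafData) : (vanishOpens L : Set X) ⊆ L.support := fun x hx => by
  obtain ⟨U, hU⟩ := Opens.mem_iSup.1 hx
  refine (Scheme.IdealSheafData.mem_support_iff_of_mem (I := L) hU).2 ?_
  rw [U.2, Scheme.mem_zeroLocus_iff]
  intro a ha
  rw [show a = 0 from ha, Scheme.basicOpen_zero]
  exact id

/-- A closed point of a set proper over a complete base lies over the ideal. -/
theorem le_asIdeal_of_closed_singleton (I : Ideal A) [IsAdicComplete I A] {Z : Set X}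
    (hs : ClSub.IsProperOver (X ↘ Spec (CommRingCat.of A)) Z) {y : X} (hyZ : y ∈ Z) (hy : IsClosed ({y} : Set X)) :
    I ≤ ((X ↘ Spec (CommRingCat.of A)) y).asIdeal := by
  obtain ⟨hZ, hp⟩ := hs
  let f := X ↘ Spec (CommRingCat.of A)
  let r := ProperOver.redι _ hZ
  haveI : IsProper (r ≫ f) := hp
  obtain ⟨z, hz⟩ := (ProperOver.range_redι _ hZ).ge hyZ
  have hzc : IsClosed ({z} : Set _) := by
    have : ({z} : Set _) = r ⁻¹' {y} := Set.ext fun w =>
      ⟨fun h => by rw [Set.mem_singleton_iff.1 h]; exact hz,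
        fun h => r.isClosedEmbedding.injective ((Set.mem_singleton_iff.1 h).trans hz.symm)⟩
    rw [this]
    exact hy.preimage r.continuous
  have hc : IsClosed ({f y} : Set (Spec (CommRingCat.of A))) := by
    have := (r ≫ f).isClosedMap _ hzc
    rwa [Set.image_singleton, Scheme.Hom.comp_apply, hz] at this
  exact (IsAdicComplete.le_jacobson_bot I).trans
    (sInf_le ⟨bot_le, (PrimeSpectrum.isClosed_singleton_iff_isMaximal _).1 hc⟩)

end GrothLib.FormalExist7
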