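import Groth.Agent.Lib.FormalExist7.Stalk
import Groth.Agent.Lib.FormalCd7.Torsion

/-!
# Systems mapping to a completion with torsion kernel and cokernel algebraise
-/

set_option autoImplicit false
set_option linter.style.haveILetI false
universe u

open CategoryTheory CategoryTheory.Limits AlgebraicGeometry Opposite TopologicalSpace

namespace GrothLib.FormalExist7

open GrothLib.FormalSys GrothLib.FormalFun GrothLib.QCoh GrothLib.FormalCd7

variable {A : Type u} [CommRing A] {X : Scheme.{u}} [X.Over (Spec (CommRingCat.of A))]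

/-- The projection to a level of the completion. -/
noncomputable def qπ (I : Ideal A) (G : X.Modules) (n : ℕ) : G ⟶ (Formal.completion I G).obj (op n) :=
  Formal.modPowπ I (n + 1) G

theorem isQuot_qπ (I : Ideal A) (G : X.Modules) (n : ℕ) : IsQuot (I ^ (n + 1)) (qπ I G n) :=
  IsQuot.modPowπ I (n + 1) G

theorem qπ_trans (I : Ideal A) (G : X.Modules) {q n : ℕ} (h : q ≤ n) :
    qπ I G n ≫ trans (Formal.completion I G) h = qπ I G q :=
  modPowπ_completion_map G h

theorem isQuot_completion_trans (I : Ideal A) (G : X.Modules) {q n : ℕ} (h : q ≤ n) :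
    IsQuot (I ^ (q + 1)) (trans (Formal.completion I G) h) :=
  (isQuot_qπ I G n).of_comp ((qπ_trans I G h).symm ▸ isQuot_qπ I G q)

theorem killedBy_stalk {M : X.Modules} {J : Ideal A} (h : Formal.KilledBy J M) (y : X) {a : A} (ha : a ∈ J)
    (v : M.presheaf.stalk y) : toStalk A y a • v = 0 := by
  rw [← stalkLin_smulMod, h a ha, stalkLin_zero]

theorem mem_range_of_mem_map_smul {M : X.Modules} (y : X) {J : Ideal A}
    (S : Submodule (X.presheaf.stalk y) (M.presheaf.stalk y))
    (hS : ∀ a ∈ J, ∀ v, toStalk A y a • v ∈ S) :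
    J.map (toStalk A y) • (⊤ : Submodule (X.presheaf.stalk y) (M.presheaf.stalk y)) ≤ S := by
  rw [Submodule.smul_le]
  intro r hr w _
  induction hr using Submodule.span_induction with
  | mem z hz =>
    obtain ⟨a, ha, rfl⟩ := hz
    exact hS a ha w
  | zero => rw [zero_smul]; exact zero_mem _
  | add z z' _ _ hz hz' => rw [add_smul]; exact add_mem hz hz'
  | smul c z _ hz => rw [smul_assoc]; exact Submodule.smul_mem _ c hz

variable (I : Ideal A) (G : X.Modules) (F : ℕᵒᵖ ⥤ X.Modules) (α : F ⟶ Formal.completion I G)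

/-- The condition cutting out compatible pairs. -/
noncomputable abbrev pairCond (n : ℕ) : G ⊞ F.obj (op n) ⟶ (Formal.completion I G).obj (op n) :=
  biprod.fst ≫ qπ I G n - biprod.snd ≫ α.app (op n)

/-- Compatible pairs at level `n`. -/
noncomputable abbrev pairs (n : ℕ) : X.Modules := kernel (pairCond I G F α n)

/-- The first component. -/
noncomputable def pairFst (n : ℕ) : pairs I G F α n ⟶ G := kernel.ι _ ≫ biprod.fst

/-- The second component. -/
noncomputable def pairSnd (n : ℕ) : pairs I G F α n ⟶ F.obj (op n) := kernel.ι _ ≫ biprod.snd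

theorem pair_condition (n : ℕ) :
    pairFst I G F α n ≫ qπ I G n = pairSnd I G F α n ≫ α.app (op n) := by
  have h := kernel.condition (pairCond I G F α n)
  rw [Preadditive.comp_sub, sub_eq_zero] at h
  rw [pairFst, pairSnd, Category.assoc, Category.assoc]
  exact h

theorem exists_pair (n : ℕ) (y : X) {g : G.presheaf.stalk y} {f : (F.obj (op n)).presheaf.stalk y}
    (h : stalkLin (α.app (op n)) y f = stalkLin (qπ I G n) y g) :
    ∃ p, stalkLin (pairFst I G F α n) y p = g ∧ stalkLin (pairSnd I G F α n) y p = f := by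
  let v : (G ⊞ F.obj (op n)).presheaf.stalk y :=
    stalkLin (biprod.inl : G ⟶ G ⊞ F.obj (op n)) y g + stalkLin (biprod.inr : F.obj (op n) ⟶ G ⊞ F.obj (op n)) y f
  have h1 : stalkLin (biprod.fst : G ⊞ F.obj (op n) ⟶ G) y v = g := by
    rw [map_add, ← stalkLin_comp, ← stalkLin_comp, biprod.inl_fst, biprod.inr_fst, stalkLin_id, stalkLin_zero, add_zero]
  have h2 : stalkLin (biprod.snd : G ⊞ F.obj (op n) ⟶ F.obj (op n)) y v = f := by
    rw [map_add, ← stalkLin_comp, ← stalkLin_comp, biprod.inl_snd, biprod.inr_snd, stalkLin_id, stalkLin_zero, zero_add]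
  have hv : stalkLin (pairCond I G F α n) y v = 0 := by
    have h3 : stalkLin (pairCond I G F α n) y v +
        stalkLin (biprod.snd ≫ α.app (op n)) y v = stalkLin (biprod.fst ≫ qπ I G n) y v := by
      rw [← stalkLin_add, sub_add_cancel]
    rw [stalkLin_comp, stalkLin_comp, h1, h2, h] at h3
    exact add_eq_right.1 h3
  obtain ⟨p, hp⟩ := exists_kernel_preimage _ y hv
  exact ⟨p, by rw [pairFst, stalkLin_comp, hp, h1], by rw [pairSnd, stalkLin_comp, hp, h2]⟩

theorem pair_ext (n : ℕ) (y : X) {p q : (pairs I G F α n).presheaf.stalk y}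
    (h1 : stalkLin (pairFst I G F α n) y p = stalkLin (pairFst I G F α n) y q)
    (h2 : stalkLin (pairSnd I G F α n) y p = stalkLin (pairSnd I G F α n) y q) : p = q := by
  refine stalkLin_injective (kernel.ι (pairCond I G F α n)) y ?_
  rw [pairFst, stalkLin_comp, stalkLin_comp] at h1
  rw [pairSnd, stalkLin_comp, stalkLin_comp] at h2
  rw [← biprod_stalk_total _ _ y (stalkLin (kernel.ι _) y p), h1, h2, biprod_stalk_total]

/-- The restriction of pairs. -/
noncomputable def pairTrans {q n : ℕ} (h : q ≤ n) : pairs I G F α n ⟶ pairs I G F α q :=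
  kernel.lift _ (biprod.lift (pairFst I G F α n) (pairSnd I G F α n ≫ trans F h)) (by
    rw [Preadditive.comp_sub, biprod.lift_fst_assoc, biprod.lift_snd_assoc, sub_eq_zero,
      ← qπ_trans I G h, ← Category.assoc, pair_condition, Category.assoc, Category.assoc,
      α.naturality])

theorem pairTrans_fst {q n : ℕ} (h : q ≤ n) :
    pairTrans I G F α h ≫ pairFst I G F α q = pairFst I G F α n := by
  rw [pairTrans]
  show kernel.lift _ _ _ ≫ kernel.ι _ ≫ biprod.fst = _
  rw [kernel.lift_ι_assoc, biprod.lift_fst]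

theorem pairTrans_snd {q n : ℕ} (h : q ≤ n) :
    pairTrans I G F α h ≫ pairSnd I G F α q = pairSnd I G F α n ≫ trans F h := by
  rw [pairTrans]
  show kernel.lift _ _ _ ≫ kernel.ι _ ≫ biprod.snd = _
  rw [kernel.lift_ι_assoc, biprod.lift_snd]

theorem pairTrans_comp {p q n : ℕ} (h : p ≤ q) (h' : q ≤ n) :
    pairTrans I G F α h' ≫ pairTrans I G F α h = pairTrans I G F α (h.trans h') := by
  rw [← cancel_mono (kernel.ι _)]
  refine biprod.hom_ext _ _ ?_ ?_
  · simp only [Category.assoc]
    show _ ≫ _ ≫ pairFst I G F α p = _ ≫ pairFst I G F α p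
    rw [pairTrans_fst, pairTrans_fst, pairTrans_fst]
  · simp only [Category.assoc]
    show _ ≫ _ ≫ pairSnd I G F α p = _ ≫ pairSnd I G F α p
    rw [pairTrans_snd, ← Category.assoc, pairTrans_snd, pairTrans_snd, Category.assoc, trans_comp]

theorem existence_easy_left' [IsNoetherian X] (hG : Coh.IsCoh G) (hF : Formal.IsCohFormal I F)
    (hα : Formal2.KerCokerKilledByIPow I α) :
    ∃ (F' : X.Modules) (a : F' ⟶ G) (β : F ≅ Formal.completion I F'), Coh.IsCoh F' ∧
      Formal2.KerCokerKilledByIPowHom I a ∧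
      (∀ n : ℕ, Formal.modPowπ I (n + 1) F' ≫ β.inv.app (op n) ≫ α.app (op n) = a ≫ Formal.modPowπ I (n + 1) G) ∧
      ∀ (P : X.Modules) (u : P ⟶ G) (v : ∀ n, P ⟶ F.obj (op n)),
        (∀ (q n : ℕ) (h : q ≤ n), v n ≫ trans F h = v q) → (∀ n, v n ≫ α.app (op n) = u ≫ qπ I G n) →
          ∃ l : P ⟶ F', l ≫ a = u ∧ ∀ n, l ≫ Formal.modPowπ I (n + 1) F' ≫ β.inv.app (op n) = v n := by
  classical
  obtain ⟨t, ht⟩ := hα
  obtain ⟨d, hd⟩ := exists_stalk_bound hF
  obtain ⟨c, hcd, hct⟩ : ∃ c, d ≤ c ∧ t + 1 ≤ c := ⟨max d (t + 1), by omega, by omega⟩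
  -- torsion facts
  have hker : ∀ n y (f : (F.obj (op n)).presheaf.stalk y), stalkLin (α.app (op n)) y f = 0 →
      ∀ a ∈ I ^ (t + 1), toStalk A y a • f = 0 := fun n y f hf a ha => by
    obtain ⟨w, rfl⟩ := exists_kernel_preimage _ y hf
    rw [← map_smul, killedBy_stalk (ht n).1 y ha, map_zero]
  have hcok : ∀ n y (a : A), a ∈ I ^ (t + 1) → ∀ v,
      ∃ f, stalkLin (α.app (op n)) y f = toStalk A y a • v := fun n y a ha v => by
    refine exists_cokernel_preimage _ y ?_
    rw [map_smul]
    exact killedBy_stalk (ht n).2 y ha _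
  have hdie : ∀ {n m : ℕ} (hm : m ≤ n) (y : X) (f : (F.obj (op n)).presheaf.stalk y), m + c ≤ n →
      stalkLin (α.app (op n)) y f = 0 → (∀ h : c ≤ n, stalkLin (trans F h) y f = 0) →
      stalkLin (trans F hm) y f = 0 := by
    intro n m hm y f hmn hf h0
    have hcn : c ≤ n := by omega
    refine hd c n m hm hcd hmn y f ?_ fun a ha => hker n y f hf a (Ideal.pow_le_pow_right hct ha)
    have h1 : f ∈ LinearMap.ker (stalkLin (trans F hcn) y) := h0 hcn
    rw [ker_stalkLin_of_isQuot (isQuot_map hF hcn)] at h1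
    exact Submodule.smul_mono_left (Ideal.map_mono (Ideal.pow_le_pow_right (by omega))) h1
  -- the algebraisation
  let ρ := pairTrans I G F α (Nat.le_add_left c c)
  let F' : X.Modules := Abelian.image ρ
  let ιF : F' ⟶ pairs I G F α c := Abelian.image.ι ρ
  let e : ∀ M (h : c + c ≤ M), pairs I G F α M ⟶ F' := fun M h =>
    pairTrans I G F α h ≫ Abelian.factorThruImage ρ
  have he : ∀ M (h : c + c ≤ M), e M h ≫ ιF = pairTrans I G F α ((Nat.le_add_left c c).trans h) := fun M h => by
    simp only [e, ιF, Category.assoc, Abelian.image.fac, ρ, pairTrans_comp]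
  have he' : ∀ M N (h : c + c ≤ M) (h' : M ≤ N), pairTrans I G F α h' ≫ e M h = e N (h.trans h') := fun M N h h' => by
    simp only [e, ← Category.assoc, pairTrans_comp]
  have hepi : ∀ M (h : c + c ≤ M), Epi (e M h) := fun M h => epi_of_stalk _ fun y w => by
    obtain ⟨p, rfl⟩ := stalkLin_surjective (Abelian.factorThruImage ρ) y w
    haveI := (isQuot_map hF h).epi
    obtain ⟨f', hf'⟩ := stalkLin_surjective (trans F h) y (stalkLin (pairSnd I G F α (c + c)) y p)
    let g := stalkLin (pairFst I G F α (c + c)) y p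
    let z := stalkLin (qπ I G M) y g - stalkLin (α.app (op M)) y f'
    have hz : z ∈ LinearMap.ker (stalkLin (trans (Formal.completion I G) h) y) := by
      rw [LinearMap.mem_ker, map_sub, ← stalkLin_comp, ← stalkLin_comp (α.app (op M)) (trans (Formal.completion I G) h),
        qπ_trans,
        show α.app (op M) ≫ trans (Formal.completion I G) h = trans F h ≫ α.app (op (c + c)) from (α.naturality _).symm,
        stalkLin_comp (trans F h), hf', ← stalkLin_comp, ← stalkLin_comp, pair_condition, sub_self]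
    rw [ker_stalkLin_of_isQuot (isQuot_completion_trans I G h)] at hz
    have hle : (I ^ (c + c + 1)).map (toStalk A y) • (⊤ : Submodule _ _) ≤
        ((I ^ (c + 1)).map (toStalk A y) • (⊤ : Submodule (X.presheaf.stalk y) ((F.obj (op M)).presheaf.stalk y))).map
          (stalkLin (α.app (op M)) y) := by
      rw [show c + c + 1 = (c + 1) + c by omega, pow_add, Ideal.map_mul, Submodule.mul_smul, Submodule.map_smul'']
      refine Submodule.smul_mono le_rfl (mem_range_of_mem_map_smul y _ fun a ha v => ?_)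
      obtain ⟨f, hf⟩ := hcok M y a (Ideal.pow_le_pow_right hct ha) v
      exact ⟨f, trivial, hf⟩
    obtain ⟨δ, hδ, hδz⟩ := hle hz
    obtain ⟨p', hp1, hp2⟩ := exists_pair I G F α M y (g := g) (f := f' + δ) (by rw [map_add, hδz]; simp [z])
    refine ⟨p', stalkLin_injective ιF y ?_⟩
    rw [← stalkLin_comp, he, ← stalkLin_comp, show Abelian.factorThruImage ρ ≫ ιF = ρ from Abelian.image.fac ρ]
    refine pair_ext I G F α c y ?_ ?_
    · rw [← stalkLin_comp, ← stalkLin_comp, pairTrans_fst, pairTrans_fst, hp1]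
    · rw [← stalkLin_comp, ← stalkLin_comp, pairTrans_snd, pairTrans_snd, stalkLin_comp, stalkLin_comp, hp2, map_add,
        show stalkLin (trans F _) y δ = 0 from LinearMap.mem_ker.1
          ((ker_stalkLin_of_isQuot (isQuot_map hF ((Nat.le_add_left c c).trans h)) y).symm ▸ hδ), add_zero,
        ← trans_comp F (Nat.le_add_left c c) h, stalkLin_comp, hf']
  have hkill : ∀ n, kernel.ι (e (n + (c + c)) (Nat.le_add_left _ _)) ≫
      pairSnd I G F α (n + (c + c)) ≫ trans F (Nat.le_add_right n (c + c)) = 0 := fun n => hom_ext_stalkLin fun y v => by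
    set M := n + (c + c) with hM
    set p := stalkLin (kernel.ι (e M (Nat.le_add_left _ _))) y v with hp
    have h0 : stalkLin (pairTrans I G F α ((Nat.le_add_left c c).trans (Nat.le_add_left (c + c) n))) y p = 0 := by
      rw [← he M (Nat.le_add_left _ _), hp, ← stalkLin_comp, kernel.condition_assoc, zero_comp, stalkLin_zero]
    have hg : stalkLin (pairFst I G F α M) y p = 0 := by
      rw [← pairTrans_fst I G F α ((Nat.le_add_left c c).trans (Nat.le_add_left (c + c) n)), stalkLin_comp, h0,
        map_zero]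
    have hf : stalkLin (trans F ((Nat.le_add_left c c).trans (Nat.le_add_left (c + c) n))) y
        (stalkLin (pairSnd I G F α M) y p) = 0 := by
      rw [← stalkLin_comp, ← pairTrans_snd, stalkLin_comp, h0, map_zero]
    rw [stalkLin_comp, ← hp, stalkLin_comp, stalkLin_zero]
    refine hdie _ y _ (by omega) ?_ fun _ => hf
    rw [← stalkLin_comp, ← pair_condition, stalkLin_comp, hg, map_zero]
  have hπ' : ∀ n, ∃ π : F' ⟶ F.obj (op n), e (n + (c + c)) (Nat.le_add_left _ _) ≫ π =
      pairSnd I G F α (n + (c + c)) ≫ trans F (Nat.le_add_right n (c + c)) := fun n => by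
    haveI := hepi (n + (c + c)) (Nat.le_add_left _ _)
    exact ⟨(Abelian.epiIsCokernelOfKernel _ (kernelIsKernel (e (n + (c + c)) (Nat.le_add_left _ _)))).desc
      (CokernelCofork.ofπ _ (hkill n)),
      (Abelian.epiIsCokernelOfKernel _ (kernelIsKernel (e (n + (c + c)) (Nat.le_add_left _ _)))).fac _ WalkingParallelPair.one⟩
  choose π hπ using hπ'
  have hcompat : ∀ {q n : ℕ} (h : q ≤ n), π n ≫ trans F h = π q := fun {q n} h => by
    haveI := hepi (n + (c + c)) (Nat.le_add_left _ _)
    have hqn : q + (c + c) ≤ n + (c + c) := by omega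
    rw [← cancel_epi (e (n + (c + c)) (Nat.le_add_left _ _)), reassoc_of% (hπ n),
      ← he' (q + (c + c)) (n + (c + c)) (Nat.le_add_left _ _) hqn, Category.assoc, hπ, ← Category.assoc (pairTrans I G F α hqn),
      pairTrans_snd, Category.assoc, trans_comp, trans_comp]
  let a : F' ⟶ G := ιF ≫ pairFst I G F α c
  have hea : ∀ M (h : c + c ≤ M), e M h ≫ a = pairFst I G F α M := fun M h => by
    simp only [a, ← Category.assoc, he]
    exact pairTrans_fst I G F α _
  have hπα : ∀ n, π n ≫ α.app (op n) = a ≫ qπ I G n := fun n => by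
    haveI := hepi (n + (c + c)) (Nat.le_add_left _ _)
    rw [← cancel_epi (e (n + (c + c)) (Nat.le_add_left _ _)), reassoc_of% (hπ n), reassoc_of% (hea (n + (c + c))),
      show trans F _ ≫ α.app (op n) = α.app (op (n + (c + c))) ≫ trans (Formal.completion I G) _ from α.naturality _,
      ← Category.assoc, ← pair_condition, Category.assoc, qπ_trans]
  have hπsurj : ∀ n y, Function.Surjective (stalkLin (π n) y) := fun n y f => by
    haveI := (isQuot_map hF (Nat.le_add_right n (c + c))).epi
    obtain ⟨f', rfl⟩ := stalkLin_surjective (trans F (Nat.le_add_right n (c + c))) y f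
    haveI : Epi (qπ I G (n + (c + c))) := (isQuot_qπ I G _).epi
    obtain ⟨g, hg⟩ := stalkLin_surjective (qπ I G (n + (c + c))) y (stalkLin (α.app _) y f')
    obtain ⟨p, -, hp⟩ := exists_pair I G F α _ y hg.symm
    exact ⟨stalkLin (e _ _) y p, by rw [← stalkLin_comp, hπ, stalkLin_comp, hp]⟩
  have hdeep : ∀ N y (x : F'.presheaf.stalk y), c + t + 1 ≤ N → stalkLin (π N) y x = 0 →
      x ∈ (I ^ (N - t)).map (toStalk A y) • (⊤ : Submodule (X.presheaf.stalk y) (F'.presheaf.stalk y)) := by
    intro N y x hN hx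
    set M := N + (c + c) with hM
    haveI := hepi M (Nat.le_add_left _ _)
    obtain ⟨p, rfl⟩ := stalkLin_surjective (e M (Nat.le_add_left _ _)) y x
    have hg : stalkLin (pairFst I G F α M) y p ∈ LinearMap.ker (stalkLin (qπ I G N) y) := by
      rw [LinearMap.mem_ker, ← stalkLin_comp, ← hea M (Nat.le_add_left _ _), Category.assoc, ← hπα, stalkLin_comp,
        stalkLin_comp, hx, map_zero]
    rw [ker_stalkLin_of_isQuot (isQuot_qπ I G N)] at hg
    have hle : (I ^ (N + 1)).map (toStalk A y) • (⊤ : Submodule _ _) ≤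
        ((I ^ (N - t)).map (toStalk A y) • (⊤ : Submodule (X.presheaf.stalk y) ((pairs I G F α M).presheaf.stalk y))).map
          (stalkLin (pairFst I G F α M) y) := by
      rw [show N + 1 = (N - t) + (t + 1) by omega, pow_add, Ideal.map_mul, Submodule.mul_smul, Submodule.map_smul'']
      refine Submodule.smul_mono le_rfl (mem_range_of_mem_map_smul y _ fun b hb v => ?_)
      obtain ⟨f, hf⟩ := hcok M y b hb (stalkLin (qπ I G M) y v)
      obtain ⟨q, hq, -⟩ := exists_pair I G F α M y (g := toStalk A y b • v) (hf.trans (map_smul _ _ _).symm)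
      exact ⟨q, trivial, hq⟩
    obtain ⟨p', hp', hpg⟩ := hle hg
    have hmap : ∀ {P : X.Modules} (φ : pairs I G F α M ⟶ P), stalkLin φ y p' ∈
        (I ^ (N - t)).map (toStalk A y) • (⊤ : Submodule (X.presheaf.stalk y) (P.presheaf.stalk y)) := fun φ => by
      have := Submodule.mem_map_of_mem (f := stalkLin φ y) hp'
      rw [Submodule.map_smul''] at this
      exact Submodule.smul_mono le_rfl le_top this
    have hcM : c ≤ M := by omega
    have h1 : stalkLin (pairSnd I G F α M ≫ trans F hcM) y p = 0 := by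
      rw [← trans_comp F (show c ≤ N by omega) (Nat.le_add_right N (c + c)), ← Category.assoc, ← hπ N, stalkLin_comp,
        stalkLin_comp, hx, map_zero]
    have h2 : stalkLin (pairSnd I G F α M ≫ trans F hcM) y p' = 0 := by
      rw [stalkLin_comp]
      refine LinearMap.mem_ker.1 ?_
      rw [ker_stalkLin_of_isQuot (isQuot_map hF hcM)]
      exact Submodule.smul_mono_left (Ideal.map_mono (Ideal.pow_le_pow_right (by omega))) (hmap _)
    have h3 : stalkLin (e M (Nat.le_add_left _ _)) y p = stalkLin (e M (Nat.le_add_left _ _)) y p' := by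
      refine stalkLin_injective ιF y ?_
      rw [← stalkLin_comp, ← stalkLin_comp, he]
      refine pair_ext I G F α c y ?_ ?_
      · rw [← stalkLin_comp, ← stalkLin_comp, pairTrans_fst, hpg]
      · rw [← stalkLin_comp, ← stalkLin_comp, pairTrans_snd, h1, h2]
    rw [h3]
    exact hmap _
  have hquot : ∀ n, IsQuot (I ^ (n + 1)) (π n) := fun n => by
    haveI := epi_of_stalk (π n) (hπsurj n)
    refine IsQuot.mk' (fun b hb => by rw [smulMod_naturality, hF.2.1 n b hb, comp_zero]) ?_
    have hz : kernel.ι (π n) ≫ cokernel.π (Formal.smulFamily (I ^ (n + 1)) F') = 0 := hom_ext_stalkLin fun y v => by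
      rw [stalkLin_comp, stalkLin_zero, ← LinearMap.mem_ker, ker_stalkLin_of_isQuot (IsQuot.cokernelπ _ F')]
      set x := stalkLin (kernel.ι (π n)) y v with hxv
      have hx : stalkLin (π n) y x = 0 := by rw [hxv, ← stalkLin_comp, kernel.condition, stalkLin_zero]
      obtain ⟨N, hN⟩ : ∃ N, N = n + (c + t + 1) := ⟨_, rfl⟩
      have hnN : n ≤ N := by omega
      have h1 : stalkLin (π N) y x ∈ LinearMap.ker (stalkLin (trans F hnN) y) := by
        rw [LinearMap.mem_ker, ← stalkLin_comp, hcompat, hx]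
      rw [ker_stalkLin_of_isQuot (isQuot_map hF hnN), ← Submodule.map_top (stalkLin (π N) y) |>.trans
        (LinearMap.range_eq_top.2 (hπsurj N y)), ← Submodule.map_smul''] at h1
      obtain ⟨x', hx', hxx⟩ := h1
      have h2 := hdeep N y (x - x') (by omega) (by rw [map_sub, hxx, sub_self])
      have := add_mem (Submodule.smul_mono_left (Ideal.map_mono (Ideal.pow_le_pow_right (show n + 1 ≤ N - t by omega))) h2) hx'
      rwa [sub_add_cancel] at this
    exact ⟨(Abelian.epiIsCokernelOfKernel _ (kernelIsKernel (π n))).desc (CokernelCofork.ofπ _ hz),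
      (Abelian.epiIsCokernelOfKernel _ (kernelIsKernel (π n))).fac _ WalkingParallelPair.one⟩
  choose i hi using fun n => (IsQuot.modPowπ I (n + 1) F').exists_iso (hquot n)
  have hnat : ∀ n, (Formal.completion I F').map (homOfLE (Nat.le_succ n)).op ≫ (i n).hom =
      (i (n + 1)).hom ≫ F.map (homOfLE (Nat.le_succ n)).op := fun n => by
    haveI := (IsQuot.modPowπ I (n + 1 + 1) F').epi
    refine (cancel_epi (Formal.modPowπ I (n + 1 + 1) F')).1 ?_
    refine (Category.assoc _ _ _).symm.trans (Eq.trans ?_ (Category.assoc _ _ _))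
    refine ((congrArg (· ≫ _) (completion_map_succ F' n)).trans (hi n)).trans ?_
    exact ((congrArg (· ≫ _) (hi (n + 1))).trans (hcompat (Nat.le_succ n))).symm
  let β : Formal.completion I F' ⟶ F := natTrans (fun n => (i n).hom) hnat
  have hall : ∀ k, IsIso (β.app k) := fun k => inferInstanceAs (IsIso (i k.unop).hom)
  haveI := NatIso.isIso_of_isIso_app β
  have hP : ∀ n, Coh.IsCoh (pairs I G F α n) := fun n =>
    isCoh_kernel _ (isCoh_biprod' hG (hF.1 n)) (isCoh_modPow I (n + 1) hG)
  refine ⟨F', a, (asIso β).symm, isCoh_kernel _ (hP c) (isCoh_cokernel _ (hP _) (hP c)), ⟨t, ?_, ?_⟩, fun n => ?_,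
    fun P u v hv huv => ?_⟩
  · refine fun b hb => hom_ext_stalkLin fun y v => ?_
    rw [stalkLin_smulMod, stalkLin_zero]
    refine stalkLin_injective (kernel.ι a) y ?_
    rw [map_smul, map_zero]
    have hv : stalkLin a y (stalkLin (kernel.ι a) y v) = 0 := by
      rw [← stalkLin_comp, kernel.condition, stalkLin_zero]
    haveI := hepi (c + c) le_rfl
    obtain ⟨p, hp⟩ := stalkLin_surjective (e (c + c) le_rfl) y (stalkLin (kernel.ι a) y v)
    rw [← hp, ← stalkLin_comp, hea] at hv
    rw [← hp, ← map_smul, show toStalk A y b • p = 0 from pair_ext I G F α _ y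
      (by rw [map_smul, hv, smul_zero, map_zero]) (by
        rw [map_smul, map_zero]
        refine hker _ y _ ?_ b hb
        rw [← stalkLin_comp, ← pair_condition, stalkLin_comp, hv, map_zero]), map_zero]
  · refine fun b hb => hom_ext_stalkLin fun y v => ?_
    rw [stalkLin_smulMod, stalkLin_zero]
    obtain ⟨g, rfl⟩ := stalkLin_surjective (cokernel.π a) y v
    obtain ⟨f, hf⟩ := hcok (c + c) y b hb (stalkLin (qπ I G (c + c)) y g)
    obtain ⟨p, hp, -⟩ := exists_pair I G F α (c + c) y (g := toStalk A y b • g) (hf.trans (map_smul _ _ _).symm)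
    rw [← map_smul, ← hp, ← hea (c + c) le_rfl, stalkLin_comp, ← stalkLin_comp a, cokernel.condition, stalkLin_zero]
  · show Formal.modPowπ I (n + 1) F' ≫ β.app (op n) ≫ α.app (op n) = _
    rw [natTrans_app, ← Category.assoc, hi]
    exact hπα n
  · let w : ∀ M, P ⟶ pairs I G F α M := fun M => kernel.lift _ (biprod.lift u (v M)) (by
      rw [Preadditive.comp_sub, biprod.lift_fst_assoc, biprod.lift_snd_assoc, huv, sub_self])
    have hw1 : ∀ M, w M ≫ pairFst I G F α M = u := fun M => by
      show w M ≫ kernel.ι _ ≫ biprod.fst = u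
      rw [kernel.lift_ι_assoc, biprod.lift_fst]
    have hw2 : ∀ M, w M ≫ pairSnd I G F α M = v M := fun M => by
      show w M ≫ kernel.ι _ ≫ biprod.snd = v M
      rw [kernel.lift_ι_assoc, biprod.lift_snd]
    have hwt : ∀ {q M : ℕ} (h : q ≤ M), w M ≫ pairTrans I G F α h = w q := fun {q M} h => by
      rw [← cancel_mono (kernel.ι _)]
      refine biprod.hom_ext _ _ ?_ ?_
      · simp only [Category.assoc]
        show _ ≫ _ ≫ pairFst I G F α q = _ ≫ pairFst I G F α q
        rw [pairTrans_fst, hw1, hw1]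
      · simp only [Category.assoc]
        show _ ≫ _ ≫ pairSnd I G F α q = _ ≫ pairSnd I G F α q
        rw [pairTrans_snd, ← Category.assoc, hw2, hw2, hv]
    refine ⟨w (c + c) ≫ e (c + c) le_rfl, by rw [Category.assoc, hea, hw1], fun n => ?_⟩
    show _ ≫ Formal.modPowπ I (n + 1) F' ≫ β.app (op n) = v n
    rw [natTrans_app, hi, ← hwt (Nat.le_add_left (c + c) n), Category.assoc (w _), he', Category.assoc, hπ,
      ← Category.assoc, hw2, hv]

theorem existence_easy_left [IsNoetherian X] (hG : Coh.IsCoh G) (hF : Formal.IsCohFormal I F)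
    (hα : Formal2.KerCokerKilledByIPow I α) :
    ∃ (F' : X.Modules) (a : F' ⟶ G) (β : F ≅ Formal.completion I F'), Coh.IsCoh F' ∧
      Formal2.KerCokerKilledByIPowHom I a ∧
      ∀ n : ℕ, Formal.modPowπ I (n + 1) F' ≫ β.inv.app (op n) ≫ α.app (op n) = a ≫ Formal.modPowπ I (n + 1) G := by
  obtain ⟨F', a, β, h1, h2, h3, -⟩ := existence_easy_left' I G F α hG hF hα
  exact ⟨F', a, β, h1, h2, h3⟩

end GrothLib.FormalExist7
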