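import Groth.Agent.Lib.FormalExist7.SystemAR
import Groth.Agent.Lib.FormalExist7.EasyLeft
import Groth.Agent.Lib.FormalFun.HomLift

/-!
# Kernels of maps of coherent formal modules
-/

set_option autoImplicit false
set_option linter.style.haveILetI false
universe u

open CategoryTheory CategoryTheory.Limits AlgebraicGeometry Opposite TopologicalSpace

namespace GrothLib.FormalExist7

open GrothLib.FormalSys GrothLib.FormalFun GrothLib.QCoh GrothLib.FormalCd7

variable {A : Type u} [CommRing A] {X : Scheme.{u}} [X.Over (Spec (CommRingCat.of A))]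

theorem trans_self (G : ℕᵒᵖ ⥤ X.Modules) (n : ℕ) : trans G (le_refl n) = 𝟙 _ := G.map_id _

section Stable

variable {G H : ℕᵒᵖ ⥤ X.Modules} (φ : G ⟶ H) (c : ℕ)

/-- Restrictions of kernels from `c` levels up. -/
noncomputable def kerRes (n : ℕ) : kernel (φ.app (op (n + c))) ⟶ G.obj (op n) :=
  kernel.ι _ ≫ trans G (Nat.le_add_right n c)

/-- Restriction of kernels. -/
noncomputable def kerMap {q n : ℕ} (h : q ≤ n) : kernel (φ.app (op (n + c))) ⟶ kernel (φ.app (op (q + c))) :=
  kernel.lift _ (kernel.ι _ ≫ trans G (Nat.add_le_add_right h c)) (by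
    rw [Category.assoc, φ.naturality, kernel.condition_assoc, zero_comp])

theorem kerMap_kerRes {q n : ℕ} (h : q ≤ n) :
    kerMap φ c h ≫ kerRes φ c q = kerRes φ c n ≫ trans G h := by
  rw [kerMap, kerRes, kernel.lift_ι_assoc, kerRes, Category.assoc, Category.assoc, trans_comp, trans_comp]

/-- The stable image of the kernels. -/
noncomputable abbrev sObj (n : ℕ) : X.Modules := Abelian.image (kerRes φ c n)

theorem sObj_cond {q n : ℕ} (h : q ≤ n) :
    (Abelian.image.ι (kerRes φ c n) ≫ trans G h) ≫ cokernel.π (kerRes φ c q) = 0 := by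
  rw [← cancel_epi (Abelian.factorThruImage (kerRes φ c n)), comp_zero, Category.assoc, ← Category.assoc,
    Abelian.image.fac, ← Category.assoc, ← kerMap_kerRes φ c h, Category.assoc, cokernel.condition, comp_zero]

/-- The transition maps of the stable images. -/
noncomputable def sT {q n : ℕ} (h : q ≤ n) : sObj φ c n ⟶ sObj φ c q := kernel.lift _ _ (sObj_cond φ c h)

theorem sT_ι {q n : ℕ} (h : q ≤ n) :
    sT φ c h ≫ Abelian.image.ι (kerRes φ c q) = Abelian.image.ι (kerRes φ c n) ≫ trans G h :=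
  kernel.lift_ι _ _ _

theorem sT_self (n : ℕ) : sT φ c (le_refl n) = 𝟙 _ :=
  (cancel_mono (Abelian.image.ι (kerRes φ c n))).1 (by rw [sT_ι, trans_self, Category.id_comp, Category.comp_id])

theorem sT_comp {p q n : ℕ} (h : p ≤ q) (h' : q ≤ n) : sT φ c h' ≫ sT φ c h = sT φ c (h.trans h') :=
  (cancel_mono (Abelian.image.ι (kerRes φ c p))).1 (by
    rw [Category.assoc, sT_ι, reassoc_of% (sT_ι φ c h'), sT_ι, trans_comp])

/-- The system of stable images. -/
noncomputable def sSys : ℕᵒᵖ ⥤ X.Modules where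
  obj n := sObj φ c n.unop
  map {n q} f := sT φ c (leOfHom f.unop)
  map_id n := sT_self φ c n.unop
  map_comp f g := (sT_comp φ c (leOfHom g.unop) (leOfHom f.unop)).symm

/-- The inclusion of the stable images. -/
noncomputable def sι : sSys φ c ⟶ G where
  app n := Abelian.image.ι (kerRes φ c n.unop)
  naturality {_ _} f := sT_ι φ c (leOfHom f.unop)

theorem sObj_fac (n : ℕ) : Abelian.factorThruImage (kerRes φ c n) ≫ Abelian.image.ι (kerRes φ c n) =
    kernel.ι (φ.app (op (n + c))) ≫ FormalCd7.trans G (Nat.le_add_right n c) :=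
  Abelian.image.fac _

theorem exists_ker_of_sObj (n : ℕ) (y : X) (w : (sObj φ c n).presheaf.stalk y) :
    ∃ v : (G.obj (op (n + c))).presheaf.stalk y, stalkLin (φ.app (op (n + c))) y v = 0 ∧
      stalkLin (trans G (Nat.le_add_right n c)) y v = stalkLin (Abelian.image.ι (kerRes φ c n)) y w := by
  obtain ⟨k, rfl⟩ := stalkLin_surjective (Abelian.factorThruImage (kerRes φ c n)) y w
  refine ⟨stalkLin (kernel.ι _) y k, by rw [← stalkLin_comp, kernel.condition, stalkLin_zero], ?_⟩
  rw [← stalkLin_comp _ (Abelian.image.ι _), Abelian.image.fac, kerRes, stalkLin_comp]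

theorem exists_sObj_of_ker (n : ℕ) (y : X) {v : (G.obj (op (n + c))).presheaf.stalk y}
    (hv : stalkLin (φ.app (op (n + c))) y v = 0) :
    ∃ w : (sObj φ c n).presheaf.stalk y, stalkLin (Abelian.image.ι (kerRes φ c n)) y w =
      stalkLin (trans G (Nat.le_add_right n c)) y v := by
  obtain ⟨k, rfl⟩ := exists_kernel_preimage _ y hv
  exact ⟨stalkLin (Abelian.factorThruImage (kerRes φ c n)) y k, by
    rw [← stalkLin_comp, Abelian.image.fac, kerRes, stalkLin_comp]⟩

end Stable

/-- A map of coherent formal modules has a kernel among coherent formal modules, and it is a quotient of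
the levelwise kernels taken a fixed number of levels up. -/
theorem exists_formal_kernel [IsNoetherian X] {I : Ideal A} {G H : ℕᵒᵖ ⥤ X.Modules}
    (hG : Formal.IsCohFormal I G) (hH : Formal.IsCohFormal I H) (φ : G ⟶ H) :
    ∃ (K : ℕᵒᵖ ⥤ X.Modules) (_ : Formal.IsCohFormal I K) (ι : K ⟶ G),
      ι ≫ φ = 0 ∧
      (∀ (T : ℕᵒᵖ ⥤ X.Modules), Formal.IsCohFormal I T → ∀ ψ : T ⟶ G, ψ ≫ φ = 0 → ∃! χ : T ⟶ K, χ ≫ ι = ψ) ∧
      ∃ (d : ℕ) (π : ∀ n : ℕ, kernel (φ.app (op (n + d))) ⟶ K.obj (op n)), (∀ n, Epi (π n)) ∧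
        ∀ n : ℕ, π n ≫ ι.app (op n) = kernel.ι (φ.app (op (n + d))) ≫ FormalCd7.trans G (Nat.le_add_right n d) := by
  classical
  obtain ⟨c, hc⟩ := exists_system_bound hH hG.1 (fun {q n} h => (isQuot_map hG h).epi) φ
  -- kernels stabilise
  have hstab : ∀ (q m m' : ℕ) (hqm : q + c ≤ m) (hmm : m ≤ m') (y : X) (v : (G.obj (op m)).presheaf.stalk y),
      stalkLin (φ.app (op m)) y v = 0 → ∃ k, stalkLin (φ.app (op m')) y k = 0 ∧
        stalkLin (trans G (show q ≤ m' by omega)) y k = stalkLin (trans G (show q ≤ m by omega)) y v := by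
    intro q m m' hqm hmm y v hv
    haveI := (isQuot_map hG hmm).epi
    obtain ⟨v', rfl⟩ := stalkLin_surjective (trans G hmm) y v
    have h1 : stalkLin (φ.app (op m')) y v' ∈ LinearMap.ker (stalkLin (trans H hmm) y) := by
      rw [LinearMap.mem_ker, ← stalkLin_comp, ← φ.naturality, stalkLin_comp]
      exact hv
    rw [ker_stalkLin_of_isQuot (isQuot_map hH hmm)] at h1
    obtain ⟨k, hk, z, hz, rfl⟩ := Submodule.mem_sup.1 (hc m' (m + 1) y v' h1)
    refine ⟨k, LinearMap.mem_ker.1 hk, ?_⟩
    have hz0 : stalkLin (trans G (show q ≤ m' by omega)) y z = 0 := by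
      rw [← LinearMap.mem_ker, ker_stalkLin_of_isQuot (isQuot_map hG _)]
      exact Submodule.smul_mono_left (Ideal.map_mono (Ideal.pow_le_pow_right (by omega))) hz
    rw [← stalkLin_comp, trans_comp, map_add, hz0, add_zero]
  have hSc : ∀ n, Coh.IsCoh (sObj φ c n) := fun n => by
    have hk : Coh.IsCoh (kernel (φ.app (op (n + c)))) := isCoh_kernel _ (hG.1 _) (hH.1 _)
    exact isCoh_kernel _ (hG.1 n) (isCoh_cokernel (kerRes φ c n) hk (hG.1 n))
  have hSe : ∀ {q n : ℕ} (h : q ≤ n), Epi (sT φ c h) := fun {q n} h => epi_of_stalk _ fun y w => by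
    obtain ⟨v, hv, hvw⟩ := exists_ker_of_sObj φ c q y w
    obtain ⟨k, hk, hkv⟩ := hstab q (q + c) (n + c) le_rfl (by omega) y v hv
    obtain ⟨w', hw'⟩ := exists_sObj_of_ker φ c n y hk
    refine ⟨w', stalkLin_injective (Abelian.image.ι (kerRes φ c q)) y ?_⟩
    rw [← stalkLin_comp, sT_ι, stalkLin_comp, hw', ← stalkLin_comp, trans_comp, hkv, hvw]
  obtain ⟨e, he⟩ := exists_system_bound hG hSc (P := sSys φ c) (fun {q n} h => hSe h) (sι φ c)
  have he' : ∀ (m p : ℕ) (y : X) (w : (sObj φ c m).presheaf.stalk y),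
      stalkLin (Abelian.image.ι (kerRes φ c m)) y w ∈ ((I ^ p).map (toStalk A y)) • (⊤ : Submodule (X.presheaf.stalk y) _) →
      w ∈ ((I ^ (p - e)).map (toStalk A y)) • (⊤ : Submodule (X.presheaf.stalk y) _) := fun m p y w hw => by
    obtain ⟨k, hk, z, hz, rfl⟩ := Submodule.mem_sup.1 (he m p y w hw)
    rw [show k = 0 from stalkLin_injective (Abelian.image.ι (kerRes φ c m)) y
      ((LinearMap.mem_ker.1 hk).trans (map_zero _).symm), zero_add]
    exact hz
  -- the levels of the kernel
  let KO : ℕ → X.Modules := fun n => Formal.modPow I (n + 1) (sObj φ c (n + e))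
  let ρ : ∀ n, sObj φ c (n + e) ⟶ KO n := fun n => Formal.modPowπ I (n + 1) _
  have hρ : ∀ n, IsQuot (I ^ (n + 1)) (ρ n) := fun n => IsQuot.modPowπ I (n + 1) _
  have hKT : ∀ {q n : ℕ} (h : q ≤ n), ∃ τ : KO n ⟶ KO q,
      ρ n ≫ τ = sT φ c (Nat.add_le_add_right h e) ≫ ρ q := fun {q n} h =>
    (hρ n).exists_desc' _ (killedBy_mono (Ideal.pow_le_pow_right (by omega)) (hρ q).killedBy)
  choose τ hτ using @hKT
  let K : ℕᵒᵖ ⥤ X.Modules :=
    { obj := fun n => KO n.unop
      map := fun {n q} f => τ (leOfHom f.unop)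
      map_id := fun n => by
        haveI := (hρ n.unop).epi
        rw [← cancel_epi (ρ n.unop), hτ, sT_self, Category.id_comp, Category.comp_id]
      map_comp := fun {n q p} f g => by
        haveI := (hρ n.unop).epi
        rw [← cancel_epi (ρ n.unop), hτ, reassoc_of% hτ, hτ, ← Category.assoc, sT_comp] }
  have hKK : Formal.IsCohFormal I K := by
    refine ⟨fun n => isCoh_modPow I (n + 1) (hSc _), fun n => (hρ n).killedBy, fun n => ?_⟩
    refine (hρ (n + 1)).of_comp ?_
    show IsQuot (I ^ (n + 1)) (ρ (n + 1) ≫ τ (Nat.le_succ n))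
    rw [hτ]
    haveI := (hρ n).epi
    haveI := hSe (Nat.add_le_add_right (Nat.le_succ n) e)
    refine isQuot_of_stalk _ (hρ n).killedBy fun y v hv => ?_
    rw [stalkLin_comp, ← LinearMap.mem_ker, ker_stalkLin_of_isQuot (hρ n)] at hv
    have h2 : Submodule.map (stalkLin (sT φ c (Nat.add_le_add_right (Nat.le_succ n) e)) y) ⊤ = ⊤ := by
      rw [Submodule.map_top]; exact LinearMap.range_eq_top.2 (stalkLin_surjective _ y)
    rw [← h2, ← Submodule.map_smul''] at hv
    obtain ⟨u, hu, huv⟩ := hv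
    rw [← sub_add_cancel v u]
    refine add_mem (Submodule.smul_mono_left (Ideal.map_mono (Ideal.pow_le_pow_right
      (show n + 1 ≤ n + e + 1 - e by omega))) (he' _ (n + e + 1) y _ ?_)) hu
    rw [← ker_stalkLin_of_isQuot (isQuot_map hG (Nat.add_le_add_right (Nat.le_succ n) e)), LinearMap.mem_ker,
      ← stalkLin_comp, ← sT_ι φ c (Nat.add_le_add_right (Nat.le_succ n) e), stalkLin_comp, map_sub, huv,
      sub_self, map_zero]
  have hι₀ : ∀ n, ∃ i : KO n ⟶ G.obj (op n),
      ρ n ≫ i = Abelian.image.ι (kerRes φ c (n + e)) ≫ trans G (Nat.le_add_right n e) := fun n =>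
    (hρ n).exists_desc' _ (hG.2.1 n)
  choose i hi using hι₀
  let ι : K ⟶ G :=
    { app := fun n => i n.unop
      naturality := fun {n q} f => by
        haveI := (hρ n.unop).epi
        rw [← cancel_epi (ρ n.unop)]
        show ρ n.unop ≫ τ (leOfHom f.unop) ≫ i q.unop = ρ n.unop ≫ i n.unop ≫ trans G (leOfHom f.unop)
        rw [reassoc_of% hτ, hi, reassoc_of% hi, ← Category.assoc, sT_ι, Category.assoc, trans_comp, trans_comp] }
  have hιφ : ι ≫ φ = 0 := by
    ext n : 2
    haveI := (hρ n.unop).epi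
    rw [← cancel_epi (ρ n.unop)]
    show ρ n.unop ≫ i n.unop ≫ φ.app (op n.unop) = _
    rw [reassoc_of% hi, ← cancel_epi (Abelian.factorThruImage (kerRes φ c (n.unop + e))), reassoc_of% (sObj_fac φ c (n.unop + e)),
      reassoc_of% (trans_comp G (Nat.le_add_right n.unop e) (Nat.le_add_right _ c)), φ.naturality,
      kernel.condition_assoc, zero_comp]
    simp
  refine ⟨K, hKK, ι, hιφ, ?_, e + c, fun n => kernel.lift (φ.app (op (n + e + c)))
    (kernel.ι (φ.app (op (n + (e + c)))) ≫ trans G (show n + e + c ≤ n + (e + c) by omega)) (by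
      rw [Category.assoc, φ.naturality, kernel.condition_assoc, zero_comp]) ≫
        Abelian.factorThruImage (kerRes φ c (n + e)) ≫ ρ n, fun n => ?_, fun n => ?_⟩
  · intro T hT ψ hψ
    have hψ0 : ∀ n, ψ.app (op n) ≫ φ.app (op n) = 0 := fun n => congrArg (fun z => z.app (op n)) hψ
    let χ₀ : ∀ n, T.obj (op (n + c)) ⟶ sObj φ c n := fun n =>
      kernel.lift _ (ψ.app (op (n + c))) (hψ0 _) ≫ Abelian.factorThruImage (kerRes φ c n)
    have hχι : ∀ n, χ₀ n ≫ Abelian.image.ι (kerRes φ c n) = ψ.app (op (n + c)) ≫ trans G (Nat.le_add_right n c) :=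
      fun n => by rw [Category.assoc, Abelian.image.fac, kerRes, kernel.lift_ι_assoc]
    have hχnat : ∀ {q n : ℕ} (h : q ≤ n),
        trans T (Nat.add_le_add_right h c) ≫ χ₀ q = χ₀ n ≫ sT φ c h := fun {q n} h =>
      (cancel_mono (Abelian.image.ι (kerRes φ c q))).1 (by
        rw [Category.assoc, hχι, Category.assoc, sT_ι, reassoc_of% hχι, ψ.naturality_assoc, trans_comp,
          trans_comp])
    have hm : Monotone fun n : ℕ => n + e + c := fun a b h => by show a + e + c ≤ b + e + c; omega
    have hle : ∀ n : ℕ, n ≤ n + e + c := fun n => by omega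
    let π₀ : (Monotone.functor hm).op ⋙ T ⟶ T :=
      { app := fun n => T.map (homOfLE (hle n.unop)).op
        naturality := fun n k f => by
          simp only [Functor.comp_map, ← T.map_comp]
          rfl }
    let α₀ : (Monotone.functor hm).op ⋙ T ⟶ K :=
      { app := fun n => χ₀ (n.unop + e) ≫ ρ n.unop
        naturality := fun {n q} f => by
          have hh : q.unop ≤ n.unop := leOfHom f.unop
          show trans T (show q.unop + e + c ≤ n.unop + e + c by omega) ≫ χ₀ (q.unop + e) ≫ ρ q.unop =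
            (χ₀ (n.unop + e) ≫ ρ n.unop) ≫ τ hh
          rw [Category.assoc (χ₀ (n.unop + e)), hτ hh, ← Category.assoc (trans T _) (χ₀ (q.unop + e)),
            hχnat (Nat.add_le_add_right hh e), Category.assoc] }
    obtain ⟨χ, hχ, -⟩ := existsUnique_of_reindex hT hKK.2.1 hm hle π₀ (fun n => rfl) α₀
    have hχn : ∀ n, trans T (hle n) ≫ χ.app (op n) = χ₀ (n + e) ≫ ρ n := fun n =>
      congrArg (fun z => z.app (op n)) hχ
    have hχc : χ ≫ ι = ψ := by
      ext n : 2
      haveI := (isQuot_map hT (hle n.unop)).epi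
      rw [← cancel_epi (trans T (hle n.unop))]
      show trans T _ ≫ χ.app (op n.unop) ≫ i n.unop = trans T _ ≫ ψ.app (op n.unop)
      rw [reassoc_of% (hχn n.unop), hi, reassoc_of% (hχι (n.unop + e)), trans_comp, ψ.naturality]
    refine ⟨χ, hχc, fun χ' hχ' => ?_⟩
    -- the inclusion is a monomorphism of systems
    have key : ∀ δ : T ⟶ K, δ ≫ ι = 0 → δ = 0 := fun δ hδ => by
      ext n : 2
      obtain ⟨q, rfl⟩ : ∃ q, n = op q := ⟨n.unop, rfl⟩
      haveI := (isQuot_map hT (Nat.le_add_right q e)).epi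
      rw [← cancel_epi (trans T (Nat.le_add_right q e))]
      refine hom_ext_stalkLin fun y t => ?_
      rw [stalkLin_comp, ← stalkLin_comp, δ.naturality, stalkLin_comp]
      haveI := (hρ (q + e)).epi
      obtain ⟨s, hs⟩ := stalkLin_surjective (ρ (q + e)) y (stalkLin (δ.app (op (q + e))) y t)
      have h0 : stalkLin (i (q + e)) y (stalkLin (δ.app (op (q + e))) y t) = 0 := by
        rw [← stalkLin_comp, show δ.app (op (q + e)) ≫ i (q + e) = 0 from congrArg (fun z => z.app (op (q + e))) hδ,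
          stalkLin_zero]
      rw [← hs, ← stalkLin_comp _ (i (q + e)), hi, ← sT_ι φ c (Nat.le_add_right (q + e) e), stalkLin_comp] at h0
      have h1 : stalkLin (sT φ c (Nat.le_add_right (q + e) e)) y s = 0 :=
        stalkLin_injective (Abelian.image.ι (kerRes φ c (q + e))) y (h0.trans (map_zero _).symm)
      rw [← hs]
      show stalkLin (τ (Nat.le_add_right q e)) y (stalkLin (ρ (q + e)) y s) = _
      rw [← stalkLin_comp, hτ,
        show sT φ c (Nat.add_le_add_right (Nat.le_add_right q e) e) =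
          sT φ c (Nat.le_add_right (q + e) e) from rfl, stalkLin_comp, h1, map_zero]
      simp [stalkLin_zero]
    refine sub_eq_zero.1 (key (χ' - χ) ?_)
    rw [Preadditive.sub_comp, hχ', hχc, sub_self]
  · haveI := (hρ n).epi
    have : n + e + c = n + (e + c) := by omega
    haveI : Epi (kernel.lift (φ.app (op (n + e + c)))
        (kernel.ι (φ.app (op (n + (e + c)))) ≫ trans G (show n + e + c ≤ n + (e + c) by omega)) (by
          rw [Category.assoc, φ.naturality, kernel.condition_assoc, zero_comp])) := by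
      refine epi_of_stalk _ fun y w => ?_
      haveI := (isQuot_map hG (show n + e + c ≤ n + (e + c) by omega)).epi
      obtain ⟨v, hv⟩ := stalkLin_surjective (trans G (show n + e + c ≤ n + (e + c) by omega)) y
        (stalkLin (kernel.ι _) y w)
      have hv0 : stalkLin (φ.app (op (n + (e + c)))) y v = 0 := by
        have h3 : stalkLin (trans H (show n + e + c ≤ n + (e + c) by omega)) y
            (stalkLin (φ.app (op (n + (e + c)))) y v) = 0 := by
          rw [← stalkLin_comp, ← φ.naturality, stalkLin_comp, hv, ← stalkLin_comp, kernel.condition, stalkLin_zero]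
        rw [← LinearMap.mem_ker, ker_stalkLin_of_isQuot (isQuot_map hH _)] at h3
        exact (Submodule.mem_bot (X.presheaf.stalk y)).1
          (((Submodule.smul_mono_left (Ideal.map_mono (Ideal.pow_le_pow_right
            (show n + (e + c) + 1 ≤ n + e + c + 1 by omega)))).trans
            (mem_range_of_mem_map_smul y ⊥ fun a ha z => killedBy_stalk (hH.2.1 _) y ha z)) h3)
      obtain ⟨k, hk⟩ := exists_kernel_preimage _ y hv0
      exact ⟨k, stalkLin_injective (kernel.ι _) y (by
        rw [← stalkLin_comp, kernel.lift_ι, stalkLin_comp, hk, hv])⟩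
    exact epi_comp _ _
  · show (_ ≫ _ ≫ _) ≫ i n = _
    have hl : ∀ (h₀ : n + e + c ≤ n + (e + c)) (w : _),
        kernel.lift (φ.app (op (n + e + c))) (kernel.ι (φ.app (op (n + (e + c)))) ≫ trans G h₀) w ≫ kerRes φ c (n + e) =
          kernel.ι (φ.app (op (n + (e + c)))) ≫ trans G (show n + e ≤ n + (e + c) by omega) := fun h₀ w => by
      unfold kerRes
      rw [kernel.lift_ι_assoc, Category.assoc, trans_comp]
    simp only [Category.assoc]
    rw [hi, reassoc_of% (Abelian.image.fac (kerRes φ c _)), reassoc_of% hl, trans_comp]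

end GrothLib.FormalExist7
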