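import Groth.Agent.Lib.FormalCd7.Torsion
import Groth.Agent.Lib.QCoh.Coherent
import Mathlib.RingTheory.Filtration

/-!
# A uniform Artin–Rees bound for morphisms of coherent modules
-/

set_option autoImplicit false
set_option linter.style.haveILetI false
universe u

open CategoryTheory CategoryTheory.Limits AlgebraicGeometry Opposite TopologicalSpace

namespace GrothLib.FormalExist7

open GrothLib.FormalFun GrothLib.QCoh

variable {A : Type u} [CommRing A] {X : Scheme.{u}} [X.Over (Spec (CommRingCat.of A))]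

theorem exists_affine_ar {B : Type*} [CommRing B] [IsNoetherianRing B] (J : Ideal B) {M N : Type*}
    [AddCommGroup M] [Module B M] [AddCommGroup N] [Module B N] [Module.Finite B N] (φ : M →ₗ[B] N) :
    ∃ s : ℕ, ∀ m, s ≤ m → ∀ g, φ g ∈ J ^ m • (⊤ : Submodule B N) →
      g ∈ LinearMap.ker φ ⊔ J ^ (m - s) • (⊤ : Submodule B M) := by
  obtain ⟨s, hs⟩ := Ideal.exists_pow_inf_eq_pow_smul J (LinearMap.range φ)
  refine ⟨s, fun m hm g hg => ?_⟩
  have h1 : φ g ∈ J ^ (m - s) • (J ^ s • ⊤ ⊓ LinearMap.range φ) := by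
    rw [← hs m hm]; exact ⟨hg, g, rfl⟩
  have h2 : φ g ∈ Submodule.map φ (J ^ (m - s) • ⊤) := by
    rw [Submodule.map_smul'', Submodule.map_top]
    exact Submodule.smul_mono le_rfl inf_le_right h1
  obtain ⟨g', hg', he⟩ := h2
  rw [← sub_add_cancel g g']
  exact Submodule.add_mem_sup (by rw [LinearMap.mem_ker, map_sub, he, sub_self]) hg'

/-- Preimages of deep multiples are deep multiples up to the kernel, uniformly on a Noetherian scheme. -/
theorem exists_uniform_ar [IsNoetherian X] (I : Ideal A) {M N : X.Modules} (hM : Coh.IsCoh M) (hN : Coh.IsCoh N)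
    (φ : M ⟶ N) :
    ∃ s : ℕ, ∀ m, s ≤ m → ∀ (y : X) (v : M.presheaf.stalk y),
      stalkLin φ y v ∈ ((I ^ m).map (toStalk A y)) • (⊤ : Submodule (X.presheaf.stalk y) (N.presheaf.stalk y)) →
      v ∈ LinearMap.ker (stalkLin φ y) ⊔
        ((I ^ (m - s)).map (toStalk A y)) • (⊤ : Submodule (X.presheaf.stalk y) (M.presheaf.stalk y)) := by
  classical
  obtain ⟨t, ht⟩ := isCompact_univ.elim_finite_subcover (fun W : X.affineOpens => (W.1 : Set X))
    (fun W => W.1.2) fun x _ => by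
      obtain ⟨_, ⟨Z, hZ, rfl⟩, hx, -⟩ :=
        X.isBasis_affineOpens.exists_subset_of_mem_open (Set.mem_univ x) isOpen_univ
      exact Set.mem_iUnion.2 ⟨⟨Z, hZ⟩, hx⟩
  have hW : ∀ W : X.affineOpens, ∃ s : ℕ, ∀ m, s ≤ m → ∀ g : Γ(M, W.1),
      appLinear φ W.1 g ∈ (I.map (toSec A W.1)) ^ m • (⊤ : Submodule Γ(X, W.1) Γ(N, W.1)) →
      g ∈ LinearMap.ker (appLinear φ W.1) ⊔
        (I.map (toSec A W.1)) ^ (m - s) • (⊤ : Submodule Γ(X, W.1) Γ(M, W.1)) := fun W => by
    haveI : IsNoetherianRing Γ(X, W.1) := IsLocallyNoetherian.component_noetherian W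
    haveI := hN.1
    haveI : Module.Finite Γ(X, W.1) Γ(N, W.1) := QCoh.moduleFinite_of_isFiniteType N hN.2 W.2
    exact exists_affine_ar _ _
  choose s hs using hW
  refine ⟨t.sup s, fun m hm y v hv => ?_⟩
  obtain ⟨W, hWt, hy⟩ := Set.mem_iUnion₂.1 (ht (Set.mem_univ y))
  have hy : y ∈ W.1 := hy
  haveI := hM.1
  haveI := hN.1
  obtain ⟨c₁, z, hc₁, e⟩ := WeakAss.exists_smul_eq_germ W.2 hy v
  have hgz : N.presheaf.germ W.1 y hy (φ.app W.1 z) ∈
      ((I ^ m).map (toStalk A y)) • (⊤ : Submodule (X.presheaf.stalk y) (N.presheaf.stalk y)) := by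
    rw [← stalkLin_germ φ hy z, ← e, map_smul]
    exact Submodule.smul_mem _ _ hv
  obtain ⟨c₂, hc₂, hz⟩ := exists_smul_mem_of_germ_mem W.2 hy (I ^ m) hgz
  rw [Ideal.map_pow] at hz
  have hz' : appLinear φ W.1 (c₂ • z) ∈ (I.map (toSec A W.1)) ^ m • (⊤ : Submodule Γ(X, W.1) Γ(N, W.1)) := by
    rw [map_smul]; exact hz
  obtain ⟨k, hk, z', hz'', hkz⟩ := Submodule.mem_sup.1 (hs W m ((Finset.le_sup hWt).trans hm) (c₂ • z) hz')
  have hu : IsUnit (X.presheaf.germ W.1 y hy c₂ * X.presheaf.germ W.1 y hy c₁) :=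
    (FormalCd7.isUnit_germ hc₂).mul (FormalCd7.isUnit_germ hc₁)
  suffices (X.presheaf.germ W.1 y hy c₂ * X.presheaf.germ W.1 y hy c₁) • v ∈ LinearMap.ker (stalkLin φ y) ⊔
      ((I ^ (m - t.sup s)).map (toStalk A y)) • (⊤ : Submodule (X.presheaf.stalk y) (M.presheaf.stalk y)) by
    exact (Submodule.smul_mem_iff_of_isUnit _ hu).1 this
  rw [mul_smul, e, ← WeakAss.germ_smul, ← hkz, map_add]
  refine Submodule.add_mem_sup ?_ ?_
  · rw [LinearMap.mem_ker, stalkLin_germ φ hy k]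
    exact (congrArg _ (LinearMap.mem_ker.1 hk)).trans (map_zero _)
  · refine germ_mem_of_mem hy _ ?_
    rw [Ideal.map_pow]
    exact Submodule.smul_mono_left (Ideal.pow_le_pow_right (Nat.sub_le_sub_left (Finset.le_sup hWt) m)) hz''

end GrothLib.FormalExist7
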