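import Groth.Agent.Lib.AdicExtra.Completion
import Groth.Agent.Lib.FormalExist7.UniformAR

/-!
# Artin–Rees for a second ideal in an adic system of finite modules
-/

set_option autoImplicit false
set_option linter.style.haveILetI false
universe u v

namespace GrothLib.FormalExist7

theorem apply_mem_of_mem_smul_pi {R : Type*} [CommRing R] {ι : Type*} (I : Ideal R) {D : ι → R}
    (hD : D ∈ I • (⊤ : Submodule R (ι → R))) (i : ι) : D i ∈ I := by
  refine Submodule.smul_induction_on hD (fun r hr w _ => ?_) fun a b ha hb => add_mem ha hb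
  exact I.mul_mem_right _ hr

theorem mem_smul_pi {R : Type*} [CommRing R] {ι : Type*} [Fintype ι] (I : Ideal R) {D : ι → R}
    (hD : ∀ i, D i ∈ I) : D ∈ I • (⊤ : Submodule R (ι → R)) := by
  classical
  rw [show D = ∑ i, D i • Pi.single (M := fun _ : ι => R) i (1 : R) by
    funext j; simp [Finset.sum_apply, Pi.single_apply]]
  exact Submodule.sum_mem _ fun i _ => Submodule.smul_mem_smul (hD i) trivial

/-- In an adic system of finite modules, a surjective system of submodules meets `K^e` multiples of the modules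
in `K^(e-c)` multiples of itself, after a bounded number of steps depending on `e`. -/
theorem exists_completed_ar {B : Type u} [CommRing B] [IsNoetherianRing B] (J K : Ideal B)
    (M : ℕ → Type v) [∀ n, AddCommGroup (M n)] [∀ n, Module B (M n)]
    (g : ∀ {q n : ℕ}, q ≤ n → M n →ₗ[B] M q)
    (hrefl : ∀ n (x : M n), g le_rfl x = x)
    (hcomp : ∀ {p q n : ℕ} (hpq : p ≤ q) (hqn : q ≤ n) (x : M n), g hpq (g hqn x) = g (hpq.trans hqn) x)
    (hsurj : ∀ {q n : ℕ} (h : q ≤ n), Function.Surjective (g h))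
    (hker : ∀ {q n : ℕ} (h : q ≤ n), LinearMap.ker (g h) = J ^ (q + 1) • (⊤ : Submodule B (M n)))
    [Module.Finite B (M 0)]
    (S : ∀ n, Submodule B (M n)) (hS : ∀ {q n : ℕ} (h : q ≤ n), (S n).map (g h) = S q) :
    ∃ c : ℕ, ∀ e : ℕ, ∃ d : ℕ, ∀ (q m : ℕ) (h : q + d ≤ m) (v : M m), v ∈ S m →
      v ∈ K ^ e • (⊤ : Submodule B (M m)) → g ((Nat.le_add_right q d).trans h) v ∈ K ^ (e - c) • S q := by
  classical
  have hkill : ∀ n, J ^ (n + 1) • (⊤ : Submodule B (M n)) = ⊥ := fun n => by
    rw [← hker (le_refl n)]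
    exact LinearMap.ker_eq_bot.2 fun x y h => by rwa [hrefl, hrefl] at h
  obtain ⟨N, e₀, he₀⟩ := Module.Finite.exists_fin (R := B) (M := M 0)
  obtain ⟨E, hE0, hEs⟩ : ∃ E : ∀ n, Fin N → M n, E 0 = e₀ ∧ ∀ n i, g (Nat.le_succ n) (E (n + 1) i) = E n i :=
    ⟨fun n => Nat.rec (motive := fun n => Fin N → M n) e₀ (fun n x i => (hsurj (Nat.le_succ n) (x i)).choose) n,
      rfl, fun n i => (hsurj (Nat.le_succ n) _).choose_spec⟩
  have hE : ∀ {q n : ℕ} (h : q ≤ n) (i : Fin N), g h (E n i) = E q i := by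
    intro q n h i
    induction n, h using Nat.le_induction with
    | base => exact hrefl _ _
    | succ n hn ih => rw [← hcomp hn (Nat.le_succ n), hEs, ih]
  let V : ∀ n, (Fin N → B) →ₗ[B] M n := fun n => Fintype.linearCombination B (E n)
  have hV : ∀ n P, V n P = ∑ i, P i • E n i := fun n P => Fintype.linearCombination_apply B (E n) P
  have hgV : ∀ {q n : ℕ} (h : q ≤ n) (P : Fin N → B), g h (V n P) = V q P := fun h P => by simp [hV, hE h]
  have hVs : ∀ q, Function.Surjective (V q) := fun q => by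
    rw [← LinearMap.range_eq_top]
    have h0 : (LinearMap.range (V q)).map (g (Nat.zero_le q)) = ⊤ := by
      rw [← LinearMap.range_comp, LinearMap.range_eq_top]
      intro x
      obtain ⟨P, hP⟩ := (Submodule.mem_span_range_iff_exists_fun B).1 (show x ∈ Submodule.span B (Set.range e₀) by
        rw [he₀]; trivial)
      exact ⟨P, by rw [LinearMap.comp_apply, hgV, hV, ← hP, hE0]⟩
    have h1 : LinearMap.range (V q) ⊔ J • (⊤ : Submodule B (M q)) = ⊤ := by
      refine eq_top_iff.2 fun x _ => ?_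
      obtain ⟨y, hy, hyx⟩ := (Submodule.eq_top_iff'.1 h0) (g (Nat.zero_le q) x)
      rw [← add_sub_cancel y x]
      refine Submodule.add_mem_sup hy ?_
      rw [← pow_one J, show (1 : ℕ) = 0 + 1 from rfl, ← hker (Nat.zero_le q), LinearMap.mem_ker, map_sub, hyx, sub_self]
    have key : ∀ k, LinearMap.range (V q) ⊔ J ^ k • ⊤ = ⊤ := fun k => by
      induction k with
      | zero => simp
      | succ k ih =>
        refine eq_top_iff.2 (ih.ge.trans (sup_le le_sup_left ?_))
        calc J ^ k • (⊤ : Submodule B (M q))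
            = J ^ k • (LinearMap.range (V q) ⊔ J • (⊤ : Submodule B (M q))) := by rw [h1]
          _ = J ^ k • LinearMap.range (V q) ⊔ J ^ (k + 1) • (⊤ : Submodule B (M q)) := by
            rw [Submodule.smul_sup, pow_succ, Submodule.mul_smul]
          _ ≤ _ := sup_le_sup_right Submodule.smul_le_right _
    have h3 := key (q + 1)
    rwa [hkill, sup_bot_eq] at h3
  let C := AdicCompletion J B
  have hVcongr : ∀ q (P P' : Fin N → B), (∀ i, P i - P' i ∈ J ^ (q + 1)) → V q P = V q P' := fun q P P' h => by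
    rw [hV, hV, ← sub_eq_zero, ← Finset.sum_sub_distrib]
    refine Finset.sum_eq_zero fun i _ => ?_
    rw [← sub_smul]
    exact (Submodule.mem_bot B).1 (hkill q ▸ Submodule.smul_mem_smul (h i) trivial)
  choose rep hrep using fun (q : ℕ) (c : B ⧸ J ^ (q + 1)) => Ideal.Quotient.mk_surjective c
  let W : ∀ q, (Fin N → C) → M q := fun q x => V q fun i => rep q (AdicCompletion.evalₐ J (q + 1) (x i))
  have hW : ∀ q (x : Fin N → C) (P : Fin N → B),
      (∀ i, AdicCompletion.evalₐ J (q + 1) (x i) = Ideal.Quotient.mk _ (P i)) → W q x = V q P := fun q x P h =>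
    hVcongr q _ _ fun i => by rw [← Ideal.Quotient.eq, hrep, h]
  have hWadd : ∀ q x x', W q (x + x') = W q x + W q x' := fun q x x' => by
    refine (hW q _ _ fun i => ?_).trans (map_add (V q) _ _)
    rw [Pi.add_apply, map_add, Pi.add_apply, map_add, hrep, hrep]
  have hWsmul : ∀ q (r : C) x, W q (r • x) = rep q (AdicCompletion.evalₐ J (q + 1) r) • W q x := fun q r x => by
    refine (hW q _ _ fun i => ?_).trans (map_smul (V q) _ _)
    rw [Pi.smul_apply, smul_eq_mul, map_mul, Pi.smul_apply, smul_eq_mul, map_mul, hrep, hrep]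
  have hW0 : ∀ q, W q 0 = 0 := fun q => by
    refine (hW q 0 0 fun i => ?_).trans (map_zero _)
    simp
  -- elements with values in a surjective system of submodules
  have hlift : ∀ (T : ∀ n, Submodule B (M n)), (∀ {q n : ℕ} (h : q ≤ n), (T n).map (g h) = T q) →
      ∀ (m : ℕ) (P : Fin N → B), V m P ∈ T m → ∃ x : Fin N → C, (∀ q, W q x ∈ T q) ∧
        ∀ i, AdicCompletion.evalₐ J (m + 1) (x i) = Ideal.Quotient.mk _ (P i) := by
    intro T hT m P hP
    have hstep : ∀ k (Q : Fin N → B), V (m + k) Q ∈ T (m + k) → ∃ Q' : Fin N → B,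
        V (m + k + 1) Q' ∈ T (m + k + 1) ∧ ∀ i, Q' i - Q i ∈ J ^ (m + k + 1) := by
      intro k Q hQ
      obtain ⟨s, hs, hgs⟩ := (hT (Nat.le_succ (m + k))).ge hQ
      have h1 : s - V (m + k + 1) Q ∈ Submodule.map (V (m + k + 1)) (J ^ (m + k + 1) • ⊤) := by
        rw [Submodule.map_smul'', Submodule.map_top, LinearMap.range_eq_top.2 (hVs _), ← hker (Nat.le_succ (m + k)),
          LinearMap.mem_ker, map_sub, hgs, hgV, sub_self]
      obtain ⟨D, hD, hDs⟩ := h1
      refine ⟨Q + D, by rwa [map_add, hDs, add_sub_cancel], fun i => ?_⟩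
      rw [Pi.add_apply, add_sub_cancel_left]
      exact apply_mem_of_mem_smul_pi _ hD i
    choose next hn hnc using hstep
    let seq : ∀ k, {Q : Fin N → B // V (m + k) Q ∈ T (m + k)} := fun k =>
      Nat.rec (motive := fun k => {Q : Fin N → B // V (m + k) Q ∈ T (m + k)}) ⟨P, hP⟩
        (fun k Q => ⟨next k Q.1 Q.2, hn k Q.1 Q.2⟩) k
    let p : ℕ → Fin N → B := fun n => if n ≤ m then P else (seq (n - 1 - m)).1
    have hp : ∀ k, p (m + k + 1) = (seq k).1 := fun k => by
      simp only [p, if_neg (show ¬ m + k + 1 ≤ m by omega)]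
      rw [show m + k + 1 - 1 - m = k by omega]
    have hcau : ∀ i n, p n i ≡ p (n + 1) i [SMOD (J ^ n • ⊤ : Submodule B B)] := fun i n => by
      rw [SModEq.sub_mem]
      rcases le_or_gt (n + 1) m with h | h
      · simp only [p, if_pos h, if_pos (show n ≤ m by omega), sub_self]
        exact zero_mem _
      rcases le_or_gt n m with h' | h'
      · obtain rfl : n = m := by omega
        have := hp 0
        rw [show n + 0 + 1 = n + 1 by omega] at this
        simp only [p, if_pos (le_refl n)] at this ⊢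
        rw [this]
        exact sub_self (P i) ▸ zero_mem _
      obtain ⟨k, rfl⟩ : ∃ k, n = m + k + 1 := ⟨n - m - 1, by omega⟩
      rw [show m + k + 1 + 1 = m + (k + 1) + 1 by omega, hp, hp, ← neg_mem_iff, neg_sub]
      have := hnc k (seq k).1 (seq k).2 i
      rwa [smul_eq_mul, Ideal.mul_top]
    let x : Fin N → C := fun i => AdicCompletion.mk J B (AdicCompletion.AdicCauchySequence.mk J B (fun n => p n i) (hcau i))
    have hx : ∀ n i, AdicCompletion.evalₐ J n (x i) = Ideal.Quotient.mk _ (p n i) := fun n i =>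
      AdicCompletion.evalₐ_mk J n _
    have hm : ∀ i, AdicCompletion.evalₐ J (m + 1) (x i) = Ideal.Quotient.mk _ (P i) := fun i => by
      rw [hx]
      have := hp 0
      rw [show m + 0 + 1 = m + 1 by omega] at this
      rw [this]
      rfl
    refine ⟨x, fun q => ?_, hm⟩
    rw [hW q x (p (q + 1)) fun i => hx (q + 1) i]
    rcases le_or_gt (q + 1) m with h | h
    · simp only [p, if_pos h]
      rw [← hgV (show q ≤ m by omega), ← hT (show q ≤ m by omega)]
      exact Submodule.mem_map_of_mem hP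
    · obtain ⟨k, rfl⟩ : ∃ k, q = m + k := ⟨q - m, by omega⟩
      rw [hp k]
      exact (seq k).2
  let Sc : Submodule C (Fin N → C) :=
    { carrier := {x | ∀ q, W q x ∈ S q}
      add_mem' := fun {x y} hx hy q => by rw [hWadd]; exact add_mem (hx q) (hy q)
      zero_mem' := fun q => by rw [hW0]; exact zero_mem _
      smul_mem' := fun r x hx q => by rw [hWsmul]; exact Submodule.smul_mem _ _ (hx q) }
  obtain ⟨c, hc⟩ := Ideal.exists_pow_inf_eq_pow_smul (K.map (algebraMap B C)) Sc
  refine ⟨c, fun e => ?_⟩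
  let Ke : Submodule C (Fin N → C) := (K.map (algebraMap B C)) ^ e • ⊤
  obtain ⟨s, hs⟩ := exists_affine_ar (J.map (algebraMap B C)) (Ke.mkQ ∘ₗ Sc.subtype)
  refine ⟨s, fun q m h v hv hvK => ?_⟩
  obtain ⟨P, rfl⟩ := hVs m v
  obtain ⟨P', hP', hPP'⟩ : V m P ∈ Submodule.map (V m) (K ^ e • ⊤) := by
    rwa [Submodule.map_smul'', Submodule.map_top, LinearMap.range_eq_top.2 (hVs _)]
  obtain ⟨x, hxS, hxm⟩ := hlift S hS m P hv
  obtain ⟨x', hx'S, hx'm⟩ := hlift (fun _ => ⊥) (fun _ => Submodule.map_bot _) m (P - P')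
    (by rw [map_sub, hPP', sub_self]; exact zero_mem _)
  let k : Fin N → C := fun i => algebraMap B C (P' i)
  have hk : k ∈ Ke := by
    have h1 : ∀ b : B, b ∈ K ^ e → algebraMap B C b ∈ (K.map (algebraMap B C)) ^ e := fun b hb => by
      rw [← Ideal.map_pow]; exact Ideal.mem_map_of_mem _ hb
    exact mem_smul_pi _ fun i => h1 _ (apply_mem_of_mem_smul_pi _ hP' i)
  have hx'0 : ∀ p, W p x' = 0 := fun p => (Submodule.mem_bot B).1 (hx'S p)
  let t : Sc := ⟨x - x', fun p => by
    rw [sub_eq_add_neg, hWadd, ← neg_one_smul C x', hWsmul, hx'0, smul_zero, add_zero]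
    exact hxS p⟩
  have ht : x - x' - k ∈ (J.map (algebraMap B C)) ^ (m + 1) • (⊤ : Submodule C (Fin N → C)) := by
    have h1 : ∀ i, (x - x' - k) i ∈ (J.map (algebraMap B C)) ^ (m + 1) := fun i => by
      have h2 : AdicCompletion.eval J B (m + 1) ((x - x' - k) i) = 0 := by
        have h3 : AdicCompletion.evalₐ J (m + 1) ((x - x' - k) i) = 0 := by
          rw [Pi.sub_apply, Pi.sub_apply, map_sub, map_sub, hxm, hx'm, AlgHom.commutes, Pi.sub_apply,
            map_sub (Ideal.Quotient.mk _), Ideal.Quotient.algebraMap_eq]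
          ring
        rw [← AdicCompletion.factor_evalₐ_eq_eval J _ (by rw [smul_eq_mul, Ideal.mul_top]), h3, map_zero]
      rw [← LinearMap.mem_ker, ← AdicCompletion.pow_smul_top_eq_ker_eval J.fg_of_isNoetherianRing] at h2
      rw [← Ideal.map_pow]
      rwa [Ideal.smul_top_eq_map] at h2
    exact mem_smul_pi _ h1
  have htm : (Ke.mkQ ∘ₗ Sc.subtype) t ∈ (J.map (algebraMap B C)) ^ (m + 1) • (⊤ : Submodule C _) := by
    have := Submodule.mem_map_of_mem (f := Ke.mkQ) ht
    rw [Submodule.map_smul'', Submodule.map_top, LinearMap.range_eq_top.2 (Submodule.mkQ_surjective _), map_sub,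
      Submodule.mkQ_apply Ke k, (Submodule.Quotient.mk_eq_zero Ke).2 hk, sub_zero] at this
    exact this
  obtain ⟨z, hz, j, hj, hzj⟩ := Submodule.mem_sup.1 (hs (m + 1) (by omega) t htm)
  have hzK : (z : Fin N → C) ∈ (K.map (algebraMap B C)) ^ (e - c) • Sc := by
    have hze : (z : Fin N → C) ∈ (K.map (algebraMap B C)) ^ e • (⊤ : Submodule C (Fin N → C)) :=
      (Submodule.Quotient.mk_eq_zero Ke).1 (LinearMap.mem_ker.1 hz)
    rcases le_or_gt c e with hce | hce
    · have h4 : (z : Fin N → C) ∈ (K.map (algebraMap B C)) ^ e • (⊤ : Submodule C (Fin N → C)) ⊓ Sc := ⟨hze, z.2⟩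
      rw [hc e hce] at h4
      exact Submodule.smul_mono le_rfl inf_le_right h4
    · rw [show e - c = 0 by omega, pow_zero, Ideal.one_eq_top, Submodule.top_smul]
      exact z.2
  have hWmap : ∀ (L : Ideal B) (p : ℕ) (y : Fin N → C), y ∈ L.map (algebraMap B C) • Sc → W p y ∈ L • S p := by
    intro L p y hy
    induction hy using Submodule.smul_induction_on' with
    | smul r hr w hw =>
      induction hr using Submodule.span_induction generalizing w with
      | mem r hr =>
        obtain ⟨b, hb, rfl⟩ := hr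
        rw [hWsmul, AlgHom.commutes, Ideal.Quotient.algebraMap_eq]
        have h5 : rep p (Ideal.Quotient.mk _ b) • W p w = b • W p w := by
          obtain ⟨P₁, hP₁⟩ := hVs p (W p w)
          rw [← hP₁, ← map_smul, ← map_smul]
          refine hVcongr p _ _ fun i => ?_
          rw [Pi.smul_apply, Pi.smul_apply, smul_eq_mul, smul_eq_mul, ← sub_mul]
          exact Ideal.mul_mem_right _ _ (by rw [← Ideal.Quotient.eq, hrep])
        rw [h5]
        exact Submodule.smul_mem_smul hb (hw p)
      | zero => rw [zero_smul, hW0]; exact zero_mem _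
      | add r r' _ _ hr hr' => rw [add_smul, hWadd]; exact add_mem (hr w hw) (hr' w hw)
      | smul b r _ hr => rw [smul_assoc, hWsmul]; exact Submodule.smul_mem _ _ (hr w hw)
    | add y y' _ _ hy hy' => rw [hWadd]; exact add_mem hy hy'
  have hgW : g ((Nat.le_add_right q s).trans h) (V m P) = W q (t : Fin N → C) := by
    show _ = W q (x - x')
    rw [sub_eq_add_neg, hWadd, ← neg_one_smul C x', hWsmul, hx'0, smul_zero, add_zero, hgV]
    refine (hW q x P fun i => ?_).symm
    have := congrArg (Ideal.Quotient.factor (Ideal.pow_le_pow_right (show q + 1 ≤ m + 1 by omega) : J ^ (m + 1) ≤ J ^ (q + 1))) (hxm i)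
    rw [Ideal.Quotient.factor_mk] at this
    rw [← this]
    obtain ⟨f, hf⟩ := AdicCompletion.mk_surjective J B (x i)
    rw [← hf, AdicCompletion.evalₐ_mk, AdicCompletion.evalₐ_mk, Ideal.Quotient.factor_mk, Ideal.Quotient.eq]
    have h6 := f.2 (show q + 1 ≤ m + 1 by omega)
    rw [SModEq.sub_mem, smul_eq_mul, Ideal.mul_top] at h6
    exact h6
  rw [hgW, ← hzj, Submodule.coe_add, hWadd]
  refine add_mem (hWmap _ q _ (by rw [Ideal.map_pow]; exact hzK)) ?_
  have hj' : (j : Fin N → C) ∈ (J ^ (m + 1 - s)).map (algebraMap B C) • Sc := by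
    rw [Ideal.map_pow]
    have := Submodule.mem_map_of_mem (f := Sc.subtype) hj
    rwa [Submodule.map_smul'', Submodule.map_top, Submodule.range_subtype] at this
  have h7 : W q (j : Fin N → C) ∈ (⊥ : Submodule B (M q)) := by
    rw [← hkill q]
    exact Submodule.smul_mono (Ideal.pow_le_pow_right (show q + 1 ≤ m + 1 - s by omega)) le_top (hWmap _ q _ hj')
  rw [(Submodule.mem_bot B).1 h7]
  exact zero_mem _

end GrothLib.FormalExist7
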