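import Groth.Agent.Lib.FormalSys.Quot
import Groth.Agent.Lib.FormalFn.Push
import Groth.Agent.Lib.FittSheaf.Pullback

/-!
# Pullback of formal systems of coherent modules
-/

set_option autoImplicit false
set_option linter.style.haveILetI false
universe u

open CategoryTheory CategoryTheory.Limits AlgebraicGeometry Opposite TopologicalSpace

namespace GrothLib.FormalExist7

variable {A : Type u} [CommRing A] {X Y : Scheme.{u}} [X.Over (Spec (CommRingCat.of A))]
  [Y.Over (Spec (CommRingCat.of A))] (f : X ⟶ Y)
  (hf : f ≫ (Y ↘ Spec (CommRingCat.of A)) = X ↘ Spec (CommRingCat.of A))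

include hf in
theorem pullback_map_smulMod (G : Y.Modules) (a : A) :
    (Scheme.Modules.pullback f).map (Formal.smulMod A G a) =
      Formal.smulMod A ((Scheme.Modules.pullback f).obj G) a := by
  let adj := Scheme.Modules.pullbackPushforwardAdjunction f
  apply (adj.homEquiv _ _).injective
  rw [adj.homEquiv_unit, adj.homEquiv_unit, FormalFn.push_map_smulMod f hf.symm]
  exact ((adj.unit.naturality (Formal.smulMod A G a)).symm.trans
    (FormalSys.smulMod_naturality (adj.unit.app G) a))

include hf in
/-- Pullback commutes with the quotients by multiples of an ideal of the base. -/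
theorem isQuot_pullback {J : Ideal A} {G N : Y.Modules} {π : G ⟶ N} (hπ : FormalSys.IsQuot J π) :
    FormalSys.IsQuot J ((Scheme.Modules.pullback f).map π) := by
  let adj := Scheme.Modules.pullbackPushforwardAdjunction f
  haveI := hπ.epi
  haveI : (Scheme.Modules.pullback f).IsLeftAdjoint := adj.isLeftAdjoint
  haveI : Epi ((Scheme.Modules.pullback f).map π) := inferInstance
  refine FormalSys.IsQuot.mk' (fun a ha => by
    rw [← pullback_map_smulMod f hf, ← Functor.map_comp, hπ.comp_eq_zero a ha]
    haveI := adj.left_adjoint_additive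
    exact Functor.map_zero _ _ _) ?_
  obtain ⟨ψ, hψ⟩ := hπ.exists_desc (adj.homEquiv _ _ (cokernel.π (Formal.smulFamily J
      ((Scheme.Modules.pullback f).obj G)))) fun a ha => by
    rw [← adj.homEquiv_naturality_left, pullback_map_smulMod f hf,
      (FormalSys.IsQuot.cokernelπ J _).comp_eq_zero a ha, adj.homEquiv_unit]
    haveI := adj.right_adjoint_additive
    rw [Functor.map_zero, comp_zero]
  refine ⟨(adj.homEquiv _ _).symm ψ, ?_⟩
  rw [← adj.homEquiv_naturality_left_symm, hψ, Equiv.symm_apply_apply]

include hf in
/-- The levelwise pullback of a coherent formal module is one. -/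
theorem isCohFormal_pullback [IsLocallyNoetherian X] {I : Ideal A} {G : ℕᵒᵖ ⥤ Y.Modules}
    (hG : Formal.IsCohFormal I G) : Formal.IsCohFormal I (G ⋙ Scheme.Modules.pullback f) := by
  refine ⟨fun n => ?_, fun n a ha => ?_, fun n => ?_⟩
  · haveI := (hG.1 n).1
    haveI := GrothLib.FittSheaf.isQuasicoherent_pullback f (G.obj (op n))
    show Coh.IsCoh ((Scheme.Modules.pullback f).obj (G.obj (op n)))
    exact ⟨this, (GrothLib.QCoh.isFiniteType_iff_moduleFinite _).2 fun V hV =>
      GrothLib.FittSheaf.moduleFinite_pullback f (G.obj (op n)) (hG.1 n).2 hV⟩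
  · haveI := (Scheme.Modules.pullbackPushforwardAdjunction f).left_adjoint_additive
    show Formal.smulMod A ((Scheme.Modules.pullback f).obj (G.obj (op n))) a = 0
    rw [← pullback_map_smulMod f hf, hG.2.1 n a ha]
    exact Functor.map_zero _ _ _
  · exact isQuot_pullback f hf (hG.2.2 n)

end GrothLib.FormalExist7
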