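import Groth.Agent.Lib.FormalExist7.Kernel
import Groth.Agent.Lib.FormalExist7.CompletedAR
import Groth.Agent.Lib.FormalExist7.Pullback
import Groth.Agent.Lib.FormalFn.Push
import Groth.Agent.Lib.K0Sub.KerUnit

/-!
# Systems killed by powers of an ideal sheaf
-/

set_option autoImplicit false
set_option linter.style.haveILetI false
universe u

open CategoryTheory CategoryTheory.Limits AlgebraicGeometry Opposite TopologicalSpace

namespace GrothLib.FormalExist7

open GrothLib.FormalSys GrothLib.FormalFun GrothLib.QCoh GrothLib.FormalCd7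

variable {A : Type u} [CommRing A] {X : Scheme.{u}} [X.Over (Spec (CommRingCat.of A))]

theorem killedByIdeal_of_mono {K : X.IdealSheafData} {M N : X.Modules} (f : M ⟶ N) [Mono f]
    (h : ClSub.KilledByIdeal K N) : ClSub.KilledByIdeal K M := fun U a ha m =>
  Cohom.app_injective_of_mono f U.1 (((appLinear f U.1).map_smul a m).trans ((h U a ha _).trans (map_zero _).symm))

theorem killedByIdeal_of_epi [IsLocallyNoetherian X] {K : X.IdealSheafData} {M N : X.Modules} (f : M ⟶ N) [Epi f]
    (hM : Coh.IsCoh M) (hN : Coh.IsCoh N) (h : ClSub.KilledByIdeal K M) : ClSub.KilledByIdeal K N := fun U a ha m => by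
  obtain ⟨m, rfl⟩ := app_surjective_of_epi f hM hN U.2 m
  exact ((appLinear f U.1).map_smul a m).symm.trans ((congrArg _ (h U a ha m)).trans (map_zero _))

/-- Quotients of maps between quotients. -/
theorem isQuot_coker_map {J : Ideal A} {P P' M M' : X.Modules} {f : P ⟶ M} {f' : P' ⟶ M'} {t : M ⟶ M'}
    {s : P ⟶ P'} [Epi s] (ht : IsQuot J t) (w : f ≫ t = s ≫ f') :
    IsQuot J (cokernel.map f f' s t w) := by
  haveI := ht.epi
  haveI : Epi (cokernel.map f f' s t w) := by
    refine epi_of_epi_fac (f := cokernel.π f) (h := t ≫ cokernel.π f') ?_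
    exact cokernel.π_desc _ _ _
  have hk : Formal.KilledBy J (cokernel f') := killedBy_of_epi (cokernel.π f') ht.killedBy
  refine IsQuot.mk' (fun a ha => by rw [smulMod_naturality, hk a ha, comp_zero]) ?_
  have hq := IsQuot.cokernelπ J (cokernel f)
  obtain ⟨χ, hχ⟩ := ht.exists_desc' (cokernel.π f ≫ cokernel.π (Formal.smulFamily J (cokernel f))) hq.killedBy
  have h0 : f' ≫ χ = 0 := by
    rw [← cancel_epi s, ← Category.assoc, ← w, Category.assoc, hχ, cokernel.condition_assoc, zero_comp, comp_zero]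
  refine ⟨cokernel.desc f' χ h0, (cancel_epi (cokernel.π f)).1 ?_⟩
  rw [cokernel.π_desc_assoc, Category.assoc, cokernel.π_desc, hχ]

/-- The levelwise cokernel of a map of systems. -/
noncomputable def cokSys {F G : ℕᵒᵖ ⥤ X.Modules} (β : F ⟶ G) : ℕᵒᵖ ⥤ X.Modules where
  obj n := cokernel (β.app n)
  map {n q} f := cokernel.map (β.app n) (β.app q) (F.map f) (G.map f) (β.naturality f).symm
  map_id n := (cancel_epi (cokernel.π (β.app n))).1 (by simp)
  map_comp f g := (cancel_epi (cokernel.π _)).1 (by simp)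

/-- The projection to the levelwise cokernel. -/
noncomputable def cokSysπ {F G : ℕᵒᵖ ⥤ X.Modules} (β : F ⟶ G) : G ⟶ cokSys β where
  app n := cokernel.π (β.app n)
  naturality {_ _} _ := (cokernel.π_desc _ _ _).symm

theorem isCohFormal_cokSys [IsLocallyNoetherian X] {I : Ideal A} {F G : ℕᵒᵖ ⥤ X.Modules}
    (hF : Formal.IsCohFormal I F) (hG : Formal.IsCohFormal I G) (β : F ⟶ G) :
    Formal.IsCohFormal I (cokSys β) := by
  refine ⟨fun n => isCoh_cokernel _ (hF.1 n) (hG.1 n),
    fun n a ha => ?_, fun n => ?_⟩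
  · show Formal.smulMod A (cokernel (β.app (op n))) a = 0
    rw [← cancel_epi (cokernel.π (β.app (op n))), ← smulMod_naturality, hG.2.1 n a ha, zero_comp, comp_zero]
  · haveI := (isQuot_map hF (Nat.le_succ n)).epi
    exact isQuot_coker_map (s := F.map (homOfLE (Nat.le_succ n)).op) (hG.2.2 n) (β.naturality _).symm

theorem isCohFormal_completion [IsLocallyNoetherian X] (I : Ideal A) {M : X.Modules} (hM : Coh.IsCoh M) :
    Formal.IsCohFormal I (Formal.completion I M) :=
  ⟨fun n => isCoh_modPow I (n + 1) hM, fun n => (IsQuot.modPowπ I (n + 1) M).killedBy,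
    fun n => isQuot_completion_trans I M (Nat.le_succ n)⟩

/-- The map of completions. -/
noncomputable def cmap (I : Ideal A) {M N : X.Modules} (φ : M ⟶ N) :
    Formal.completion I M ⟶ Formal.completion I N :=
  natTrans (fun n => ((isQuot_qπ I M n).exists_desc' (φ ≫ qπ I N n) (isQuot_qπ I N n).killedBy).choose) fun n => by
    haveI := (isQuot_qπ I M (n + 1)).epi
    have e₀ := ((isQuot_qπ I M n).exists_desc' (φ ≫ qπ I N n) (isQuot_qπ I N n).killedBy).choose_spec
    have e₁ := ((isQuot_qπ I M (n + 1)).exists_desc' (φ ≫ qπ I N (n + 1)) (isQuot_qπ I N (n + 1)).killedBy).choose_spec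
    rw [← cancel_epi (qπ I M (n + 1)), ← Category.assoc, qπ_trans, e₀, ← Category.assoc, e₁, Category.assoc, qπ_trans]

@[reassoc]
theorem qπ_cmap (I : Ideal A) {M N : X.Modules} (φ : M ⟶ N) (n : ℕ) :
    qπ I M n ≫ (cmap I φ).app (op n) = φ ≫ qπ I N n :=
  ((isQuot_qπ I M n).exists_desc' (φ ≫ qπ I N n) (isQuot_qπ I N n).killedBy).choose_spec

/-- A map out of a quasi-coherent module vanishing on affine opens vanishes. -/
theorem eq_zero_of_app_eq_zero {M N : X.Modules} [M.IsQuasicoherent] (φ : M ⟶ N)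
    (h : ∀ (y : X), ∃ W : X.affineOpens, y ∈ W.1 ∧ ∀ z, φ.app W.1 z = 0) : φ = 0 :=
  hom_ext_stalkLin fun y v => by
    obtain ⟨W, hy, hW⟩ := h y
    obtain ⟨c, z, hc, hz⟩ := WeakAss.exists_smul_eq_germ W.2 hy v
    rw [stalkLin_zero]
    have h0 : X.presheaf.germ W.1 y hy c • stalkLin φ y v = 0 := by
      rw [← map_smul, hz, stalkLin_germ φ hy z, hW, map_zero]
    exact ((FormalCd7.isUnit_germ hc).smul_eq_zero).1 h0

section PushPull

variable (L : X.IdealSheafData)

/-- `M ↦ M/LM`. -/
noncomputable abbrev modIdeal : X.Modules ⥤ X.Modules :=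
  Scheme.Modules.pullback L.subschemeι ⋙ Scheme.Modules.pushforward L.subschemeι

/-- The quotient map `M ⟶ M/LM`. -/
noncomputable abbrev toModIdeal : 𝟭 X.Modules ⟶ modIdeal L :=
  (Scheme.Modules.pullbackPushforwardAdjunction L.subschemeι).unit

theorem killedByIdeal_modIdeal (M : X.Modules) : ClSub.KilledByIdeal L ((modIdeal L).obj M) := by
  have h := K0Sub.killedByIdeal_push L.subschemeι ((Scheme.Modules.pullback L.subschemeι).obj M)
  rw [Scheme.IdealSheafData.ker_subschemeι] at h
  exact h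

theorem isIso_toModIdeal {M : X.Modules} (hM : Coh.IsCoh M) (h : ClSub.KilledByIdeal L M) :
    IsIso ((toModIdeal L).app M) := by
  haveI := hM.1
  exact isIso_unit_of_killed L.subschemeι M (by rwa [Scheme.IdealSheafData.ker_subschemeι])

theorem epi_toModIdeal [IsLocallyNoetherian X] {M : X.Modules} (hM : Coh.IsCoh M) : Epi ((toModIdeal L).app M) := by
  haveI := hM.1
  haveI : ((modIdeal L).obj M).IsQuasicoherent := (K0Sub.isCoh_pushPull L.subschemeι hM).1
  exact K0Sub.epi_of_app_surjective _ fun U => (K0Sub.app_unit_surjective_and_ker L.subschemeι M U).1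

theorem toModIdeal_app_eq_zero_iff {M : X.Modules} (hM : Coh.IsCoh M) (U : X.affineOpens) (m : Γ(M, U.1)) :
    ((toModIdeal L).app M).app U.1 m = 0 ↔ m ∈ L.ideal U • (⊤ : Submodule Γ(X, U.1) Γ(M, U.1)) := by
  haveI := hM.1
  have h := (K0Sub.app_unit_surjective_and_ker L.subschemeι M U).2 m
  rwa [Scheme.IdealSheafData.ker_subschemeι] at h

theorem isCohFormal_modIdeal [IsNoetherian X] {I : Ideal A} {G : ℕᵒᵖ ⥤ X.Modules} (hG : Formal.IsCohFormal I G) :
    Formal.IsCohFormal I (G ⋙ modIdeal L) := by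
  letI : L.subscheme.Over (Spec (CommRingCat.of A)) := ⟨L.subschemeι ≫ (X ↘ Spec (CommRingCat.of A))⟩
  haveI : IsLocallyNoetherian L.subscheme := LocallyOfFiniteType.isLocallyNoetherian L.subschemeι
  have h := isCohFormal_pullback L.subschemeι rfl hG
  refine ⟨fun n => K0Sub.isCoh_pushPull L.subschemeι (hG.1 n), fun n a ha => ?_, fun n => ?_⟩
  · show Formal.smulMod A ((Scheme.Modules.pushforward L.subschemeι).obj
      ((Scheme.Modules.pullback L.subschemeι).obj (G.obj (op n)))) a = 0
    rw [← FormalFn.push_map_smulMod L.subschemeι rfl,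
      show Formal.smulMod A ((Scheme.Modules.pullback L.subschemeι).obj (G.obj (op n))) a = 0 from h.2.1 n a ha]
    haveI := (Scheme.Modules.pullbackPushforwardAdjunction L.subschemeι).right_adjoint_additive
    exact Functor.map_zero _ _ _
  · exact FormalFn.isQuot_push L.subschemeι rfl (h.1 (n + 1)) (h.1 n) (h.2.2 n)
      (K0Sub.isCoh_pushPull L.subschemeι (hG.1 (n + 1)))

end PushPull

/-- Completed Artin–Rees on an affine open, for a formal submodule. -/
theorem exists_affine_completed_ar [IsNoetherian X] {I : Ideal A} {G R : ℕᵒᵖ ⥤ X.Modules}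
    (hG : Formal.IsCohFormal I G) (hR : Formal.IsCohFormal I R) (ι : R ⟶ G) (K : X.IdealSheafData)
    (W : X.affineOpens) :
    ∃ c : ℕ, ∀ e : ℕ, ∃ d : ℕ, ∀ (q m : ℕ) (h : q + d ≤ m) (z : Γ(R.obj (op m), W.1)),
      appLinear (ι.app (op m)) W.1 z ∈ K.ideal W ^ e • (⊤ : Submodule Γ(X, W.1) _) →
      secTrans G W.1 ((Nat.le_add_right q d).trans h) (appLinear (ι.app (op m)) W.1 z) ∈
        K.ideal W ^ (e - c) • LinearMap.range (appLinear (ι.app (op q)) W.1) := by
  haveI : IsNoetherianRing Γ(X, W.1) := IsLocallyNoetherian.component_noetherian W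
  haveI := (hG.1 0).1
  haveI : Module.Finite Γ(X, W.1) Γ(G.obj (op 0), W.1) :=
    moduleFinite_of_isFiniteType (G.obj (op 0)) (hG.1 0).2 W.2
  obtain ⟨c, hc⟩ := exists_completed_ar (I.map (toSec A W.1)) (K.ideal W) (fun n => Γ(G.obj (op n), W.1))
    (fun {q n} h => secTrans G W.1 h)
    (fun n x => congrArg (fun φ : G.obj (op n) ⟶ G.obj (op n) => (φ.val.app (op W.1)).hom x) (G.map_id _))
    (fun {p q n} h h' x => congrArg (fun φ : G.obj (op n) ⟶ G.obj (op p) => (φ.val.app (op W.1)).hom x)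
      (FormalCd7.trans_comp G h h'))
    (fun {q n} h => (FormalFn.app_isQuot (hG.1 n) (isQuot_map hG h) W.2).1)
    (fun {q n} h => Submodule.ext fun z => by
      rw [LinearMap.mem_ker, secTrans_eq_zero_iff hG W.2 h, Ideal.map_pow])
    (fun n => LinearMap.range (appLinear (ι.app (op n)) W.1))
    (fun {q n} h => by
      have hcomm : ∀ x, secTrans G W.1 h (appLinear (ι.app (op n)) W.1 x) =
          appLinear (ι.app (op q)) W.1 ((trans R h).app W.1 x) := fun x =>
        congrArg (fun φ : R.obj (op n) ⟶ G.obj (op q) => φ.app W.1 x) (ι.naturality (homOfLE h).op).symm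
      refine le_antisymm ?_ ?_
      · rintro _ ⟨_, ⟨x, rfl⟩, rfl⟩
        exact ⟨_, (hcomm x).symm⟩
      · rintro _ ⟨x, rfl⟩
        haveI := (isQuot_map hR h).epi
        obtain ⟨x, rfl⟩ := app_surjective_of_epi (trans R h) (hR.1 n) (hR.1 q) W.2 x
        exact ⟨_, ⟨x, rfl⟩, hcomm x⟩)
  exact ⟨c, fun e => (hc e).imp fun d hd q m h z hz => hd q m h _ ⟨z, rfl⟩ hz⟩

end GrothLib.FormalExist7
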