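import Groth.Agent.Lib.FormalExist7.Twist
import Groth.Agent.Lib.FormalExist7.Kernel
import Groth.Agent.Lib.FormalExist7.TrickyAux
import Groth.Agent.Lib.FormalFun.FullFaithful
import Groth.Agent.Lib.Ample.FiniteGen
import Groth.Agent.Lib.Ample.Generation
import Groth.Agent.Lib.Cohom.Serre
import Groth.Agent.Lib.Euler.GenericCompare

/-!
# Existence for a principal ideal on a scheme with an ample cocycle
-/

set_option autoImplicit false
set_option linter.style.haveILetI false
universe u

open CategoryTheory CategoryTheory.Limits AlgebraicGeometry Opposite TopologicalSpace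

noncomputable section

namespace GrothLib.FormalExist7

open GrothLib.FormalSys GrothLib.FormalFun GrothLib.QCoh GrothLib.FormalCd7
open GrothLib.Ample (Cocycle)

variable {A : Type u} [CommRing A] {X : Scheme.{u}} [X.Over (Spec (CommRingCat.of A))]

theorem moduleFinite_sections_of_isCoh {M : X.Modules} (hM : Coh.IsCoh M) {W : X.Opens} (hW : IsAffineOpen W) :
    Module.Finite Γ(X, W) Γ(M, W) :=
  haveI := hM.1
  QCoh.moduleFinite_of_isFiniteType M hM.2 hW

theorem section_eq_zero_of_germ {M : X.Modules} {W : X.Opens} {s : Γ(M, W)}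
    (h : ∀ (x : X) (hx : x ∈ W), M.presheaf.germ W x hx s = 0) : s = 0 :=
  TopCat.Presheaf.section_ext ⟨M.presheaf, M.isSheaf⟩ W s 0 fun x hx => (h x hx).trans (map_zero _).symm

theorem isCoh_freeMod (X : Scheme.{u}) [IsLocallyNoetherian X] (k : ℕ) : Coh.IsCoh (FlatMod.freeMod X k) :=
  Euler.isCoh_of_isFinLocFree fun x => ⟨⊤, k, trivial, ⟨DCoh.restrictFreeModIso _ k⟩⟩

section Graded

variable {f : A} {G : ℕᵒᵖ ⥤ X.Modules} (hG : Formal.IsCohFormal (Ideal.span {f}) G)

include hG in
theorem exists_psi (n : ℕ) : ∃ ψ : G.obj (op 0) ⟶ G.obj (op (n + 1)),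
    trans G (Nat.zero_le (n + 1)) ≫ ψ = Formal.smulMod A (G.obj (op (n + 1))) (f ^ (n + 1)) := by
  refine (isQuot_map hG (Nat.zero_le (n + 1))).exists_desc _ fun a ha => ?_
  rw [zero_add, pow_one, Ideal.mem_span_singleton'] at ha
  obtain ⟨b, rfl⟩ := ha
  rw [← smulMod_mul]
  refine hG.2.1 (n + 1) _ ?_
  rw [Ideal.span_singleton_pow, Ideal.mem_span_singleton']
  exact ⟨b, by ring⟩

/-- Multiplication by `f ^ (n + 1)` from the bottom level. -/
def psi (n : ℕ) : G.obj (op 0) ⟶ G.obj (op (n + 1)) := (exists_psi hG n).choose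

theorem trans_psi (n : ℕ) :
    trans G (Nat.zero_le (n + 1)) ≫ psi hG n = Formal.smulMod A (G.obj (op (n + 1))) (f ^ (n + 1)) :=
  (exists_psi hG n).choose_spec

theorem psi_comp (n : ℕ) : psi hG n ≫ trans G (Nat.le_succ n) = 0 := by
  haveI := (isQuot_map hG (Nat.zero_le (n + 1))).epi
  rw [← cancel_epi (trans G (Nat.zero_le (n + 1))), reassoc_of% trans_psi hG n, comp_zero, smulMod_naturality,
    hG.2.1 n _ (Ideal.pow_mem_pow (Ideal.mem_span_singleton_self f) _), comp_zero]

/-- The kernels of the transition maps. -/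
abbrev grObj (G : ℕᵒᵖ ⥤ X.Modules) (n : ℕ) : X.Modules := kernel (trans G (Nat.le_succ n))

/-- The surjection from the bottom level onto the kernels. -/
def psiK (n : ℕ) : G.obj (op 0) ⟶ grObj G n := kernel.lift _ (psi hG n) (psi_comp hG n)

theorem psiK_ι (n : ℕ) : psiK hG n ≫ kernel.ι _ = psi hG n := kernel.lift_ι _ _ _

theorem stalk_psi (n : ℕ) (y : X) (v : (G.obj (op (n + 1))).presheaf.stalk y) :
    stalkLin (psi hG n) y (stalkLin (trans G (Nat.zero_le (n + 1))) y v) = toStalk A y (f ^ (n + 1)) • v := by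
  rw [← stalkLin_comp, trans_psi, stalkLin_smulMod]

theorem epi_psiK (n : ℕ) : Epi (psiK hG n) := by
  refine epi_of_stalk _ fun y w => ?_
  have h0 : stalkLin (kernel.ι (trans G (Nat.le_succ n))) y w ∈ LinearMap.ker (stalkLin (trans G (Nat.le_succ n)) y) := by
    rw [LinearMap.mem_ker, ← stalkLin_comp, kernel.condition, stalkLin_zero]
  rw [ker_stalkLin_of_isQuot (isQuot_map hG (Nat.le_succ n)), Ideal.span_singleton_pow, Ideal.map_span,
    Set.image_singleton, Submodule.ideal_span_singleton_smul, Submodule.mem_smul_pointwise_iff_exists] at h0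
  obtain ⟨v, -, hv⟩ := h0
  refine ⟨stalkLin (trans G (Nat.zero_le (n + 1))) y v, stalkLin_injective (kernel.ι _) y ?_⟩
  rw [← stalkLin_comp, psiK_ι, stalk_psi, hv]

theorem psi_eq_zero_succ (n : ℕ) (y : X) (x : (G.obj (op 0)).presheaf.stalk y) (hx : stalkLin (psi hG n) y x = 0) :
    stalkLin (psi hG (n + 1)) y x = 0 := by
  haveI := (isQuot_map hG (Nat.le_succ (n + 1))).epi
  haveI := (isQuot_map hG (Nat.zero_le (n + 1))).epi
  obtain ⟨v, rfl⟩ := stalkLin_surjective (trans G (Nat.zero_le (n + 1))) y x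
  obtain ⟨v', rfl⟩ := stalkLin_surjective (trans G (Nat.le_succ (n + 1))) y v
  rw [stalk_psi, ← map_smul] at hx
  have h1 : toStalk A y (f ^ (n + 1)) • v' ∈ LinearMap.ker (stalkLin (trans G (Nat.le_succ (n + 1))) y) :=
    LinearMap.mem_ker.2 hx
  rw [ker_stalkLin_of_isQuot (isQuot_map hG (Nat.le_succ (n + 1))), Ideal.span_singleton_pow, Ideal.map_span,
    Set.image_singleton, Submodule.ideal_span_singleton_smul, Submodule.mem_smul_pointwise_iff_exists] at h1
  obtain ⟨z, -, hz⟩ := h1
  rw [← stalkLin_comp (trans G _) (trans G _), trans_comp, stalk_psi, pow_succ' f (n + 1), map_mul, mul_smul, ← hz,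
    ← mul_smul, ← map_mul, ← pow_succ' f (n + 1 + 1)]
  refine killedBy_stalk (hG.2.1 (n + 1 + 1)) y ?_ z
  exact Ideal.pow_mem_pow (Ideal.mem_span_singleton_self f) _

include hG in
/-- The graded pieces take finitely many values up to isomorphism. -/
theorem exists_grObj_stable [IsNoetherian X] : ∃ N, ∀ n, N ≤ n → Nonempty (grObj G N ≅ grObj G n) := by
  classical
  have hmono : ∀ {p q : ℕ}, p ≤ q → ∀ (y : X) (x : (G.obj (op 0)).presheaf.stalk y),
      stalkLin (psi hG p) y x = 0 → stalkLin (psi hG q) y x = 0 := fun {p q} h => by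
    induction h with
    | refl => exact fun _ _ h => h
    | step _ ih => exact fun y x h => psi_eq_zero_succ hG _ y x (ih y x h)
  have hU : ∀ y : X, ∃ U : X.affineOpens, y ∈ U.1 := fun y => by
    obtain ⟨U, hU, hy, -⟩ := exists_isAffineOpen_mem_and_subset (Opens.mem_top y)
    exact ⟨⟨U, hU⟩, hy⟩
  choose U hyU using hU
  obtain ⟨t, ht⟩ := isCompact_univ.elim_finite_subcover (fun y => ((U y).1 : Set X)) (fun y => (U y).1.2)
    (fun y _ => Set.mem_iUnion.mpr ⟨y, hyU y⟩)
  have hstab : ∀ y : X, ∃ N, ∀ n, N ≤ n → ∀ z : Γ(G.obj (op 0), (U y).1),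
      (psi hG n).app (U y).1 z = 0 → (psi hG N).app (U y).1 z = 0 := fun y => by
    haveI := IsLocallyNoetherian.component_noetherian (X := X) (U y)
    haveI := moduleFinite_sections_of_isCoh (hG.1 0) (U y).2
    haveI : IsNoetherian Γ(X, (U y).1) Γ(G.obj (op 0), (U y).1) := isNoetherian_of_isNoetherianRing_of_finite _ _
    obtain ⟨N, hN⟩ := monotone_stabilizes_iff_noetherian.2 inferInstance
      (⟨fun n => LinearMap.ker (appLinear (psi hG n) (U y).1), fun p q h z hz => by
        rw [LinearMap.mem_ker] at hz ⊢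
        refine section_eq_zero_of_germ fun x hx => ?_
        exact (stalkLin_germ (psi hG q) hx z).symm.trans (hmono h x _
          ((stalkLin_germ (psi hG p) hx z).trans ((congrArg _ hz).trans (map_zero _))))⟩ :
        ℕ →o Submodule Γ(X, (U y).1) Γ(G.obj (op 0), (U y).1))
    exact ⟨N, fun n hn z hz => show z ∈ LinearMap.ker (appLinear (psi hG N) (U y).1) from
      (hN n hn).ge (show z ∈ LinearMap.ker (appLinear (psi hG n) (U y).1) from hz)⟩
  choose N hN using hstab
  refine ⟨t.sup N, fun n hn => ?_⟩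
  have hker : ∀ {p q : ℕ}, t.sup N ≤ p → kernel.ι (psi hG q) ≫ psi hG p = 0 → kernel.ι (psiK hG q) ≫ psiK hG p = 0 :=
    fun {p q} _ h => by
      rw [← cancel_mono (kernel.ι (trans G (Nat.le_succ p))), zero_comp, Category.assoc, psiK_ι]
      have := congrArg (kernel.lift (psi hG q) (kernel.ι (psiK hG q))
        (by rw [← psiK_ι hG q, kernel.condition_assoc, zero_comp]) ≫ ·) h
      rwa [kernel.lift_ι_assoc, comp_zero] at this
  have h1 : kernel.ι (psiK hG (t.sup N)) ≫ psiK hG n = 0 :=
    hker hn (hom_ext_stalkLin fun y v => by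
      rw [stalkLin_comp, hmono hn y _ (by rw [← stalkLin_comp, kernel.condition, stalkLin_zero]), stalkLin_zero])
  have h2 : kernel.ι (psiK hG n) ≫ psiK hG (t.sup N) = 0 := hker le_rfl (by
    haveI := (isCoh_kernel (psi hG n) (hG.1 0) (hG.1 (n + 1))).1
    refine eq_zero_of_app_eq_zero _ fun y => ?_
    obtain ⟨y', hy't, hy'⟩ := by simpa using ht (Set.mem_univ y)
    refine ⟨U y', hy', fun z => ?_⟩
    have e1 : (psi hG n).app (U y').1 ((kernel.ι (psi hG n)).app (U y').1 z) = 0 :=
      congrArg (fun φ : kernel (psi hG n) ⟶ _ => φ.app (U y').1 z) (kernel.condition (psi hG n))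
    refine section_eq_zero_of_germ fun x hx => ?_
    have e2 := hN y' n ((Finset.le_sup hy't).trans hn) _ e1
    exact (stalkLin_germ (psi hG (t.sup N)) hx _).symm.trans (hmono (Finset.le_sup hy't) x _
      ((stalkLin_germ (psi hG (N y')) hx _).trans ((congrArg _ e2).trans (map_zero _)))))
  haveI := epi_psiK hG n
  haveI := epi_psiK hG (t.sup N)
  let a := Abelian.epiDesc (psiK hG (t.sup N)) (psiK hG n) h1
  let b := Abelian.epiDesc (psiK hG n) (psiK hG (t.sup N)) h2
  exact ⟨⟨a, b, (cancel_epi (psiK hG (t.sup N))).1 (by simp [a, b]), (cancel_epi (psiK hG n)).1 (by simp [a, b])⟩⟩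

end Graded

section Cover

variable (c : Cocycle X)

/-- A map out of the structure module lifts along an epimorphism surjective on global sections. -/
theorem exists_lift_of_surjective {M N : X.Modules} (π : M ⟶ N) (h : Function.Surjective (π.app ⊤))
    (q : Coh.structureModule X ⟶ N) : ∃ q' : Coh.structureModule X ⟶ M, q' ≫ π = q := by
  obtain ⟨s, hs⟩ := h ((N.unitHomEquiv q).1 (op ⊤))
  refine ⟨M.unitHomEquiv.symm (Ample.globalSection M s), N.unitHomEquiv.injective (Subtype.ext (funext fun V => ?_))⟩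
  refine (congrArg (fun t : N.val.sections => t.1 V) ((SheafOfModules.unitHomEquiv_comp_apply _ _).trans
    (congrArg (SheafOfModules.sectionsMap π) (M.unitHomEquiv.apply_symm_apply _)))).trans ?_
  show π.app V.unop (InvExt.mres M le_top s) = _
  exact ((Ample.app_mres π _ s).trans (congrArg _ hs)).trans ((N.unitHomEquiv q).2 (homOfLE le_top).op)

/-- A system of maps from one module which is epi at the bottom is epi at all levels. -/
theorem epi_of_epi_bot [IsNoetherian X] {I : Ideal A} {H : ℕᵒᵖ ⥤ X.Modules} (hH : Formal.IsCohFormal I H)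
    {E : X.Modules} (α : ∀ n, E ⟶ H.obj (op n)) (hα : ∀ n, α n ≫ trans H (Nat.zero_le n) = α 0) (h0 : Epi (α 0))
    (n : ℕ) : Epi (α n) := by
  refine epi_of_stalk _ fun y => LinearMap.range_eq_top.1 (eq_top_iff.2 ?_)
  let J : Ideal (X.presheaf.stalk y) := I.map (toStalk A y)
  let R := LinearMap.range (stalkLin (α n) y)
  let T : Submodule (X.presheaf.stalk y) ((H.obj (op n)).presheaf.stalk y) := ⊤
  have h1 : T ≤ R ⊔ J • T := fun v _ => by
    obtain ⟨u, hu⟩ := stalkLin_surjective (α 0) y (stalkLin (trans H (Nat.zero_le n)) y v)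
    refine Submodule.mem_sup.2 ⟨_, ⟨u, rfl⟩, v - stalkLin (α n) y u, ?_, add_sub_cancel _ _⟩
    have h2 : v - stalkLin (α n) y u ∈ LinearMap.ker (stalkLin (trans H (Nat.zero_le n)) y) := by
      rw [LinearMap.mem_ker, map_sub, ← stalkLin_comp, hα, hu, sub_self]
    rw [ker_stalkLin_of_isQuot (isQuot_map hH (Nat.zero_le n)), zero_add, pow_one] at h2
    exact h2
  have hk : ∀ k, T ≤ R ⊔ J ^ k • T := fun k => by
    induction k with
    | zero => rw [pow_zero, Ideal.one_eq_top, Submodule.top_smul]; exact le_sup_right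
    | succ k ih =>
      refine ih.trans (sup_le le_sup_left ?_)
      refine (Submodule.smul_mono le_rfl h1).trans ?_
      rw [Submodule.smul_sup, ← mul_smul, ← pow_succ]
      exact sup_le (Submodule.smul_le_right.trans le_sup_left) le_sup_right
  have hkill : J ^ (n + 1) • T ≤ ⊥ := by
    rw [show J ^ (n + 1) = (I ^ (n + 1)).map (toStalk A y) from (Ideal.map_pow _ _ _).symm]
    exact mem_range_of_mem_map_smul y ⊥ fun a ha z => killedBy_stalk (hH.2.1 n) y ha z
  exact (hk (n + 1)).trans (sup_le le_rfl (hkill.trans bot_le))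

variable [IsNoetherianRing A] [IsProper (X ↘ Spec (CommRingCat.of A))]

/-- Every coherent formal module for a principal ideal is a quotient of the completion of a coherent module. -/
theorem exists_cover (hc : c.IsAmp) {f : A} {G : ℕᵒᵖ ⥤ X.Modules} (hG : Formal.IsCohFormal (Ideal.span {f}) G) :
    ∃ (E : X.Modules) (_ : Coh.IsCoh E) (β : Formal.completion (Ideal.span {f}) E ⟶ G), ∀ n, Epi (β.app (op n)) := by
  classical
  haveI := SerreVanish.isNoetherian_of_proper (X := X) A
  have hK : ∀ n, Coh.IsCoh (grObj G n) := fun n => isCoh_kernel _ (hG.1 _) (hG.1 _)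
  obtain ⟨N, hN⟩ := exists_grObj_stable hG
  choose d₀ hd₀ using fun n => SerreVanish.evAcyclic c A hc (hK n)
  haveI := (hG.1 0).1
  obtain ⟨d₁, hd₁⟩ := c.eventually_spanned (G.obj (op 0)) hc fun p =>
    ⟨⊤, trivial, fun W hW _ => moduleFinite_sections_of_isCoh (hG.1 0) hW⟩
  let d := max d₁ ((Finset.range (N + 1)).sup d₀)
  have hvan : ∀ n, Subsingleton (Coh.HH X (c.modTwist (grObj G n) d) 1) := fun n => by
    rcases le_or_gt n N with h | h
    · exact hd₀ n d ((Finset.le_sup (f := d₀) (Finset.mem_range_succ_iff.2 h)).trans (le_max_right _ _)) 1 le_rfl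
    · obtain ⟨e⟩ := hN n h.le
      haveI := hd₀ N d ((Finset.le_sup (f := d₀) (Finset.mem_range_succ_iff.2 le_rfl)).trans (le_max_right _ _)) 1 le_rfl
      let e' : c.modTwist (grObj G N) d ≅ c.modTwist (grObj G n) d := (twistF c d).mapIso e
      exact (Euler.hhEquiv (A := A) e' 1).symm.toEquiv.subsingleton
  let H := G ⋙ twistF c d
  have hH : Formal.IsCohFormal (Ideal.span {f}) H := isCohFormal_twist c hG d
  have hsurj : ∀ n, Function.Surjective ((trans H (Nat.le_succ n)).app ⊤) := fun n =>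
    haveI := (isQuot_map hG (Nat.le_succ n)).epi
    app_surjective_of_subsingleton (SerreVanish.twistSeq_shortExact c d
      (ShortComplex.ShortExact.mk' (ShortComplex.exact_of_f_is_kernel
        (ShortComplex.mk (kernel.ι (trans G (Nat.le_succ n))) _ (kernel.condition _)) (kernelIsKernel _))
        inferInstance inferInstance)) ⊤ (Cohom.subsingleton_ext_top_of_HH (hvan n))
  haveI : (H.obj (op 0)).IsQuasicoherent := (hH.1 0).1
  obtain ⟨k, s, hs⟩ := Ample.exists_finite_spanned (H.obj (op 0))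
    (fun p => ⟨⊤, trivial, fun W hW _ => moduleFinite_sections_of_isCoh (hH.1 0) hW⟩)
    (fun s : c.msect (G.obj (op 0)) d ⊤ => (s : Γ(H.obj (op 0), ⊤)))
    (fun O m x hx => hd₁ d (le_max_left _ _) O m x hx)
  obtain ⟨p, hp⟩ := Ample.exists_epi_free _ hs
  choose lift hlift using fun (n : ℕ) (q : Coh.structureModule X ⟶ H.obj (op n)) =>
    exists_lift_of_surjective (trans H (Nat.le_succ n)) (hsurj n) q
  let q : ∀ n, Fin k → (Coh.structureModule X ⟶ H.obj (op n)) := fun n =>
    Nat.rec (motive := fun n => Fin k → (Coh.structureModule X ⟶ H.obj (op n)))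
      (fun i => Sigma.ι (fun _ : Fin k => Coh.structureModule X) i ≫ p) (fun n r i => lift n (r i)) n
  let α : ∀ n, FlatMod.freeMod X k ⟶ H.obj (op n) := fun n => Sigma.desc (q n)
  have hα : ∀ n, α (n + 1) ≫ trans H (Nat.le_succ n) = α n := fun n =>
    Sigma.hom_ext _ _ fun i => by
      rw [← Category.assoc, Sigma.ι_desc, Sigma.ι_desc]
      exact hlift n (q n i)
  have hα0 : ∀ n, α n ≫ trans H (Nat.zero_le n) = α 0 := fun n => by
    induction n with
    | zero => rw [trans_self, Category.comp_id]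
    | succ n ih => rw [← trans_comp H (Nat.zero_le n) (Nat.le_succ n), reassoc_of% (hα n), ih]
  have hp0 : α 0 = p := Sigma.hom_ext _ _ fun i => Sigma.ι_desc _ _
  have hepi : ∀ n, Epi (α n) := epi_of_epi_bot hH α hα0 (hp0 ▸ hp)
  let E := (cinv c).modTwist (FlatMod.freeMod X k) d
  let w : ∀ n, G.obj (op n) ≅ (cinv c).modTwist (H.obj (op n)) d := fun n =>
    @asIso _ _ _ _ (untwistHom c (G.obj (op n)) d) (isIso_untwistHom c (G.obj (op n)) d)
  have hw : ∀ n, (w (n + 1)).hom ≫ (cinv c).mtwistMap (trans H (Nat.le_succ n)) d =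
      trans G (Nat.le_succ n) ≫ (w n).hom := fun n =>
    untwistHom_natural c (trans G (Nat.le_succ n)) d
  let b : ∀ n, E ⟶ G.obj (op n) := fun n => (cinv c).mtwistMap (α n) d ≫ (w n).inv
  have hb : ∀ n, b (n + 1) ≫ trans G (Nat.le_succ n) = b n := fun n => by
    show ((cinv c).mtwistMap (α (n + 1)) d ≫ (w (n + 1)).inv) ≫ _ = (cinv c).mtwistMap (α n) d ≫ (w n).inv
    rw [Iso.eq_comp_inv, ← hα n, SerreVanish.mtwistMap_comp, Category.assoc, Category.assoc, ← hw,
      Iso.inv_hom_id_assoc]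
  have hbe : ∀ n, Epi (b n) := fun n => by
    haveI := hepi n
    haveI := epi_mtwistMap (cinv c) (α n) d
    exact epi_comp _ _
  choose β hβ using fun n => (isQuot_qπ (Ideal.span {f}) E n).exists_desc' (b n) (hG.2.1 n)
  refine ⟨E, Euler.isCoh_modTwist (cinv c) (isCoh_freeMod X k) d, natTrans β fun n => ?_, fun n => ?_⟩
  · haveI := (isQuot_qπ (Ideal.span {f}) E (n + 1)).epi
    rw [← cancel_epi (qπ (Ideal.span {f}) E (n + 1)), ← Category.assoc, qπ_trans, hβ, ← Category.assoc, hβ]
    exact (hb n).symm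
  · haveI := hbe n
    exact epi_of_epi_fac (hβ n)

/-- Existence for a principal ideal on a proper scheme with an ample cocycle. -/
theorem existence_principal_ample (hc : c.IsAmp) {f : A} [IsAdicComplete (Ideal.span {f}) A]
    {G : ℕᵒᵖ ⥤ X.Modules} (hG : Formal.IsCohFormal (Ideal.span {f}) G) :
    ∃ M : X.Modules, Coh.IsCoh M ∧ Nonempty (Formal.completion (Ideal.span {f}) M ≅ G) := by
  haveI := SerreVanish.isNoetherian_of_proper (X := X) A
  obtain ⟨E, hE, β, hβ⟩ := exists_cover c hc hG
  obtain ⟨R, hR, ι, hι, -, e, π, hπ, hπι⟩ :=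
    exists_formal_kernel (isCohFormal_completion _ hE) hG β
  obtain ⟨E', hE', γ, hγ⟩ := exists_cover c hc hR
  obtain ⟨φ, hφ, -⟩ := existsUnique_hom_of_isProperOver (Ideal.span {f}) E' E hE' hE
    ⟨(isClosed_support_of_isCoh hE').inter (isClosed_support_of_isCoh hE), inferInstance⟩ (γ ≫ ι)
  let I : Ideal A := Ideal.span {f}
  have hφn : ∀ n, qπ I E' n ≫ γ.app (op n) ≫ ι.app (op n) = φ ≫ qπ I E n := hφ
  have h0 : ∀ n, φ ≫ qπ I E n ≫ β.app (op n) = 0 := fun n => by
    rw [← Category.assoc, ← hφn, Category.assoc, Category.assoc,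
      show ι.app (op n) ≫ β.app (op n) = 0 from congrArg (fun z => z.app (op n)) hι, comp_zero, comp_zero]
  let π' : ∀ n, cokernel φ ⟶ G.obj (op n) := fun n => cokernel.desc φ _ (h0 n)
  have hπ' : ∀ n, cokernel.π φ ≫ π' n = qπ I E n ≫ β.app (op n) := fun n => cokernel.π_desc _ _ _
  have hM := isCoh_cokernel φ hE' hE
  refine ⟨cokernel φ, hM, exists_completion_iso π' (fun n => ?_) fun n => ?_⟩
  · haveI := hβ n
    haveI := (isQuot_qπ I E n).epi
    haveI : Epi (π' n) := epi_of_epi_fac (hπ' n)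
    refine isQuot_of_stalk _ (hG.2.1 n) fun y w hw => ?_
    obtain ⟨u, rfl⟩ := stalkLin_surjective (cokernel.π φ) y w
    rw [← stalkLin_comp, hπ', stalkLin_comp] at hw
    let v := stalkLin (qπ I E n) y u
    have hEf := isCohFormal_completion I hE
    haveI := (isQuot_map hEf (Nat.le_add_right n e)).epi
    obtain ⟨v', hv'⟩ := stalkLin_surjective (trans (Formal.completion I E) (Nat.le_add_right n e)) y v
    have h1 : stalkLin (β.app (op (n + e))) y v' ∈ LinearMap.ker (stalkLin (trans G (Nat.le_add_right n e)) y) := by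
      rw [LinearMap.mem_ker, ← stalkLin_comp, ← β.naturality, stalkLin_comp]
      exact (congrArg _ hv').trans hw
    rw [ker_stalkLin_of_isQuot (isQuot_map hG (Nat.le_add_right n e))] at h1
    haveI := hβ (n + e)
    have hsj : LinearMap.range (stalkLin (β.app (op (n + e))) y) = ⊤ :=
      LinearMap.range_eq_top.2 (stalkLin_surjective _ y)
    rw [← hsj, ← Submodule.map_top, ← Submodule.map_smul''] at h1
    obtain ⟨z, hz, hzv⟩ := h1
    obtain ⟨κ, hκ⟩ := exists_kernel_preimage (β.app (op (n + e))) y (v := v' - z)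
      (by rw [map_sub, hzv, sub_self])
    have hz0 : stalkLin (trans (Formal.completion I E) (Nat.le_add_right n e)) y z = 0 := by
      rw [← LinearMap.mem_ker, ker_stalkLin_of_isQuot (isQuot_map hEf _)]
      exact hz
    have h2 : stalkLin (ι.app (op n)) y (stalkLin (π n) y κ) = v := by
      rw [← stalkLin_comp, hπι, stalkLin_comp, hκ, map_sub, hz0, sub_zero, hv']
    haveI := hγ n
    haveI := (isQuot_qπ I E' n).epi
    obtain ⟨ε, hε⟩ := stalkLin_surjective (qπ I E' n ≫ γ.app (op n)) y (stalkLin (π n) y κ)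
    have h3 : u - stalkLin φ y ε ∈ LinearMap.ker (stalkLin (qπ I E n) y) := by
      rw [LinearMap.mem_ker, map_sub, ← stalkLin_comp φ, ← hφn, ← Category.assoc, stalkLin_comp, hε, h2, sub_self]
    rw [ker_stalkLin_of_isQuot (isQuot_qπ I E n)] at h3
    have h4 := Submodule.mem_map_of_mem (f := stalkLin (cokernel.π φ) y) h3
    rw [Submodule.map_smul'', map_sub, ← stalkLin_comp φ, cokernel.condition, stalkLin_zero, sub_zero] at h4
    exact Submodule.smul_mono le_rfl le_top h4
  · rw [← cancel_epi (cokernel.π φ), reassoc_of% (hπ' (n + 1)), hπ', ← β.naturality, ← Category.assoc, qπ_trans]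

end Cover

end GrothLib.FormalExist7
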