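import Groth.Agent.Lib.FormalExist7.TrickyAux

/-!
# A system receiving a completion up to a power of an ideal sheaf algebraises
-/

set_option autoImplicit false
set_option linter.style.haveILetI false
universe u

open CategoryTheory CategoryTheory.Limits AlgebraicGeometry Opposite TopologicalSpace

namespace GrothLib.FormalExist7

open GrothLib.FormalSys GrothLib.FormalFun GrothLib.QCoh GrothLib.FormalCd7

variable {A : Type u} [CommRing A] {X : Scheme.{u}} [X.Over (Spec (CommRingCat.of A))]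

/-- A system embedding into a completion with algebraic cokernel is a completion. -/
theorem exists_iso_of_injective [IsNoetherian X] {I : Ideal A} {F : ℕᵒᵖ ⥤ X.Modules}
    (hF : Formal.IsCohFormal I F) {H Q₀ : X.Modules} (hH : Coh.IsCoh H) (hQ : Coh.IsCoh Q₀)
    (β : F ⟶ Formal.completion I H) (d : ℕ)
    (hd : ∀ n : ℕ, kernel.ι (β.app (op (n + d))) ≫ trans F (Nat.le_add_right n d) = 0)
    (a : H ⟶ Q₀) (e : ∀ n : ℕ, cokernel (β.app (op n)) ≅ (Formal.completion I Q₀).obj (op n))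
    (he : ∀ n : ℕ, qπ I H n ≫ cokernel.π (β.app (op n)) ≫ (e n).hom = a ≫ qπ I Q₀ n) :
    Coh.IsCoh (kernel a) ∧ Nonempty (Formal.completion I (kernel a) ≅ F) := by
  have hH' : Coh.IsCoh (kernel a) := isCoh_kernel a hH hQ
  refine ⟨hH', ?_⟩
  obtain ⟨s, hs⟩ := exists_uniform_ar I hH' hH (kernel.ι a)
  let C := Formal.completion I (kernel a)
  -- the image of the kernel in the levels is the image of the system
  let κ : ∀ m, kernel a ⟶ (Formal.completion I H).obj (op m) := fun m => kernel.ι a ≫ qπ I H m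
  have hκ : ∀ m, κ m ≫ cokernel.π (β.app (op m)) = 0 := fun m => by
    rw [← cancel_mono (e m).hom, zero_comp, Category.assoc, Category.assoc, he, kernel.condition_assoc, zero_comp]
  obtain ⟨s₂, hs₂⟩ := exists_uniform_ar I hH hQ a
  have hqm : ∀ n, IsQuot (I ^ (n + 1)) (qπ I H n) := fun n => isQuot_qπ I H n
  -- elements of the system come from the kernel, a bounded number of steps below
  have himg : ∀ q m (h : q ≤ m), q + s₂ ≤ m → ∀ y (f : (F.obj (op m)).presheaf.stalk y),
      ∃ w, stalkLin (κ q) y w = stalkLin (β.app (op q)) y (stalkLin (trans F h) y f) := by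
    intro q m h hqs y f
    haveI := (hqm m).epi
    obtain ⟨g, hg⟩ := stalkLin_surjective (qπ I H m) y (stalkLin (β.app (op m)) y f)
    have h0 : stalkLin (qπ I Q₀ m) y (stalkLin a y g) = 0 := by
      rw [← stalkLin_comp, ← he, stalkLin_comp, hg, ← stalkLin_comp, cokernel.condition_assoc, zero_comp,
        stalkLin_zero]
    rw [← LinearMap.mem_ker, ker_stalkLin_of_isQuot (isQuot_qπ I Q₀ m)] at h0
    obtain ⟨g₀, hg₀, g₁, hg₁, rfl⟩ := Submodule.mem_sup.1 (hs₂ (m + 1) (by omega) y g h0)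
    obtain ⟨w, hw⟩ := exists_kernel_preimage a y (LinearMap.mem_ker.1 hg₀)
    refine ⟨w, ?_⟩
    have hz : stalkLin (qπ I H q) y g₁ = 0 := by
      rw [← LinearMap.mem_ker, ker_stalkLin_of_isQuot (hqm q)]
      exact Submodule.smul_mono_left (Ideal.map_mono (Ideal.pow_le_pow_right (by omega))) hg₁
    rw [← stalkLin_comp (trans F h), β.naturality, stalkLin_comp (β.app (op m)), ← hg,
      ← stalkLin_comp (qπ I H m), qπ_trans, map_add, hz, add_zero]
    exact (stalkLin_comp _ _ _ _).trans (congrArg _ hw)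
  obtain ⟨S, hS⟩ : ∃ S, S = s + s₂ := ⟨_, rfl⟩
  -- from the system to the completion of the kernel
  have hγ : ∀ n, ∃ γ : F.obj (op (n + S)) ⟶ C.obj (op n), ∀ y f w,
      stalkLin (β.app (op (n + s))) y (stalkLin (trans F (show n + s ≤ n + S by omega)) y f) =
        stalkLin (κ (n + s)) y w → stalkLin γ y f = stalkLin (qπ I (kernel a) n) y w := by
    intro n
    have h1 : (trans F (show n + s ≤ n + S by omega) ≫ β.app (op (n + s))) ≫ cokernel.π (κ (n + s)) = 0 :=
      hom_ext_stalkLin fun y f => by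
        obtain ⟨w, hw⟩ := himg (n + s) (n + S) (by omega) (by omega) y f
        rw [stalkLin_comp, stalkLin_comp, ← hw, ← stalkLin_comp, cokernel.condition, stalkLin_zero, stalkLin_zero]
    have h2 : kernel.ι (Abelian.factorThruImage (κ (n + s))) ≫ qπ I (kernel a) n = 0 :=
      hom_ext_stalkLin fun y v => by
        rw [stalkLin_comp, stalkLin_zero, ← LinearMap.mem_ker, ker_stalkLin_of_isQuot (isQuot_qπ I _ n)]
        have h3 : stalkLin (kernel.ι a) y (stalkLin (kernel.ι (Abelian.factorThruImage (κ (n + s)))) y v) ∈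
            LinearMap.ker (stalkLin (qπ I H (n + s)) y) := by
          rw [LinearMap.mem_ker, ← stalkLin_comp, ← stalkLin_comp,
            show kernel.ι a ≫ qπ I H (n + s) = κ (n + s) from rfl]
          conv_lhs => arg 1; arg 1; arg 2; rw [← Abelian.image.fac (κ (n + s))]
          rw [kernel.condition_assoc, zero_comp, stalkLin_zero]
        rw [ker_stalkLin_of_isQuot (hqm (n + s))] at h3
        obtain ⟨z, hz, z', hz', hzz⟩ := Submodule.mem_sup.1 (hs (n + s + 1) (by omega) y _ h3)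
        rw [← hzz, show z = 0 from stalkLin_injective (kernel.ι a) y
          ((LinearMap.mem_ker.1 hz).trans (map_zero _).symm), zero_add]
        exact Submodule.smul_mono_left (Ideal.map_mono (Ideal.pow_le_pow_right (by omega))) hz'
    let δ := (Abelian.epiIsCokernelOfKernel _ (kernelIsKernel (Abelian.factorThruImage (κ (n + s))))).desc
      (CokernelCofork.ofπ _ h2)
    have hδ : Abelian.factorThruImage (κ (n + s)) ≫ δ = qπ I (kernel a) n :=
      (Abelian.epiIsCokernelOfKernel _ (kernelIsKernel (Abelian.factorThruImage (κ (n + s))))).fac _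
        WalkingParallelPair.one
    refine ⟨kernel.lift _ _ h1 ≫ δ, fun y f w hw => ?_⟩
    have h4 : stalkLin (kernel.lift _ _ h1) y f = stalkLin (Abelian.factorThruImage (κ (n + s))) y w := by
      refine stalkLin_injective (Abelian.image.ι (κ (n + s))) y ?_
      rw [← stalkLin_comp, ← stalkLin_comp, kernel.lift_ι, Abelian.image.fac, stalkLin_comp]
      exact hw
    rw [stalkLin_comp, h4, ← stalkLin_comp, hδ]
  choose γ hγs using hγ
  -- from the kernel to the system
  have hψ : ∀ q, ∃ ψ : kernel a ⟶ F.obj (op q), ∀ y f w,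
      stalkLin (β.app (op (q + d))) y f = stalkLin (κ (q + d)) y w →
        stalkLin ψ y w = stalkLin (trans F (Nat.le_add_right q d)) y f := by
    intro q
    have h2 : kernel.ι (Abelian.factorThruImage (β.app (op (q + d)))) ≫ trans F (Nat.le_add_right q d) = 0 := by
      have h3 : kernel.ι (Abelian.factorThruImage (β.app (op (q + d)))) ≫ β.app (op (q + d)) = 0 := by
        conv_lhs => arg 2; rw [← Abelian.image.fac (β.app (op (q + d)))]
        rw [kernel.condition_assoc, zero_comp]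
      rw [← kernel.lift_ι _ _ h3, Category.assoc, hd, comp_zero]
    let δ := (Abelian.epiIsCokernelOfKernel _ (kernelIsKernel (Abelian.factorThruImage (β.app (op (q + d)))))).desc
      (CokernelCofork.ofπ _ h2)
    have hδ : Abelian.factorThruImage (β.app (op (q + d))) ≫ δ = trans F (Nat.le_add_right q d) :=
      (Abelian.epiIsCokernelOfKernel _ (kernelIsKernel (Abelian.factorThruImage (β.app (op (q + d)))))).fac _
        WalkingParallelPair.one
    refine ⟨kernel.lift _ _ (hκ (q + d)) ≫ δ, fun y f w hw => ?_⟩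
    have h4 : stalkLin (Abelian.factorThruImage (β.app (op (q + d)))) y f =
        stalkLin (kernel.lift (cokernel.π (β.app (op (q + d)))) (κ (q + d)) (hκ _)) y w := by
      refine stalkLin_injective (Abelian.image.ι (β.app (op (q + d)))) y ?_
      rw [← stalkLin_comp, ← stalkLin_comp, Abelian.image.fac, kernel.lift_ι]
      exact hw
    rw [stalkLin_comp, ← h4, ← stalkLin_comp, hδ]
  choose ψ hψs using hψ
  have hex : ∀ q y w, ∃ f, stalkLin (β.app (op (q + d))) y f = stalkLin (κ (q + d)) y w := fun q y w =>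
    exists_cokernel_preimage _ y (by rw [← stalkLin_comp, hκ, stalkLin_zero])
  have hγnat : ∀ {q n : ℕ} (h : q ≤ n), trans F (Nat.add_le_add_right h S) ≫ γ q = γ n ≫ trans C h := fun {q n} h =>
    hom_ext_stalkLin fun y f => by
      obtain ⟨w, hw⟩ := himg (n + s) (n + S) (by omega) (by omega) y f
      rw [stalkLin_comp (γ n), hγs n y f w hw.symm, ← stalkLin_comp, qπ_trans, stalkLin_comp]
      refine hγs q y _ w ?_
      have hβ : ∀ (x : (F.obj (op (n + s))).presheaf.stalk y),
          stalkLin (β.app (op (q + s))) y (stalkLin (trans F (Nat.add_le_add_right h s)) y x) =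
            stalkLin (trans (Formal.completion I H) (Nat.add_le_add_right h s)) y
              (stalkLin (β.app (op (n + s))) y x) := fun x => by
        rw [← stalkLin_comp, β.naturality, stalkLin_comp]
      rw [← stalkLin_comp (trans F (Nat.add_le_add_right h S)), trans_comp,
        ← trans_comp F (Nat.add_le_add_right h s) (show n + s ≤ n + S by omega), stalkLin_comp, hβ, ← hw,
        ← stalkLin_comp, Category.assoc, qπ_trans]
  have hm : Monotone fun n : ℕ => n + S := fun x z h => Nat.add_le_add_right h S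
  let α' : (Monotone.functor hm).op ⋙ F ⟶ C :=
    { app := fun n => γ n.unop
      naturality := fun {n q} f => hγnat (leOfHom f.unop) }
  refine ⟨(nonempty_iso_of_isProIso hF (isCohFormal_completion I hH') hm (fun n => Nat.le_add_right n S) α'
    fun n => ?_).some.symm⟩
  -- the inverse
  obtain ⟨b, hb⟩ := (isQuot_qπ I (kernel a) (n + S + d)).exists_desc' (ψ (n + S))
    (killedBy_mono (Ideal.pow_le_pow_right (by omega)) (hF.2.1 (n + S)))
  refine ⟨n + S + d, by omega, b, ?_, ?_⟩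
  · show γ (n + S + d) ≫ b = trans F (show n + S ≤ n + S + d + S by omega)
    refine hom_ext_stalkLin fun y f => ?_
    obtain ⟨w, hw⟩ := himg (n + S + d + s) (n + S + d + S) (by omega) (by omega) y f
    rw [stalkLin_comp, hγs _ y f w hw.symm, ← stalkLin_comp, hb]
    rw [hψs (n + S) y (stalkLin (trans F (show n + S + d ≤ n + S + d + S by omega)) y f) w ?_, ← stalkLin_comp,
      trans_comp]
    rw [← trans_comp F (show n + S + d ≤ n + S + d + s by omega) (show n + S + d + s ≤ n + S + d + S by omega),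
      stalkLin_comp, ← stalkLin_comp _ (β.app (op (n + S + d))), β.naturality, stalkLin_comp, ← hw, ← stalkLin_comp,
      Category.assoc, qπ_trans]
  · show b ≫ γ n = trans C (show n ≤ n + S + d by omega)
    haveI := (isQuot_qπ I (kernel a) (n + S + d)).epi
    rw [← cancel_epi (qπ I (kernel a) (n + S + d)), reassoc_of% hb, qπ_trans]
    refine hom_ext_stalkLin fun y w => ?_
    obtain ⟨f, hf⟩ := hex (n + S) y w
    rw [stalkLin_comp, hψs (n + S) y f w hf]
    refine hγs n y _ w ?_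
    rw [← stalkLin_comp (trans F (Nat.le_add_right (n + S) d)), trans_comp,
      ← stalkLin_comp _ (β.app (op (n + s))), β.naturality, stalkLin_comp, hf, ← stalkLin_comp, Category.assoc,
      qπ_trans]

theorem exact_cokernel_app [IsLocallyNoetherian X] {M N : X.Modules} (φ : M ⟶ N) (hM : Coh.IsCoh M)
    (hN : Coh.IsCoh N) {U : X.Opens} (hU : IsAffineOpen U) (y : Γ(N, U)) (hy : (cokernel.π φ).app U y = 0) :
    ∃ x, φ.app U x = y := by
  have hI : Coh.IsCoh (Abelian.image φ) := isCoh_kernel _ hN (isCoh_cokernel φ hM hN)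
  haveI : (ShortComplex.mk (Abelian.image.ι φ) (cokernel.π φ) (kernel.condition _)).X₁.IsQuasicoherent := hI.1
  have hS : (ShortComplex.mk (Abelian.image.ι φ) (cokernel.π φ) (kernel.condition _)).ShortExact :=
    ShortComplex.ShortExact.mk' (ShortComplex.exact_of_f_is_kernel _ (kernelIsKernel _)) inferInstance inferInstance
  obtain ⟨w, hw⟩ := app_exact hS U y hy
  obtain ⟨x, rfl⟩ := app_surjective_of_epi (Abelian.factorThruImage φ) hM hI hU w
  exact ⟨x, (congrArg (fun ψ => Scheme.Modules.Hom.app ψ U x) (Abelian.image.fac φ)).symm.trans hw⟩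

theorem cmap_comp_app (I : Ideal A) {M N R : X.Modules} (φ : M ⟶ N) (χ : N ⟶ R) (n : ℕ) :
    (cmap I φ).app (op n) ≫ (cmap I χ).app (op n) = (cmap I (φ ≫ χ)).app (op n) := by
  haveI := (isQuot_qπ I M n).epi
  rw [← cancel_epi (qπ I M n), qπ_cmap_assoc, qπ_cmap, qπ_cmap, Category.assoc]

theorem cmap_id_app (I : Ideal A) (M : X.Modules) (n : ℕ) : (cmap I (𝟙 M)).app (op n) = 𝟙 _ := by
  haveI := (isQuot_qπ I M n).epi
  rw [← cancel_epi (qπ I M n), qπ_cmap, Category.id_comp, Category.comp_id]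

theorem cmap_zero_app (I : Ideal A) (M N : X.Modules) (n : ℕ) : (cmap I (0 : M ⟶ N)).app (op n) = 0 := by
  haveI := (isQuot_qπ I M n).epi
  rw [← cancel_epi (qπ I M n), qπ_cmap, zero_comp, comp_zero]

theorem cmap_add_app (I : Ideal A) {M N : X.Modules} (φ χ : M ⟶ N) (n : ℕ) :
    (cmap I (φ + χ)).app (op n) = (cmap I φ).app (op n) + (cmap I χ).app (op n) := by
  haveI := (isQuot_qπ I M n).epi
  rw [← cancel_epi (qπ I M n), qπ_cmap, Preadditive.comp_add, Preadditive.add_comp, qπ_cmap, qπ_cmap]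

theorem ideal_pow_apply (K : X.IdealSheafData) (e : ℕ) (W : X.affineOpens) : (K ^ e).ideal W = K.ideal W ^ e := by
  rw [Scheme.IdealSheafData.ideal_pow, Pi.pow_apply]

/-- A coherent formal module mapping to a completion such that formal submodules of the kernel, and the
cokernels, are killed by a power of an ideal sheaf algebraises, if systems killed by powers of the ideal sheaf do. The property `P` keeps track of supports. -/
theorem existence_tricky'' [IsNoetherian X] (I : Ideal A) (K : X.IdealSheafData) (P : X.Modules → Prop)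
    (hPe : ∀ {M N : X.Modules} (f : M ⟶ N) [Epi f], P M → P N) (hPb : ∀ {M N : X.Modules}, P M → P N → P (M ⊞ N))
    (hff : ∀ (e : ℕ) (M N : X.Modules), Coh.IsCoh M → Coh.IsCoh N → ClSub.KilledByIdeal (K ^ e) M →
      ClSub.KilledByIdeal (K ^ e) N → P M → P N → ∀ ψ : Formal.completion I M ⟶ Formal.completion I N,
        ∃! φ : M ⟶ N, ∀ n : ℕ, Formal.modPowπ I (n + 1) M ≫ ψ.app (op n) = φ ≫ Formal.modPowπ I (n + 1) N)
    (hess : ∀ (e : ℕ) (G : ℕᵒᵖ ⥤ X.Modules), Formal.IsCohFormal I G →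
      (∀ n : ℕ, ClSub.KilledByIdeal (K ^ e) (G.obj (op n))) → P (G.obj (op 0)) →
        ∃ M : X.Modules, Coh.IsCoh M ∧ ClSub.KilledByIdeal (K ^ e) M ∧ P M ∧ Nonempty (Formal.completion I M ≅ G))
    {F : ℕᵒᵖ ⥤ X.Modules} (hF : Formal.IsCohFormal I F) (hPF : P (F.obj (op 0)))
    {H : X.Modules} (α : F ⟶ Formal.completion I H) (hH : Coh.IsCoh H) (hPH : P H)
    (hker : ∀ T : ℕᵒᵖ ⥤ X.Modules, Formal.IsCohFormal I T → ∀ ψ : T ⟶ F, ψ ≫ α = 0 →
      ∃ t : ℕ, ∀ (n : ℕ) (W : X.affineOpens) (a : Γ(X, W.1)), a ∈ (K ^ t).ideal W →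
        ∀ z : Γ(T.obj (op n), W.1), a • (ψ.app (op n)).app W.1 z = 0)
    (hcok : ∃ t : ℕ, ∀ n : ℕ, ClSub.KilledByIdeal (K ^ t) (cokernel (α.app (op n)))) :
    ∃ (M H' : X.Modules) (j : M ⟶ H'), Mono j ∧ P H' ∧ Coh.IsCoh H' ∧ Coh.IsCoh M ∧
      Nonempty (Formal.completion I M ≅ F) := by
  classical
  obtain ⟨t₂, ht₂⟩ := hcok
  obtain ⟨R, hR, ι, hια, -, dR, π, hπ, hπι⟩ := exists_formal_kernel hF (isCohFormal_completion I hH) α
  obtain ⟨t₁, ht₁⟩ := hker R hR ι hια
  obtain ⟨t, hte⟩ : ∃ t, t = t₁ + t₂ := ⟨_, rfl⟩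
  have hpow : ∀ {q : ℕ} (W : X.affineOpens), q ≤ t + 1 → K.ideal W ^ (t + 1) ≤ (K ^ q).ideal W := fun {q} W h => by
    rw [ideal_pow_apply]; exact Ideal.pow_le_pow_right h
  have hRk : ∀ (n : ℕ) (W : X.affineOpens), ∀ b ∈ K.ideal W ^ (t + 1), ∀ r : Γ(R.obj (op n), W.1),
      b • (ι.app (op n)).app W.1 r = 0 := fun n W b hb r => ht₁ n W b (hpow W (by omega) hb) r
  have hCα : ∀ n : ℕ, ClSub.KilledByIdeal (K ^ (t + 1)) (cokernel (α.app (op n))) := fun n W b hb w => ht₂ n W b (by
    rw [ideal_pow_apply] at hb ⊢; exact Ideal.pow_le_pow_right (by omega) hb) w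
  obtain ⟨cov, hcov⟩ := isCompact_univ.elim_finite_subcover (fun W : X.affineOpens => (W.1 : Set X))
    (fun W => W.1.2) fun x _ => by
      obtain ⟨_, ⟨Z, hZ, rfl⟩, hx, -⟩ :=
        X.isBasis_affineOpens.exists_subset_of_mem_open (Set.mem_univ x) isOpen_univ
      exact Set.mem_iUnion.2 ⟨⟨Z, hZ⟩, hx⟩
  choose cW hcW using exists_affine_completed_ar hF hR ι K
  obtain ⟨e, he⟩ : ∃ e, e = cov.sup cW + (t + 1) := ⟨_, rfl⟩
  choose dW hdW using fun W => hcW W e
  obtain ⟨D, hD⟩ : ∃ D, D = cov.sup dW := ⟨_, rfl⟩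
  -- the truncated system
  have hFe := isCohFormal_modIdeal (K ^ e) hF
  haveI := fun n => epi_toModIdeal (K ^ e) (hF.1 n)
  obtain ⟨M, hM, -, hPM, ⟨η⟩⟩ := hess e _ hFe (fun n => killedByIdeal_modIdeal (K ^ e) _)
    (hPe ((toModIdeal (K ^ e)).app (F.obj (op 0))) hPF)
  have hH₂ : Coh.IsCoh (H ⊞ M) := isCoh_biprod' hH hM
  let u : F ⟶ F ⋙ modIdeal (K ^ e) :=
    { app := fun n => (toModIdeal (K ^ e)).app (F.obj n)
      naturality := fun _ _ f => (toModIdeal (K ^ e)).naturality (F.map f) }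
  let β : F ⟶ Formal.completion I (H ⊞ M) :=
    α ≫ cmap I (biprod.inl : H ⟶ H ⊞ M) + u ≫ η.inv ≫ cmap I (biprod.inr : M ⟶ H ⊞ M)
  have hβn : ∀ n, β.app (op n) = α.app (op n) ≫ (cmap I (biprod.inl : H ⟶ H ⊞ M)).app (op n) +
      u.app (op n) ≫ η.inv.app (op n) ≫ (cmap I (biprod.inr : M ⟶ H ⊞ M)).app (op n) := fun n => rfl
  have hfst : ∀ n, β.app (op n) ≫ (cmap I (biprod.fst : H ⊞ M ⟶ H)).app (op n) = α.app (op n) := fun n => by
    rw [hβn, Preadditive.add_comp, Category.assoc, Category.assoc, Category.assoc, cmap_comp_app, cmap_comp_app,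
      biprod.inl_fst, biprod.inr_fst, cmap_id_app, cmap_zero_app, Category.comp_id, comp_zero, comp_zero, add_zero]
  have hsnd : ∀ n, β.app (op n) ≫ (cmap I (biprod.snd : H ⊞ M ⟶ M)).app (op n) = u.app (op n) ≫ η.inv.app (op n) :=
    fun n => by
    rw [hβn, Preadditive.add_comp, Category.assoc, Category.assoc, Category.assoc, cmap_comp_app, cmap_comp_app,
      biprod.inl_snd, biprod.inr_snd, cmap_id_app, cmap_zero_app, comp_zero, Category.comp_id, zero_add]
  -- injectivity
  have hd : ∀ n : ℕ, kernel.ι (β.app (op (n + (D + dR)))) ≫ trans F (Nat.le_add_right n (D + dR)) = 0 := by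
    intro n
    haveI : (kernel (β.app (op (n + (D + dR))))).IsQuasicoherent :=
      (isCoh_kernel _ (hF.1 _) (isCoh_modPow I _ hH₂)).1
    have hle : n + D + dR ≤ n + (D + dR) := by omega
    have hα0 : (kernel.ι (β.app (op (n + (D + dR)))) ≫ trans F hle) ≫ α.app (op (n + D + dR)) = 0 := by
      rw [Category.assoc, α.naturality, ← hfst, Category.assoc, kernel.condition_assoc, zero_comp]
    let σ : kernel (β.app (op (n + (D + dR)))) ⟶ R.obj (op (n + D)) := kernel.lift _ _ hα0 ≫ π (n + D)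
    have hσ : σ ≫ ι.app (op (n + D)) =
        kernel.ι (β.app (op (n + (D + dR)))) ≫ FormalCd7.trans F (show n + D ≤ n + (D + dR) by omega) := by
      rw [Category.assoc, hπι, kernel.lift_ι_assoc, Category.assoc, trans_comp]
    have hu0 : σ ≫ ι.app (op (n + D)) ≫ (toModIdeal (K ^ e)).app (F.obj (op (n + D))) = 0 := by
      rw [← Category.assoc, hσ, Category.assoc]
      show kernel.ι _ ≫ F.map _ ≫ u.app _ = 0
      rw [u.naturality, ← cancel_mono (η.inv.app (op (n + D))), zero_comp, Category.assoc, Category.assoc,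
        η.inv.naturality, ← Category.assoc (u.app _), ← hsnd, Category.assoc, kernel.condition_assoc, zero_comp]
    refine eq_zero_of_app_eq_zero _ fun y => ?_
    obtain ⟨W, hWt, hy⟩ := Set.mem_iUnion₂.1 (hcov (Set.mem_univ y))
    refine ⟨W, hy, fun z => ?_⟩
    have hx : appLinear (ι.app (op (n + D))) W.1 (σ.app W.1 z) ∈
        K.ideal W ^ e • (⊤ : Submodule Γ(X, W.1) _) := by
      rw [← ideal_pow_apply]
      exact (toModIdeal_app_eq_zero_iff (K ^ e) (hF.1 (n + D)) W _).1
        (congrArg (fun f => Scheme.Modules.Hom.app f W.1 z) hu0)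
    have hdle : n + dW W ≤ n + D := Nat.add_le_add_left (hD ▸ Finset.le_sup hWt) n
    have h1 := hdW W n (n + D) hdle (σ.app W.1 z) hx
    have h2 : K.ideal W ^ (e - cW W) • LinearMap.range (appLinear (ι.app (op n)) W.1) = ⊥ := by
      refine eq_bot_iff.2 (Submodule.smul_le.2 fun b hb w hw => ?_)
      obtain ⟨r, rfl⟩ := hw
      rw [Submodule.mem_bot, ← map_smul]
      have hle' : t + 1 ≤ e - cW W := by
        have := Finset.le_sup (f := cW) hWt
        omega
      exact ((appLinear (ι.app (op n)) W.1).map_smul b r).trans (hRk n W b (Ideal.pow_le_pow_right hle' hb) r)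
    rw [h2, Submodule.mem_bot] at h1
    refine Eq.trans ?_ h1
    refine Eq.trans ?_ (congrArg (fun f => Scheme.Modules.Hom.app f W.1 z)
      (show (kernel.ι (β.app (op (n + (D + dR)))) ≫ FormalCd7.trans F (Nat.le_add_right n (D + dR))) =
        σ ≫ ι.app (op (n + D)) ≫ trans F (Nat.le_add_right n D) by
          rw [← Category.assoc, hσ, Category.assoc, trans_comp]))
    rfl
  -- the cokernel is killed by a power of the ideal sheaf
  have hCk : ∀ n : ℕ, ClSub.KilledByIdeal (K ^ (t + 1 + e)) (cokernel (β.app (op n))) := by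
    intro n W b hb w
    haveI := (hF.1 n).1
    have hCn := isCoh_cokernel (β.app (op n)) (hF.1 n) (isCoh_modPow I _ hH₂)
    haveI : Epi (cokernel.π (β.app (op n))) := coequalizer.π_epi
    obtain ⟨y, rfl⟩ := app_surjective_of_epi (cokernel.π (β.app (op n))) (isCoh_modPow I _ hH₂) hCn W.2 w
    let π' := appLinear (cokernel.π (β.app (op n))) W.1
    show b • π' y = 0
    rw [ideal_pow_apply, pow_add] at hb
    refine Submodule.mul_induction_on hb (fun a₁ ha₁ b₁ hb₁ => ?_) fun x z hx hz => by rw [add_smul, hx, hz, add_zero]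
    have htot : y = appLinear ((cmap I (biprod.inl : H ⟶ H ⊞ M)).app (op n)) W.1
          (appLinear ((cmap I (biprod.fst : H ⊞ M ⟶ H)).app (op n)) W.1 y) +
        appLinear ((cmap I (biprod.inr : M ⟶ H ⊞ M)).app (op n)) W.1
          (appLinear ((cmap I (biprod.snd : H ⊞ M ⟶ M)).app (op n)) W.1 y) := by
      refine (congrArg (fun f => Scheme.Modules.Hom.app f W.1 y) (show
        (cmap I (biprod.fst : H ⊞ M ⟶ H)).app (op n) ≫ (cmap I (biprod.inl : H ⟶ H ⊞ M)).app (op n) +
          (cmap I (biprod.snd : H ⊞ M ⟶ M)).app (op n) ≫ (cmap I (biprod.inr : M ⟶ H ⊞ M)).app (op n) = 𝟙 _ by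
        rw [cmap_comp_app, cmap_comp_app, ← cmap_add_app, biprod.total, cmap_id_app])).symm.trans ?_
      rfl
    set y₁ := appLinear ((cmap I (biprod.fst : H ⊞ M ⟶ H)).app (op n)) W.1 y with hy₁
    set y₂ := appLinear ((cmap I (biprod.snd : H ⊞ M ⟶ M)).app (op n)) W.1 y with hy₂
    have hMn : ∀ z : Γ((Formal.completion I M).obj (op n), W.1), b₁ • z = 0 := fun z =>
      killedByIdeal_of_mono (η.hom.app (op n)) (killedByIdeal_modIdeal (K ^ e) (F.obj (op n))) W b₁
        (by rw [ideal_pow_apply]; exact hb₁) z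
    obtain ⟨f, hf⟩ := exact_cokernel_app (α.app (op n)) (hF.1 n) (isCoh_modPow I _ hH) W.2 (a₁ • y₁)
      (((appLinear (cokernel.π (α.app (op n))) W.1).map_smul a₁ y₁).trans
        (hCα n W a₁ (by rw [ideal_pow_apply]; exact ha₁) _))
    have hzero : π' (appLinear (β.app (op n)) W.1 f) = 0 :=
      congrArg (fun g => Scheme.Modules.Hom.app g W.1 f) (cokernel.condition (β.app (op n)))
    have hβf : appLinear (β.app (op n)) W.1 f =
        appLinear ((cmap I (biprod.inl : H ⟶ H ⊞ M)).app (op n)) W.1 (appLinear (α.app (op n)) W.1 f) +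
        appLinear ((cmap I (biprod.inr : M ⟶ H ⊞ M)).app (op n)) W.1
          (appLinear (u.app (op n) ≫ η.inv.app (op n)) W.1 f) := rfl
    have hf' : appLinear (α.app (op n)) W.1 f = a₁ • y₁ := hf
    rw [hβf, map_add, hf'] at hzero
    have h3 := congrArg (b₁ • ·) hzero
    simp only [smul_add, smul_zero, map_smul] at h3
    have hz₂ : ∀ z, b₁ • π' (appLinear ((cmap I (biprod.inr : M ⟶ H ⊞ M)).app (op n)) W.1 z) = 0 := fun z => by
      rw [← map_smul, ← map_smul, hMn, map_zero, map_zero]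
    rw [← map_smul π' b₁ (appLinear ((cmap I (biprod.inr : M ⟶ H ⊞ M)).app (op n)) W.1 _), map_smul, hz₂,
      add_zero] at h3
    rw [htot, map_add, smul_add, mul_smul, mul_smul, hz₂, smul_zero, add_zero, smul_comm]
    exact h3
  -- algebraise the cokernel
  have hC := isCohFormal_cokSys hF (isCohFormal_completion I hH₂) β
  have hPH₂ : P (H ⊞ M) := hPb hPH hPM
  haveI := fun n => (isQuot_qπ I (H ⊞ M) n).epi
  let χ : ∀ n : ℕ, H ⊞ M ⟶ (cokSys β).obj (op n) := fun n => qπ I (H ⊞ M) n ≫ (cokSysπ β).app (op n)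
  have hχe : ∀ n, Epi (χ n) := fun n => by
    haveI : Epi ((cokSysπ β).app (op n)) := coequalizer.π_epi
    exact epi_comp _ _
  have hχt : ∀ {q n : ℕ} (h : q ≤ n), χ n ≫ trans (cokSys β) h = χ q := fun {q n} h => by
    show (qπ I (H ⊞ M) n ≫ (cokSysπ β).app (op n)) ≫ (cokSys β).map (homOfLE h).op = _
    rw [Category.assoc, ← (cokSysπ β).naturality, ← Category.assoc]
    exact congrArg (· ≫ (cokSysπ β).app (op q)) (qπ_trans I (H ⊞ M) h)
  haveI := hχe 0
  obtain ⟨Q₀, hQ₀, hQ₀k, hPQ, ⟨ζ⟩⟩ := hess (t + 1 + e) _ hC hCk (hPe (χ 0) hPH₂)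
  let L := K ^ (t + 1 + e)
  let uL : H ⊞ M ⟶ (modIdeal L).obj (H ⊞ M) := (toModIdeal L).app (H ⊞ M)
  haveI : Epi uL := epi_toModIdeal L hH₂
  have hΦ : Coh.IsCoh ((modIdeal L).obj (H ⊞ M)) := K0Sub.isCoh_pushPull L.subschemeι hH₂
  have hw : ∀ n : ℕ, ∃ w : (modIdeal L).obj (H ⊞ M) ⟶ (cokSys β).obj (op n), uL ≫ w = χ n := fun n => by
    haveI := isIso_toModIdeal L (hC.1 n) (hCk n)
    let uC : (cokSys β).obj (op n) ⟶ (modIdeal L).obj ((cokSys β).obj (op n)) := (toModIdeal L).app _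
    haveI : IsIso uC := isIso_toModIdeal L (hC.1 n) (hCk n)
    have hnat : χ n ≫ uC = uL ≫ (modIdeal L).map (χ n) := (toModIdeal L).naturality (χ n)
    exact ⟨(modIdeal L).map (χ n) ≫ inv uC, by rw [← Category.assoc, ← hnat, Category.assoc, IsIso.hom_inv_id, Category.comp_id]⟩
  choose w hw using hw
  choose ω hω using fun n => (isQuot_qπ I ((modIdeal L).obj (H ⊞ M)) n).exists_desc' (w n) (hC.2.1 n)
  let ψ : Formal.completion I ((modIdeal L).obj (H ⊞ M)) ⟶ cokSys β := natTrans ω fun n => by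
    haveI := (isQuot_qπ I ((modIdeal L).obj (H ⊞ M)) (n + 1)).epi
    rw [← cancel_epi (qπ I ((modIdeal L).obj (H ⊞ M)) (n + 1)), ← Category.assoc, qπ_trans, hω, ← Category.assoc, hω,
      ← cancel_epi uL, hw, ← Category.assoc, hw]
    exact (hχt (Nat.le_succ n)).symm
  obtain ⟨φ, hφ, -⟩ := hff (t + 1 + e) _ Q₀ hΦ hQ₀ (killedByIdeal_modIdeal L _) hQ₀k (hPe uL hPH₂) hPQ (ψ ≫ ζ.inv)
  obtain ⟨hK, hiso⟩ := exists_iso_of_injective hF hH₂ hQ₀ β (D + dR) hd (uL ≫ φ)
    (fun n => (ζ.app (op n)).symm) fun n => by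
      show qπ I (H ⊞ M) n ≫ (cokSysπ β).app (op n) ≫ ζ.inv.app (op n) = (uL ≫ φ) ≫ qπ I Q₀ n
      rw [← Category.assoc, show qπ I (H ⊞ M) n ≫ (cokSysπ β).app (op n) = χ n from rfl, ← hw, Category.assoc,
        Category.assoc]
      congr 1
      rw [← hω, Category.assoc]
      exact hφ n
  exact ⟨_, H ⊞ M, kernel.ι _, inferInstance, hPH₂, hH₂, hK, hiso⟩

/-- A coherent formal module mapping to a completion with kernel and cokernel killed by a power of an ideal
sheaf algebraises, if systems killed by powers of the ideal sheaf do. The property `P` keeps track of supports. -/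
theorem existence_tricky' [IsNoetherian X] (I : Ideal A) (K : X.IdealSheafData) (P : X.Modules → Prop)
    (hPe : ∀ {M N : X.Modules} (f : M ⟶ N) [Epi f], P M → P N) (hPb : ∀ {M N : X.Modules}, P M → P N → P (M ⊞ N))
    (hff : ∀ (e : ℕ) (M N : X.Modules), Coh.IsCoh M → Coh.IsCoh N → ClSub.KilledByIdeal (K ^ e) M →
      ClSub.KilledByIdeal (K ^ e) N → P M → P N → ∀ ψ : Formal.completion I M ⟶ Formal.completion I N,
        ∃! φ : M ⟶ N, ∀ n : ℕ, Formal.modPowπ I (n + 1) M ≫ ψ.app (op n) = φ ≫ Formal.modPowπ I (n + 1) N)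
    (hess : ∀ (e : ℕ) (G : ℕᵒᵖ ⥤ X.Modules), Formal.IsCohFormal I G →
      (∀ n : ℕ, ClSub.KilledByIdeal (K ^ e) (G.obj (op n))) → P (G.obj (op 0)) →
        ∃ M : X.Modules, Coh.IsCoh M ∧ ClSub.KilledByIdeal (K ^ e) M ∧ P M ∧ Nonempty (Formal.completion I M ≅ G))
    {F : ℕᵒᵖ ⥤ X.Modules} (hF : Formal.IsCohFormal I F) (hPF : P (F.obj (op 0)))
    {H : X.Modules} (α : F ⟶ Formal.completion I H) (hH : Coh.IsCoh H) (hPH : P H)
    (hα : Formal2.KerCokerKilledByPow K α) :
    ∃ (M H' : X.Modules) (j : M ⟶ H'), Mono j ∧ P H' ∧ Coh.IsCoh H' ∧ Coh.IsCoh M ∧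
      Nonempty (Formal.completion I M ≅ F) := by
  obtain ⟨t, ht⟩ := hα
  refine existence_tricky'' I K P hPe hPb hff hess hF hPF α hH hPH (fun T _ ψ hψ => ⟨t + 1, fun n W a ha z => ?_⟩)
    ⟨t + 1, fun n => (ht n).2⟩
  have h0 : ψ.app (op n) ≫ α.app (op n) = 0 := congrArg (fun f => f.app (op n)) hψ
  have h1 : a • (kernel.lift _ (ψ.app (op n)) h0).app W.1 z = 0 := (ht n).1 W a ha _
  have h2 := congrArg ((kernel.ι (α.app (op n))).app W.1) h1
  rw [map_zero, Scheme.Modules.Hom.app_smul] at h2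
  refine Eq.trans (congrArg (a • ·) ?_) h2
  exact (congrArg (fun f : T.obj (op n) ⟶ F.obj (op n) => f.app W.1 z) (kernel.lift_ι _ _ h0)).symm

/-- The version without supports. -/
theorem existence_tricky [IsNoetherian X] (I : Ideal A) (K : X.IdealSheafData) {F : ℕᵒᵖ ⥤ X.Modules}
    (hF : Formal.IsCohFormal I F)
    (h₁ : ∀ e : ℕ,
      (∀ (M N : X.Modules), Coh.IsCoh M → Coh.IsCoh N → ClSub.KilledByIdeal (K ^ e) M →
        ClSub.KilledByIdeal (K ^ e) N → ∀ ψ : Formal.completion I M ⟶ Formal.completion I N,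
          ∃! φ : M ⟶ N, ∀ n : ℕ, Formal.modPowπ I (n + 1) M ≫ ψ.app (op n) = φ ≫ Formal.modPowπ I (n + 1) N) ∧
      (∀ G : ℕᵒᵖ ⥤ X.Modules, Formal.IsCohFormal I G → (∀ n : ℕ, ClSub.KilledByIdeal (K ^ e) (G.obj (op n))) →
        ∃ M : X.Modules, Coh.IsCoh M ∧ ClSub.KilledByIdeal (K ^ e) M ∧ Nonempty (Formal.completion I M ≅ G)))
    (h₂ : ∃ (H : X.Modules) (α : F ⟶ Formal.completion I H), Coh.IsCoh H ∧ Formal2.KerCokerKilledByPow K α) :
    ∃ M : X.Modules, Coh.IsCoh M ∧ Nonempty (Formal.completion I M ≅ F) := by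
  obtain ⟨H, α, hH, hα⟩ := h₂
  obtain ⟨M, -, -, -, -, -, hM, hiso⟩ := existence_tricky' I K (fun _ => True) (fun _ _ _ => trivial)
    (fun _ _ => trivial) (fun e M N hM hN hk hk' _ _ => (h₁ e).1 M N hM hN hk hk')
    (fun e G hG hk _ => ((h₁ e).2 G hG hk).imp fun M h => ⟨h.1, h.2.1, trivial, h.2.2⟩) hF trivial α hH trivial hα
  exact ⟨M, hM, hiso⟩

end GrothLib.FormalExist7
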