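import Groth.Agent.Lib.FormalExist7.RelVanish
import Groth.Agent.Lib.FormalExist7.Projective
import Groth.Agent.Lib.FormalExist7.Pullback
import Groth.Agent.Lib.FormalExist7.Tricky
import Groth.Agent.Lib.OX.Exact

/-!
# A map of a formal system on the target into the completion of the pushforward of a twist
-/

set_option autoImplicit false
set_option linter.style.haveILetI false
universe u

open CategoryTheory CategoryTheory.Limits AlgebraicGeometry Opposite TopologicalSpace

noncomputable section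

namespace GrothLib.FormalExist7

open GrothLib.FormalSys GrothLib.FormalFun GrothLib.QCoh GrothLib.FormalCd7
open GrothLib.InvExt (mres)
open GrothLib.Ample (Cocycle res)

section MulSect

variable {X : Scheme.{u}} (c : Cocycle X) {n : ℕ}

/-- Multiplication by a global section of a twist. -/
def mulSect (M : X.Modules) (a : c.sect n ⊤) : M ⟶ c.modTwist M n :=
  ⟨{
    app := fun V => ModuleCat.ofHom
      (X := (M.val.obj V : Type u))
      (Y := ((c.modTwist M n).val.obj V : Type u))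
      { toFun := fun (m : Γ(M, V.unop)) => c.smulSect m (c.sectRes le_top a)
        map_add' := fun (m m' : Γ(M, V.unop)) => c.msect_ext fun i => by
          show (c.sectRes (le_top : V.unop ≤ ⊤) a).1 i • mres M (inf_le_left : V.unop ⊓ c.D i ≤ V.unop) (m + m') =
            (c.sectRes (le_top : V.unop ≤ ⊤) a).1 i • mres M (inf_le_left : V.unop ⊓ c.D i ≤ V.unop) m +
              (c.sectRes (le_top : V.unop ≤ ⊤) a).1 i • mres M (inf_le_left : V.unop ⊓ c.D i ≤ V.unop) m'
          rw [← smul_add]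
          exact congrArg (_ • ·) (map_add _ _ _)
        map_smul' := fun (r : Γ(X, V.unop)) (m : Γ(M, V.unop)) => c.msect_ext fun i => by
          show (c.sectRes le_top a).1 i • mres M (inf_le_left : V.unop ⊓ c.D i ≤ V.unop) (r • m) =
            res (inf_le_left : V.unop ⊓ c.D i ≤ V.unop) r •
              ((c.sectRes le_top a).1 i • mres M (inf_le_left : V.unop ⊓ c.D i ≤ V.unop) m)
          rw [Ample.mres_smul', smul_comm] }
    naturality := fun {V W} f => by
      ext (m : Γ(M, V.unop))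
      refine c.msect_ext fun i => ?_
      show (c.sectRes le_top a).1 i • mres M (inf_le_left : W.unop ⊓ c.D i ≤ W.unop) (mres M (leOfHom f.unop) m) =
        mres M (inf_le_inf_right _ (leOfHom f.unop))
          ((c.sectRes le_top a).1 i • mres M (inf_le_left : V.unop ⊓ c.D i ≤ V.unop) m)
      simp only [Ample.Cocycle.sectRes_apply, Ample.mres_smul', InvExt.mres_mres, Ample.res_res] }⟩

theorem mulSect_natural {M N : X.Modules} (φ : M ⟶ N) (a : c.sect n ⊤) :
    φ ≫ mulSect c N a = mulSect c M a ≫ c.mtwistMap φ n :=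
  Scheme.Modules.hom_ext _ _ fun V => by
    ext (m : Γ(M, V))
    refine c.msect_ext fun i => ?_
    show (c.sectRes le_top a).1 i • mres N (inf_le_left : V ⊓ c.D i ≤ V) (φ.app V m) =
      φ.app (V ⊓ c.D i) ((c.sectRes le_top a).1 i • mres M (inf_le_left : V ⊓ c.D i ≤ V) m)
    rw [Ample.app_smul, Ample.app_mres]

theorem stalk_injective_mulSect (M : X.Modules) (a : c.sect n ⊤) {y : X} (hy : y ∈ c.locus a) :
    Function.Injective (stalkLin (mulSect c M a) y) := by
  refine (injective_iff_map_eq_zero _).2 fun v hv => ?_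
  obtain ⟨O, hyO, z, rfl⟩ := TopCat.Presheaf.exists_germ_eq M.presheaf v
  have h0 : (c.modTwist M n).presheaf.germ O y hyO ((mulSect c M a).app O z) =
      (c.modTwist M n).presheaf.germ O y hyO 0 := by
    rw [map_zero, ← stalkLin_germ (mulSect c M a) hyO z]
    exact hv
  obtain ⟨W, hyW, iU, iV, hW⟩ := (c.modTwist M n).presheaf.germ_eq y hyO hyO _ _ h0
  obtain ⟨i, hi⟩ := Opens.mem_iSup.1 hy
  let T : X.Opens := W ⊓ X.basicOpen (a.1 i)
  have hTW : T ≤ W := inf_le_left
  have hTD : T ≤ W ⊓ c.D i := le_inf inf_le_left (inf_le_right.trans ((c.basicOpen_le_D a i).trans inf_le_right))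
  have hTO : T ≤ O := hTW.trans iU.le
  have hTa : T ≤ ⊤ ⊓ c.D i := inf_le_right.trans (c.basicOpen_le_D a i)
  have h1 := congrArg (fun t : c.msect M n W => mres M hTD (t.1 i)) hW
  change mres M hTD (mres M (inf_le_inf_right _ iU.le)
      ((c.sectRes le_top a).1 i • mres M (inf_le_left : O ⊓ c.D i ≤ O) z)) =
    mres M hTD (mres M (inf_le_inf_right _ iV.le) (0 : Γ(M, O ⊓ c.D i))) at h1
  simp only [Ample.Cocycle.sectRes_apply, Ample.mres_smul', InvExt.mres_mres, Ample.res_res] at h1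
  rw [show mres M _ (0 : Γ(M, O ⊓ c.D i)) = 0 from map_zero _] at h1
  have hu : IsUnit (res hTa (a.1 i)) := by
    have h2 : IsUnit (res (inf_le_right : T ≤ X.basicOpen (a.1 i)) (res (X.basicOpen_le (a.1 i)) (a.1 i))) :=
      (RingedSpace.isUnit_res_basicOpen X.toRingedSpace (a.1 i)).map _
    rw [Ample.res_res] at h2
    exact h2
  have h3 : mres M hTO z = 0 := (hu.smul_eq_zero).1 h1
  have hyT : y ∈ T := ⟨hyW, hi⟩
  rw [← TopCat.Presheaf.germ_res_apply M.presheaf (homOfLE hTO) y hyT z]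
  exact (congrArg _ h3).trans (map_zero _)

end MulSect

section Stable

/-- An increasing chain of kernels out of a coherent module stabilises. -/
theorem exists_kernel_stable {X : Scheme.{u}} [IsNoetherian X] {M : X.Modules} (hM : Coh.IsCoh M)
    {N : ℕ → X.Modules} (hN : ∀ n, (N n).IsQuasicoherent) (g : ∀ n, M ⟶ N n)
    (hmono : ∀ {p q : ℕ}, p ≤ q → ∀ (y : X) (v : M.presheaf.stalk y), stalkLin (g p) y v = 0 →
      stalkLin (g q) y v = 0) :
    ∃ b, ∀ n, b ≤ n → ∀ (y : X) (v : M.presheaf.stalk y), stalkLin (g n) y v = 0 → stalkLin (g b) y v = 0 := by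
  classical
  haveI := hM.1
  have hU : ∀ y : X, ∃ U : X.affineOpens, y ∈ U.1 := fun y => by
    obtain ⟨U, hU, hy, -⟩ := exists_isAffineOpen_mem_and_subset (Opens.mem_top y)
    exact ⟨⟨U, hU⟩, hy⟩
  choose U hyU using hU
  obtain ⟨t, ht⟩ := isCompact_univ.elim_finite_subcover (fun y => ((U y).1 : Set X)) (fun y => (U y).1.2)
    (fun y _ => Set.mem_iUnion.mpr ⟨y, hyU y⟩)
  have hstab : ∀ y : X, ∃ b, ∀ n, b ≤ n → ∀ z : Γ(M, (U y).1), (g n).app (U y).1 z = 0 →
      (g b).app (U y).1 z = 0 := fun y => by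
    haveI := IsLocallyNoetherian.component_noetherian (X := X) (U y)
    haveI := moduleFinite_sections_of_isCoh hM (U y).2
    haveI : _root_.IsNoetherian Γ(X, (U y).1) Γ(M, (U y).1) := isNoetherian_of_isNoetherianRing_of_finite _ _
    obtain ⟨b, hb⟩ := monotone_stabilizes_iff_noetherian.2 inferInstance
      (⟨fun n => LinearMap.ker (appLinear (g n) (U y).1), fun p q h z hz => by
        rw [LinearMap.mem_ker] at hz ⊢
        refine section_eq_zero_of_germ fun x hx => ?_
        exact (stalkLin_germ (g q) hx z).symm.trans (hmono h x _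
          ((stalkLin_germ (g p) hx z).trans ((congrArg _ hz).trans (map_zero _))))⟩ :
        ℕ →o Submodule Γ(X, (U y).1) Γ(M, (U y).1))
    exact ⟨b, fun n hn z hz => show z ∈ LinearMap.ker (appLinear (g b) (U y).1) from
      (hb n hn).ge (show z ∈ LinearMap.ker (appLinear (g n) (U y).1) from hz)⟩
  choose b hb using hstab
  refine ⟨t.sup b, fun n hn y v hv => ?_⟩
  obtain ⟨y', hy't, hy'⟩ := by simpa using ht (Set.mem_univ y)
  have hle : b y' ≤ t.sup b := Finset.le_sup hy't
  haveI := hN n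
  obtain ⟨c₁, z, hc₁, e⟩ := WeakAss.exists_smul_eq_germ (U y').2 hy' v
  have h0 : (N n).presheaf.germ (U y').1 y hy' ((g n).app (U y').1 z) = 0 := by
    rw [← stalkLin_germ (g n) hy' z, ← e, map_smul, hv, smul_zero]
  obtain ⟨c₂, hc₂, hz⟩ := (WeakAss.germ_eq_zero_iff (U y').2 hy' _).1 h0
  have h1 : (g n).app (U y').1 (c₂ • z) = 0 := ((appLinear (g n) (U y').1).map_smul c₂ z).trans hz
  have h2 := hb y' n (hle.trans hn) (c₂ • z) h1
  refine hmono hle y v ?_
  have h3 : stalkLin (g (b y')) y (M.presheaf.germ _ y hy' (c₂ • z)) = 0 :=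
    (stalkLin_germ (g (b y')) hy' _).trans ((congrArg _ h2).trans (map_zero _))
  rw [WeakAss.germ_smul, ← e, map_smul, map_smul] at h3
  exact ((FormalCd7.isUnit_germ hc₁).smul_eq_zero).1 (((FormalCd7.isUnit_germ hc₂).smul_eq_zero).1 h3)

/-- Kernels and images of an increasing chain take finitely many values up to isomorphism. -/
theorem exists_iso_stable {X : Scheme.{u}} [IsNoetherian X] {M : X.Modules} (hM : Coh.IsCoh M)
    {N : ℕ → X.Modules} (hN : ∀ n, (N n).IsQuasicoherent) (g : ∀ n, M ⟶ N n)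
    (hmono : ∀ {p q : ℕ}, p ≤ q → ∀ (y : X) (v : M.presheaf.stalk y), stalkLin (g p) y v = 0 →
      stalkLin (g q) y v = 0) :
    ∃ b, ∀ n, b ≤ n → Nonempty (kernel (g b) ≅ kernel (g n)) ∧
      Nonempty (Abelian.image (g b) ≅ Abelian.image (g n)) := by
  obtain ⟨b, hb⟩ := exists_kernel_stable hM hN g hmono
  refine ⟨b, fun n hn => ?_⟩
  have h1 : kernel.ι (g b) ≫ g n = 0 := hom_ext_stalkLin fun y v => by
    rw [stalkLin_comp, hmono hn y _ (by rw [← stalkLin_comp, kernel.condition, stalkLin_zero]), stalkLin_zero]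
  have h2 : kernel.ι (g n) ≫ g b = 0 := hom_ext_stalkLin fun y v => by
    rw [stalkLin_comp, hb n hn y _ (by rw [← stalkLin_comp, kernel.condition, stalkLin_zero]), stalkLin_zero]
  have h1' : kernel.ι (Abelian.factorThruImage (g b)) ≫ Abelian.factorThruImage (g n) = 0 := by
    rw [← cancel_mono (Abelian.image.ι (g n)), zero_comp, Category.assoc, Abelian.image.fac]
    have := congrArg (kernel.lift (g b) (kernel.ι (Abelian.factorThruImage (g b)))
      ((congrArg (kernel.ι (Abelian.factorThruImage (g b)) ≫ ·) (Abelian.image.fac (g b)).symm).trans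
        (by rw [kernel.condition_assoc, zero_comp])) ≫ ·) h1
    rwa [kernel.lift_ι_assoc, comp_zero] at this
  have h2' : kernel.ι (Abelian.factorThruImage (g n)) ≫ Abelian.factorThruImage (g b) = 0 := by
    rw [← cancel_mono (Abelian.image.ι (g b)), zero_comp, Category.assoc, Abelian.image.fac]
    have := congrArg (kernel.lift (g n) (kernel.ι (Abelian.factorThruImage (g n)))
      ((congrArg (kernel.ι (Abelian.factorThruImage (g n)) ≫ ·) (Abelian.image.fac (g n)).symm).trans
        (by rw [kernel.condition_assoc, zero_comp])) ≫ ·) h2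
    rwa [kernel.lift_ι_assoc, comp_zero] at this
  let i₁ := kernel.lift (g n) (kernel.ι (g b)) h1
  let i₂ := kernel.lift (g b) (kernel.ι (g n)) h2
  let a₁ := Abelian.epiDesc (Abelian.factorThruImage (g b)) (Abelian.factorThruImage (g n)) h1'
  let a₂ := Abelian.epiDesc (Abelian.factorThruImage (g n)) (Abelian.factorThruImage (g b)) h2'
  exact ⟨⟨⟨i₁, i₂, (cancel_mono (kernel.ι (g b))).1 (by simp [i₁, i₂]), (cancel_mono (kernel.ι (g n))).1 (by simp [i₁, i₂])⟩⟩,
    ⟨⟨a₁, a₂, (cancel_epi (Abelian.factorThruImage (g b))).1 (by simp [a₁, a₂]),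
      (cancel_epi (Abelian.factorThruImage (g n))).1 (by simp [a₁, a₂])⟩⟩⟩

/-- Twisting preserves kernels and images. -/
theorem exists_twist_ker_image {X : Scheme.{u}} (c : Cocycle X) {M N : X.Modules} (φ : M ⟶ N) (D : ℕ) :
    Nonempty (c.modTwist (kernel φ) D ≅ kernel (c.mtwistMap φ D)) ∧
      Nonempty (c.modTwist (Abelian.image φ) D ≅ Abelian.image (c.mtwistMap φ D)) := by
  have hk := SerreVanish.twistSeq_shortExact c D (Euler.kernelSeq_shortExact φ)
  have hi := SerreVanish.twistSeq_shortExact c D (Euler.imageSeq_shortExact φ)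
  have hfac : c.mtwistMap (Abelian.factorThruImage φ) D ≫ c.mtwistMap (Abelian.image.ι φ) D = c.mtwistMap φ D := by
    rw [← SerreVanish.mtwistMap_comp, Abelian.image.fac]
  haveI : Mono (c.mtwistMap (Abelian.image.ι φ) D) := hi.mono_f
  haveI : Epi (c.mtwistMap (Abelian.factorThruImage φ) D) := hk.epi_g
  haveI : Mono (c.mtwistMap (kernel.ι φ) D) := hk.mono_f
  constructor
  · have e := (isKernelCompMono hk.exact.fIsKernel (c.mtwistMap (Abelian.image.ι φ) D)
      hfac.symm).conePointUniqueUpToIso (kernelIsKernel (c.mtwistMap φ D))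
    exact ⟨e⟩
  · have h0 : c.mtwistMap (Abelian.image.ι φ) D ≫ cokernel.π (c.mtwistMap φ D) = 0 := by
      rw [← cancel_epi (c.mtwistMap (Abelian.factorThruImage φ) D), comp_zero, ← Category.assoc, hfac,
        cokernel.condition]
    let l : c.modTwist (Abelian.image φ) D ⟶ Abelian.image (c.mtwistMap φ D) := kernel.lift _ _ h0
    haveI : Mono l := mono_of_mono_fac (kernel.lift_ι _ _ h0)
    have hl : c.mtwistMap (Abelian.factorThruImage φ) D ≫ l = Abelian.factorThruImage (c.mtwistMap φ D) :=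
      (cancel_mono (Abelian.image.ι (c.mtwistMap φ D))).1 (by
        rw [Category.assoc, Abelian.image.fac]
        exact (congrArg (_ ≫ ·) (kernel.lift_ι _ _ h0)).trans hfac)
    haveI : Epi l := epi_of_epi_fac hl
    haveI : IsIso l := isIso_of_mono_of_epi l
    exact ⟨asIso l⟩

/-- Vanishing of an extension group passes along isomorphisms. -/
theorem subsingleton_ext_of_iso {X : Scheme.{u}} {P : Sheaf (Opens.grothendieckTopology X) AddCommGrpCat.{u}}
    {M N : X.Modules} (e : M ≅ N) {n : ℕ} (h : Subsingleton (Abelian.Ext.{u} P (Coh.toAb M) n)) :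
    Subsingleton (Abelian.Ext.{u} P (Coh.toAb N) n) := by
  let e' := (SheafOfModules.toSheaf X.ringCatSheaf).mapIso e
  refine ⟨fun a b => ?_⟩
  have h1 : ∀ a : Abelian.Ext.{u} P (Coh.toAb N) n,
      (a.comp (Abelian.Ext.mk₀ e'.inv) (add_zero n)).comp (Abelian.Ext.mk₀ e'.hom) (add_zero n) = a := fun a => by
    rw [Abelian.Ext.comp_assoc a (Abelian.Ext.mk₀ e'.inv) (Abelian.Ext.mk₀ e'.hom) (add_zero n) (add_zero 0)
      (by simp), Abelian.Ext.mk₀_comp_mk₀, e'.inv_hom_id, Abelian.Ext.comp_mk₀_id]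
  rw [← h1 a, ← h1 b, @Subsingleton.elim _ h (a.comp (Abelian.Ext.mk₀ e'.inv) (add_zero n))
    (b.comp (Abelian.Ext.mk₀ e'.inv) (add_zero n))]

end Stable

section Push

variable {A : Type u} [CommRing A] {X Y : Scheme.{u}} [X.Over (Spec (CommRingCat.of A))]
  [Y.Over (Spec (CommRingCat.of A))] (π : X ⟶ Y)
  (hπ : π ≫ (Y ↘ Spec (CommRingCat.of A)) = X ↘ Spec (CommRingCat.of A))

theorem killedBy_span_cokernel_smulMod (M : X.Modules) (a : A) :
    Formal.KilledBy (Ideal.span {a}) (cokernel (Formal.smulMod A M a)) := fun b hb => by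
  obtain ⟨r, rfl⟩ := Ideal.mem_span_singleton'.1 hb
  rw [← cancel_epi (cokernel.π (Formal.smulMod A M a)), comp_zero, mul_comm r a, FormalSys.smulMod_mul,
    ← Category.assoc, ← FormalSys.smulMod_naturality, cokernel.condition_assoc, zero_comp]

theorem isCoh_pushforward [IsProper π] [IsLocallyNoetherian Y] {M : X.Modules} (hM : Coh.IsCoh M) :
    Coh.IsCoh ((Scheme.Modules.pushforward π).obj M) := by
  haveI : PreservesFiniteLimits (Scheme.Modules.pushforward π) := by
    haveI : PreservesLimitsOfSize.{0, 0} (Scheme.Modules.pushforward π) :=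
      (Scheme.Modules.pullbackPushforwardAdjunction π).rightAdjoint_preservesLimits
    exact PreservesLimitsOfSize.preservesFiniteLimits.{0, 0} _
  exact QCoh.isCoh_of_iso ((Scheme.Modules.pushforward π).rightDerivedZeroIsoSelf.app M)
    (Cohom.isCoh_Rpush π M hM 0)

include hπ in
/-- Pushforward of a quotient by a principal ideal, given vanishing of `H¹` over affine opens. -/
theorem isQuot_push_of_vanish [IsProper π] [IsLocallyNoetherian Y] {a : A} {M N : X.Modules} {q : M ⟶ N}
    (hM : Coh.IsCoh M) (hN : Coh.IsCoh N) (hq : IsQuot (Ideal.span {a}) q)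
    (hv : ∀ y : Y, ∃ W : Y.affineOpens, y ∈ W.1 ∧
      Subsingleton (Abelian.Ext.{u} (Cohom.freeFun.obj (π ⁻¹ᵁ W.1)) (Coh.toAb (kernel (Formal.smulMod A M a))) 1) ∧
      Subsingleton (Abelian.Ext.{u} (Cohom.freeFun.obj (π ⁻¹ᵁ W.1)) (Coh.toAb (Abelian.image (Formal.smulMod A M a))) 1)) :
    IsQuot (Ideal.span {a}) ((Scheme.Modules.pushforward π).map q) := by
  haveI := hq.epi
  let μ : M ⟶ M := Formal.smulMod A M a
  obtain ⟨χ, hχ⟩ := hq.exists_desc' (cokernel.π μ) (killedBy_span_cokernel_smulMod M a)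
  let χ' : cokernel μ ⟶ N := cokernel.desc μ q (hq.comp_eq_zero a (Ideal.mem_span_singleton_self a))
  have hχ' : cokernel.π μ ≫ χ' = q := cokernel.π_desc _ _ _
  haveI : IsIso χ' := ⟨χ, (cancel_epi (cokernel.π μ)).1 (by rw [reassoc_of% hχ', hχ, Category.comp_id]),
    (cancel_epi q).1 (by rw [reassoc_of% hχ, hχ', Category.comp_id])⟩
  have hsurj : ∀ W : Y.Opens, Subsingleton (Abelian.Ext.{u} (Cohom.freeFun.obj (π ⁻¹ᵁ W)) (Coh.toAb (Abelian.image μ)) 1) →
      Function.Surjective (q.app (π ⁻¹ᵁ W)) := fun W h s => by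
    obtain ⟨s₁, hs₁⟩ := app_surjective_of_subsingleton (Euler.imageSeq_shortExact μ) (π ⁻¹ᵁ W) h
      ((inv χ').app (π ⁻¹ᵁ W) s)
    refine ⟨s₁, ?_⟩
    rw [← hχ']
    refine (congrArg (χ'.app (π ⁻¹ᵁ W)) hs₁).trans ?_
    exact congrArg (fun φ : N ⟶ N => φ.app (π ⁻¹ᵁ W) s) (IsIso.inv_hom_id χ')
  have hkill : ∀ W : Y.Opens, Subsingleton (Abelian.Ext.{u} (Cohom.freeFun.obj (π ⁻¹ᵁ W)) (Coh.toAb (kernel μ)) 1) →
      ∀ s : Γ(M, π ⁻¹ᵁ W), q.app (π ⁻¹ᵁ W) s = 0 → ∃ t, μ.app (π ⁻¹ᵁ W) t = s := fun W h s hs => by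
    have h0 : (cokernel.π μ).app (π ⁻¹ᵁ W) s = 0 := by
      have h1 : cokernel.π μ = q ≫ χ := hχ.symm
      rw [h1]
      exact (congrArg (χ.app (π ⁻¹ᵁ W)) hs).trans (map_zero _)
    obtain ⟨w, hw⟩ := QCoh.app_exact (Euler.imageSeq_shortExact μ) (π ⁻¹ᵁ W) s h0
    obtain ⟨t, ht⟩ := app_surjective_of_subsingleton (Euler.kernelSeq_shortExact μ) (π ⁻¹ᵁ W) h w
    refine ⟨t, ?_⟩
    rw [← Abelian.image.fac μ]
    exact (congrArg ((Abelian.image.ι μ).app (π ⁻¹ᵁ W)) ht).trans hw
  haveI := (isCoh_pushforward π hM).1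
  haveI := (isCoh_pushforward π hN).1
  haveI : Epi ((Scheme.Modules.pushforward π).map q) := epi_of_stalk _ fun y v => by
    obtain ⟨W, hyW, -, h₂⟩ := hv y
    obtain ⟨c₁, z, hc₁, e⟩ := WeakAss.exists_smul_eq_germ W.2 hyW v
    obtain ⟨s, hs⟩ := hsurj W.1 h₂ z
    refine ⟨(↑(FormalCd7.isUnit_germ (hy := hyW) hc₁).unit⁻¹ : Y.presheaf.stalk y) •
      ((Scheme.Modules.pushforward π).obj M).presheaf.germ W.1 y hyW s, ?_⟩
    rw [map_smul, stalkLin_germ ((Scheme.Modules.pushforward π).map q) hyW s,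
      show ((Scheme.Modules.pushforward π).map q).app W.1 s = z from hs, ← e, smul_smul,
      (FormalCd7.isUnit_germ (hy := hyW) hc₁).val_inv_mul, one_smul]
  refine isQuot_of_stalk _ (fun b hb => ?_) fun y v hv' => ?_
  · rw [← FormalFn.push_map_smulMod π hπ.symm, hq.killedBy b hb]
    haveI := (Scheme.Modules.pullbackPushforwardAdjunction π).right_adjoint_additive
    exact Functor.map_zero _ _ _
  obtain ⟨W, hyW, h₁, -⟩ := hv y
  obtain ⟨c₁, z, hc₁, e⟩ := WeakAss.exists_smul_eq_germ W.2 hyW v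
  have h0 : ((Scheme.Modules.pushforward π).obj N).presheaf.germ W.1 y hyW
      (((Scheme.Modules.pushforward π).map q).app W.1 z) = 0 := by
    rw [← stalkLin_germ ((Scheme.Modules.pushforward π).map q) hyW z, ← e, map_smul, hv', smul_zero]
  obtain ⟨c₂, hc₂, hz⟩ := (WeakAss.germ_eq_zero_iff W.2 hyW _).1 h0
  obtain ⟨t, ht⟩ := hkill W.1 h₁ (c₂ • z : Γ((Scheme.Modules.pushforward π).obj M, W.1))
    (((appLinear ((Scheme.Modules.pushforward π).map q) W.1).map_smul c₂ z).trans hz)
  have h2 : (Formal.smulMod A ((Scheme.Modules.pushforward π).obj M) a).app W.1 t = c₂ • z := by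
    rw [← FormalFn.push_map_smulMod π hπ.symm]
    exact ht
  have h3 := (stalkLin_germ (Formal.smulMod A ((Scheme.Modules.pushforward π).obj M) a) hyW t).trans
    (congrArg _ h2)
  rw [stalkLin_smulMod, WeakAss.germ_smul, ← e, smul_smul] at h3
  have hu : IsUnit (Y.presheaf.germ W.1 y hyW c₂ * Y.presheaf.germ W.1 y hyW c₁) :=
    (FormalCd7.isUnit_germ hc₂).mul (FormalCd7.isUnit_germ hc₁)
  refine (Submodule.smul_mem_iff_of_isUnit _ hu).1 (h3 ▸ ?_)
  exact Submodule.smul_mem_smul (Ideal.mem_map_of_mem _ (Ideal.mem_span_singleton_self a)) Submodule.mem_top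

end Push

section Alpha

variable {A : Type u} [CommRing A] {X Y : Scheme.{u}} [X.Over (Spec (CommRingCat.of A))]
  [Y.Over (Spec (CommRingCat.of A))] (π : X ⟶ Y)
  (hπ : π ≫ (Y ↘ Spec (CommRingCat.of A)) = X ↘ Spec (CommRingCat.of A))

/-- An ample cocycle has sections of a common large degree whose loci cover. -/
theorem exists_cover_sect [CompactSpace X] {c : Cocycle X} (hc : c.IsAmp) (d₀ : ℕ) :
    ∃ (D : ℕ) (k : ℕ) (b : Fin k → c.sect D ⊤), d₀ ≤ D ∧ ∀ y : X, ∃ i, y ∈ c.locus (b i) := by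
  classical
  choose e a hpa _ using hc
  obtain ⟨t, ht⟩ := isCompact_univ.elim_finite_subcover (fun p => (c.locus (a p) : Set X))
    (fun p => (c.locus (a p)).2) (fun p _ => Set.mem_iUnion.mpr ⟨p, hpa p⟩)
  let d := (∏ p : t, (e p.1 + 1)) * (d₀ + 1)
  have hdiv : ∀ p : t, ∃ q, 0 < q ∧ (e p.1 + 1) * q = d := fun p => by
    obtain ⟨q, hq⟩ := Finset.dvd_prod_of_mem (fun p : t => e p.1 + 1) (Finset.mem_univ p)
    have hpos : 0 < ∏ p : t, (e p.1 + 1) := Finset.prod_pos fun p _ => Nat.succ_pos _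
    refine ⟨q * (d₀ + 1), ?_, ?_⟩
    · refine Nat.mul_pos (Nat.pos_of_ne_zero fun h => ?_) (Nat.succ_pos _)
      rw [h, mul_zero] at hq
      omega
    · show _ = (∏ p : t, (e p.1 + 1)) * (d₀ + 1)
      rw [hq, mul_assoc]
  choose q hq hqd using hdiv
  refine ⟨d, t.card, fun i => c.sectCast (hqd (t.equivFin.symm i))
    (c.sectPow (a (t.equivFin.symm i).1) (q (t.equivFin.symm i))), ?_, fun y => ?_⟩
  · have hpos : 1 ≤ ∏ p : t, (e p.1 + 1) := Finset.prod_pos fun p _ => Nat.succ_pos _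
    calc d₀ ≤ 1 * (d₀ + 1) := by omega
      _ ≤ d := Nat.mul_le_mul_right _ hpos
  · obtain ⟨p, hp, hy⟩ := Set.mem_iUnion₂.1 (ht (Set.mem_univ y))
    refine ⟨t.equivFin ⟨p, hp⟩, ?_⟩
    rw [c.locus_sectCast, c.locus_sectPow _ (hq _), Equiv.symm_apply_apply]
    exact hy

theorem support_push_subset_image {X Y : Scheme.{u}} (π : X ⟶ Y) {N : X.Modules}
    (hc : IsClosed (π '' CohB1.support N)) :
    CohB1.support ((Scheme.Modules.pushforward π).obj N) ⊆ π '' CohB1.support N := by
  intro y hy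
  by_contra hyN
  refine absurd hy (notMem_support_of_forall_subsingleton _ (W := ⟨(π '' CohB1.support N)ᶜ, hc.isOpen_compl⟩)
    (fun V hV => ?_) hyN)
  refine (subsingleton_of_forall_eq 0 fun (s : Γ(N, π ⁻¹ᵁ V)) => section_eq_zero_of_germ fun x hx => ?_)
  haveI := stalk_subsingleton_of_notMem (M := N) (x := x) fun h => hV hx ⟨x, h, rfl⟩
  exact Subsingleton.elim _ _

theorem support_biprod_subset {Y : Scheme.{u}} (M N : Y.Modules) :
    CohB1.support (M ⊞ N) ⊆ CohB1.support M ∪ CohB1.support N := by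
  intro y hy
  by_contra h
  haveI := stalk_subsingleton_of_notMem fun hm => h (Or.inl hm)
  haveI : Subsingleton (N.presheaf.stalk y) := stalk_subsingleton_of_notMem fun hm => h (Or.inr hm)
  refine hy (subsingleton_of_forall_eq 0 fun v => ?_)
  have h1 : stalkLin (𝟙 (M ⊞ N)) y v =
      stalkLin (biprod.fst ≫ biprod.inl + biprod.snd ≫ biprod.inr : M ⊞ N ⟶ M ⊞ N) y v := by rw [biprod.total]
  rw [stalkLin_id, stalkLin_add, stalkLin_comp, stalkLin_comp] at h1
  rw [h1, Subsingleton.elim (stalkLin biprod.fst y v) 0, Subsingleton.elim (stalkLin biprod.snd y v) 0,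
    map_zero, map_zero, add_zero]

/-- Finitely many maps into one completion combine into one with the common kernel. -/
theorem exists_combine [IsLocallyNoetherian Y] (I : Ideal A) {F : ℕᵒᵖ ⥤ Y.Modules} {H₀ : Y.Modules}
    (hH₀ : Coh.IsCoh H₀) : ∀ (k : ℕ) (α : Fin k → (F ⟶ Formal.completion I H₀)),
    ∃ (H : Y.Modules) (_ : Coh.IsCoh H) (β : F ⟶ Formal.completion I H),
      (∀ n i, kernel.ι (β.app (op n)) ≫ (α i).app (op n) = 0) ∧ CohB1.support H ⊆ CohB1.support H₀ := by
  intro k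
  induction k with
  | zero => exact fun α => ⟨H₀, hH₀, 0, fun n i => i.elim0, subset_rfl⟩
  | succ k ih =>
    intro α
    obtain ⟨H, hH, β, hβ, hsupp⟩ := ih fun i => α i.castSucc
    let γ : F ⟶ Formal.completion I (H ⊞ H₀) :=
      β ≫ cmap I (biprod.inl : H ⟶ H ⊞ H₀) + α (Fin.last k) ≫ cmap I (biprod.inr : H₀ ⟶ H ⊞ H₀)
    have hγ : ∀ n, γ.app (op n) = β.app (op n) ≫ (cmap I (biprod.inl : H ⟶ H ⊞ H₀)).app (op n) +
        (α (Fin.last k)).app (op n) ≫ (cmap I (biprod.inr : H₀ ⟶ H ⊞ H₀)).app (op n) := fun n => rfl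
    have hfst : ∀ n, γ.app (op n) ≫ (cmap I (biprod.fst : H ⊞ H₀ ⟶ H)).app (op n) = β.app (op n) := fun n => by
      rw [hγ, Preadditive.add_comp, Category.assoc, Category.assoc, cmap_comp_app, cmap_comp_app, biprod.inl_fst,
        biprod.inr_fst, cmap_id_app, cmap_zero_app, Category.comp_id, comp_zero, add_zero]
    have hsnd : ∀ n, γ.app (op n) ≫ (cmap I (biprod.snd : H ⊞ H₀ ⟶ H₀)).app (op n) =
        (α (Fin.last k)).app (op n) := fun n => by
      rw [hγ, Preadditive.add_comp, Category.assoc, Category.assoc, cmap_comp_app, cmap_comp_app, biprod.inl_snd,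
        biprod.inr_snd, cmap_id_app, cmap_zero_app, Category.comp_id, comp_zero, zero_add]
    refine ⟨H ⊞ H₀, isCoh_biprod' hH hH₀, γ, fun n i => ?_,
      (support_biprod_subset H H₀).trans (Set.union_subset hsupp subset_rfl)⟩
    refine Fin.lastCases ?_ (fun j => ?_) i
    · rw [← hsnd, kernel.condition_assoc, zero_comp]
    · have h : kernel.ι (γ.app (op n)) ≫ β.app (op n) = 0 := by rw [← hfst, kernel.condition_assoc, zero_comp]
      have := congrArg (kernel.lift (β.app (op n)) (kernel.ι (γ.app (op n))) h ≫ ·) (hβ n j)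
      rwa [kernel.lift_ι_assoc, comp_zero] at this

include hπ in
/-- A formal system on the target maps to the completion of a coherent module, with kernels inside those of the
units of pullback and pushforward, when its pullback is a completion and the source has an ample cocycle. -/
theorem exists_alpha [IsProper π] [IsNoetherian X] [IsLocallyNoetherian Y] [CompactSpace Y] {c : Cocycle X}
    (hc : c.IsAmp) {f : A} {F : ℕᵒᵖ ⥤ Y.Modules} (hF : Formal.IsCohFormal (Ideal.span {f}) F)
    {M : X.Modules} (hM : Coh.IsCoh M)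
    (η : Formal.completion (Ideal.span {f}) M ≅ F ⋙ Scheme.Modules.pullback π) :
    ∃ (H : Y.Modules) (_ : Coh.IsCoh H) (α : F ⟶ Formal.completion (Ideal.span {f}) H),
      (∀ n, kernel.ι (α.app (op n)) ≫
        (Scheme.Modules.pullbackPushforwardAdjunction π).unit.app (F.obj (op n)) = 0) ∧
        CohB1.support H ⊆ π '' CohB1.support M := by
  classical
  let adj := Scheme.Modules.pullbackPushforwardAdjunction π
  let I : Ideal A := Ideal.span {f}
  have hsp : ∀ n : ℕ, I ^ (n + 1) = Ideal.span {f ^ (n + 1)} := fun n => Ideal.span_singleton_pow f (n + 1)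
  -- the kernels and images of the powers take finitely many values
  let μ : ∀ n : ℕ, M ⟶ M := fun n => Formal.smulMod A M (f ^ (n + 1))
  obtain ⟨bd, hbd⟩ := exists_iso_stable hM (fun _ => hM.1) μ (fun {p q} h y v hv => by
    rw [stalkLin_smulMod] at hv ⊢
    rw [show q + 1 = (q - p) + (p + 1) by omega, pow_add, map_mul, mul_smul, hv, smul_zero])
  obtain ⟨cov, hcov⟩ := isCompact_univ.elim_finite_subcover (fun W : Y.affineOpens => (W.1 : Set Y))
    (fun W => W.1.2) fun x _ => by
      obtain ⟨_, ⟨Z, hZ, rfl⟩, hx, -⟩ :=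
        Y.isBasis_affineOpens.exists_subset_of_mem_open (Set.mem_univ x) isOpen_univ
      exact Set.mem_iUnion.2 ⟨⟨Z, hZ⟩, hx⟩
  have hKc : ∀ n, Coh.IsCoh (kernel (μ n)) := fun n => isCoh_kernel _ hM hM
  have hIc : ∀ n, Coh.IsCoh (Abelian.image (μ n)) := fun n => isCoh_kernel _ hM (isCoh_cokernel _ hM hM)
  choose dK hdK using fun (n : ℕ) (W : Y.affineOpens) => exists_vanish_preimage c π hc (hKc n) W.2
  choose dI hdI using fun (n : ℕ) (W : Y.affineOpens) => exists_vanish_preimage c π hc (hIc n) W.2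
  let d₀ := (Finset.range (bd + 1) ×ˢ cov).sup fun p => max (dK p.1 p.2) (dI p.1 p.2)
  obtain ⟨D, k, b, hdD, hb⟩ := exists_cover_sect hc d₀
  have hvan : ∀ (n : ℕ), ∀ W ∈ cov,
      Subsingleton (Abelian.Ext.{u} (Cohom.freeFun.obj (π ⁻¹ᵁ W.1)) (Coh.toAb (c.modTwist (kernel (μ n)) D)) 1) ∧
      Subsingleton (Abelian.Ext.{u} (Cohom.freeFun.obj (π ⁻¹ᵁ W.1)) (Coh.toAb (c.modTwist (Abelian.image (μ n)) D)) 1) := by
    intro n W hW
    have hle : ∀ m, m ≤ bd → max (dK m W) (dI m W) ≤ D := fun m hm =>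
      (Finset.le_sup (f := fun p => max (dK p.1 p.2) (dI p.1 p.2)) (b := (m, W))
        (Finset.mem_product.2 ⟨Finset.mem_range_succ_iff.2 hm, hW⟩)).trans hdD
    rcases le_or_gt n bd with h | h
    · exact ⟨hdK n W D ((le_max_left _ _).trans (hle n h)), hdI n W D ((le_max_right _ _).trans (hle n h))⟩
    · obtain ⟨⟨e₁⟩, ⟨e₂⟩⟩ := hbd n h.le
      exact ⟨subsingleton_ext_of_iso ((twistF c D).mapIso e₁) (hdK bd W D ((le_max_left _ _).trans (hle bd le_rfl))),
        subsingleton_ext_of_iso ((twistF c D).mapIso e₂) (hdI bd W D ((le_max_right _ _).trans (hle bd le_rfl)))⟩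
  -- the completion of the pushforward of the twist
  have hG := isCohFormal_pullback π hπ hF
  let G := F ⋙ Scheme.Modules.pullback π
  let S : ℕᵒᵖ ⥤ Y.Modules := (G ⋙ twistF c D) ⋙ Scheme.Modules.pushforward π
  let H₀ : Y.Modules := (Scheme.Modules.pushforward π).obj (c.modTwist M D)
  have hH₀ : Coh.IsCoh H₀ := isCoh_pushforward π (Euler.isCoh_modTwist c hM D)
  let q : ∀ n, M ⟶ G.obj (op n) := fun n => qπ I M n ≫ η.hom.app (op n)
  have hqQ : ∀ n, IsQuot (I ^ (n + 1)) ((Scheme.Modules.pushforward π).map (c.mtwistMap (q n) D)) := fun n => by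
    have h1 := isQuot_mtwistMap c hM ((isQuot_qπ I M n).comp_isIso (η.hom.app (op n))) D
    rw [hsp] at h1 ⊢
    refine isQuot_push_of_vanish π hπ (Euler.isCoh_modTwist c hM D) (Euler.isCoh_modTwist c (hG.1 n) D) h1 fun y => ?_
    obtain ⟨W, hW, hy⟩ := Set.mem_iUnion₂.1 (hcov (Set.mem_univ y))
    refine ⟨W, hy, ?_⟩
    obtain ⟨⟨e₁⟩, ⟨e₂⟩⟩ := exists_twist_ker_image c (μ n) D
    rw [← mtwistMap_smulMod]
    exact ⟨subsingleton_ext_of_iso e₁ (hvan n W hW).1, subsingleton_ext_of_iso e₂ (hvan n W hW).2⟩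
  obtain ⟨τ⟩ : Nonempty (Formal.completion I H₀ ≅ S) :=
    exists_completion_iso (fun n => (Scheme.Modules.pushforward π).map (c.mtwistMap (q n) D)) hqQ fun n => by
      show (Scheme.Modules.pushforward π).map (c.mtwistMap (q (n + 1)) D) ≫
        (Scheme.Modules.pushforward π).map (c.mtwistMap (trans G (Nat.le_succ n)) D) = _
      rw [← Functor.map_comp, ← SerreVanish.mtwistMap_comp]
      congr 2
      show (qπ I M (n + 1) ≫ η.hom.app (op (n + 1))) ≫ G.map _ = qπ I M n ≫ η.hom.app (op n)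
      rw [Category.assoc, ← η.hom.naturality, ← Category.assoc, qπ_trans]
  let u : F ⟶ G ⋙ Scheme.Modules.pushforward π :=
    { app := fun n => adj.unit.app (F.obj n)
      naturality := fun n m φ => adj.unit.naturality (F.map φ) }
  let w : Fin k → (G ⟶ G ⋙ twistF c D) := fun i =>
    { app := fun n => mulSect c (G.obj n) (b i)
      naturality := fun n m φ => mulSect_natural c (G.map φ) (b i) }
  let ν : Fin k → (F ⟶ S) := fun i => u ≫ Functor.whiskerRight (w i) (Scheme.Modules.pushforward π)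
  obtain ⟨H, hH, α, hα, hsuppH⟩ := exists_combine I hH₀ k fun i => ν i ≫ τ.inv
  have hS : CohB1.support H ⊆ π '' CohB1.support M := by
    have h1 := SerreVanish.support_modTwist_subset (c := c) (M := M) (n := D)
    exact hsuppH.trans ((support_push_subset_image π
      (π.isClosedMap _ (isClosed_support_of_isCoh (Euler.isCoh_modTwist c hM D)))).trans (Set.image_mono h1))
  refine ⟨H, hH, α, fun n => ?_, hS⟩
  let κ := kernel.ι (α.app (op n))
  have h1 : ∀ i, κ ≫ adj.unit.app (F.obj (op n)) ≫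
      (Scheme.Modules.pushforward π).map (mulSect c (G.obj (op n)) (b i)) = 0 := fun i => by
    have h2 : κ ≫ (ν i).app (op n) ≫ τ.inv.app (op n) = 0 := hα n i
    have h5 : (κ ≫ (ν i).app (op n)) ≫ τ.inv.app (op n) = 0 := (Category.assoc _ _ _).trans h2
    exact (cancel_mono (τ.inv.app (op n))).1 (h5.trans zero_comp.symm)
  have h3 : (Scheme.Modules.pullback π).map κ = 0 := by
    have h4 : ∀ i, (Scheme.Modules.pullback π).map κ ≫ mulSect c (G.obj (op n)) (b i) = 0 := fun i => by
      apply (adj.homEquiv _ _).injective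
      haveI := adj.right_adjoint_additive
      rw [adj.homEquiv_unit, adj.homEquiv_unit, Functor.map_zero, comp_zero, Functor.map_comp, ← Category.assoc]
      refine (congrArg (· ≫ _) (adj.unit.naturality κ).symm).trans ?_
      rw [Category.assoc]
      exact h1 i
    refine hom_ext_stalkLin fun y v => ?_
    obtain ⟨i, hi⟩ := hb y
    refine stalk_injective_mulSect c (G.obj (op n)) (b i) hi ?_
    rw [← stalkLin_comp, h4 i, stalkLin_zero, stalkLin_zero]
    exact (map_zero _).symm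
  refine (adj.unit.naturality κ).trans ?_
  haveI := adj.right_adjoint_additive
  show adj.unit.app _ ≫ (Scheme.Modules.pushforward π).map ((Scheme.Modules.pullback π).map κ) = 0
  rw [h3, Functor.map_zero, comp_zero]

end Alpha

end GrothLib.FormalExist7
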