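import Groth.Agent.Lib.QCoh.SupportExact
import Groth.Agent.Lib.FormalFun.HomComplete
import Groth.Agent.Lib.QCoh.DevissageSummands

/-!
# Stalkwise criteria for morphisms of modules
-/

set_option autoImplicit false
universe u

open CategoryTheory CategoryTheory.Limits AlgebraicGeometry Opposite TopologicalSpace

namespace GrothLib.FormalExist7

open GrothLib.QCoh GrothLib.FormalFun

variable {X : Scheme.{u}}

theorem epi_of_stalk {M N : X.Modules} (f : M ⟶ N) (h : ∀ y, Function.Surjective (stalkLin f y)) : Epi f :=
  (OX.epi_iff f).2 fun y => (ModuleCat.epi_iff_surjective _).2 (h y)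

theorem exists_kernel_preimage {M N : X.Modules} (f : M ⟶ N) (y : X) {v : M.presheaf.stalk y}
    (hv : stalkLin f y v = 0) : ∃ w, stalkLin (kernel.ι f) y w = v := by
  have h := (OX.exact_iff (ShortComplex.mk (kernel.ι f) f (kernel.condition f))).1
    (ShortComplex.exact_of_f_is_kernel _ (kernelIsKernel f)) y
  rw [ShortComplex.moduleCat_exact_iff] at h
  exact h v hv

theorem exists_cokernel_preimage {M N : X.Modules} (f : M ⟶ N) (y : X) {v : N.presheaf.stalk y}
    (hv : stalkLin (cokernel.π f) y v = 0) : ∃ w, stalkLin f y w = v := by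
  have h := (OX.exact_iff (ShortComplex.mk f (cokernel.π f) (cokernel.condition f))).1
    (ShortComplex.exact_of_g_is_cokernel _ (cokernelIsCokernel f)) y
  rw [ShortComplex.moduleCat_exact_iff] at h
  exact h v hv

end GrothLib.FormalExist7
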