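import Groth.Agent.Lib.FormalExist7.TrickyAux
import Groth.Agent.Lib.SerreVanish.Main
import Groth.Agent.Lib.Cube.Pic

/-!
# Twisting formal systems by a cocycle
-/

set_option autoImplicit false
set_option linter.style.haveILetI false
universe u

open CategoryTheory CategoryTheory.Limits AlgebraicGeometry Opposite TopologicalSpace

noncomputable section

namespace GrothLib.FormalExist7

open GrothLib.FormalSys GrothLib.FormalFun GrothLib.QCoh GrothLib.FormalCd7
open GrothLib.Ample (Cocycle res)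
open GrothLib.InvExt (mres)

variable {X : Scheme.{u}} (c : Cocycle X)

/-- Twisting by a power of a cocycle, as a functor. -/
def twistF (n : ℕ) : X.Modules ⥤ X.Modules where
  obj M := c.modTwist M n
  map φ := c.mtwistMap φ n
  map_id M := Scheme.Modules.hom_ext _ _ fun V => by
    ext (b : c.msect M n V)
    rfl
  map_comp φ ψ := SerreVanish.mtwistMap_comp c φ ψ n

/-- The inverse cocycle, with the same cover reducibly. -/
abbrev cinv : Cocycle X :=
  { ι := c.ι, D := c.D, g := (Cube.inv c).g, cover := c.cover, self := (Cube.inv c).self,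
    change := (Cube.inv c).change }

theorem cinv_G (i k : c.ι) {W : X.Opens} (hi : W ≤ c.D i) (hk : W ≤ c.D k) :
    (cinv c).G i k hi hk = c.G k i hk hi :=
  Cube.inv_G c i k hi hk

/-- Twisting and untwisting, on sections. -/
def untwistSect (M : X.Modules) (n : ℕ) {V : X.Opens} (μ : Γ(M, V)) :
    (cinv c).msect (c.modTwist M n) n V :=
  ⟨fun i => c.mbase n i (inf_le_right : V ⊓ c.D i ≤ c.D i) (mres M inf_le_left μ), fun i j W hi hj => by
    change W ≤ V ⊓ c.D i at hi
    change W ≤ V ⊓ c.D j at hj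
    show c.msectRes hi (c.mbase n i (inf_le_right : V ⊓ c.D i ≤ c.D i) (mres M inf_le_left μ)) =
      (((cinv c).G i j (hi.trans inf_le_right) (hj.trans inf_le_right) ^ n) •
        c.msectRes hj (c.mbase n j (inf_le_right : V ⊓ c.D j ≤ c.D j) (mres M inf_le_left μ)) : c.msect M n W)
    rw [Ample.Cocycle.msectRes_mbase, Ample.Cocycle.msectRes_mbase, cinv_G]
    refine c.msect_ext_of_le (V := W) (hi.trans inf_le_right) ?_
    rw [Ample.Cocycle.mbase_self, Ample.Cocycle.msmul_apply]
    show mres M inf_le_left (mres M hi (mres M inf_le_left μ)) =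
      _ • (c.G i j inf_le_right (inf_le_left.trans (hj.trans inf_le_right)) ^ n • mres M inf_le_left _)
    simp only [InvExt.mres_mres, smul_smul, map_pow, Ample.Cocycle.res_G, ← mul_pow]
    rw [c.G_mul_G, one_pow, one_smul]⟩

/-- Untwisting a twist gives the module back. -/
def untwistHom (M : X.Modules) (n : ℕ) : M ⟶ (cinv c).modTwist (c.modTwist M n) n :=
  ⟨{
    app := fun V => ModuleCat.ofHom
      (X := (M.val.obj V : Type u))
      (Y := (((cinv c).modTwist (c.modTwist M n) n).val.obj V : Type u))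
      { toFun := fun (μ : Γ(M, V.unop)) => untwistSect c M n μ
        map_add' := fun (μ ν : Γ(M, V.unop)) => (cinv c).msect_ext fun i => by
          show c.mbase n i (inf_le_right : V.unop ⊓ c.D i ≤ c.D i) (mres M inf_le_left (μ + ν)) =
            c.mbase n i (inf_le_right : V.unop ⊓ c.D i ≤ c.D i) (mres M inf_le_left μ) +
              c.mbase n i (inf_le_right : V.unop ⊓ c.D i ≤ c.D i) (mres M inf_le_left ν)
          refine c.msect_ext_of_le (i := i) inf_le_right ?_
          show (c.mbase n i (inf_le_right : V.unop ⊓ c.D i ≤ c.D i) (mres M inf_le_left (μ + ν))).1 i =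
            (c.mbase n i (inf_le_right : V.unop ⊓ c.D i ≤ c.D i) (mres M inf_le_left μ)).1 i +
              (c.mbase n i (inf_le_right : V.unop ⊓ c.D i ≤ c.D i) (mres M inf_le_left ν)).1 i
          rw [Ample.Cocycle.mbase_self, Ample.Cocycle.mbase_self, Ample.Cocycle.mbase_self]
          exact (congrArg _ (map_add _ μ ν)).trans (map_add _ _ _)
        map_smul' := fun (r : Γ(X, V.unop)) (μ : Γ(M, V.unop)) => (cinv c).msect_ext fun i => by
          show c.mbase n i (inf_le_right : V.unop ⊓ c.D i ≤ c.D i) (mres M inf_le_left (r • μ)) =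
            res (inf_le_left : V.unop ⊓ c.D i ≤ V.unop) r •
              c.mbase n i (inf_le_right : V.unop ⊓ c.D i ≤ c.D i) (mres M inf_le_left μ)
          refine c.msect_ext_of_le (i := i) inf_le_right ?_
          rw [Ample.Cocycle.msmul_apply, Ample.Cocycle.mbase_self, Ample.Cocycle.mbase_self]
          simp only [Ample.mres_smul', InvExt.mres_mres, Ample.res_res] }
    naturality := fun {V W} f => by
      ext (μ : Γ(M, V.unop))
      refine (cinv c).msect_ext fun i => ?_
      show c.mbase n i (inf_le_right : W.unop ⊓ c.D i ≤ c.D i) (mres M inf_le_left (mres M (leOfHom f.unop) μ)) =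
        c.msectRes (inf_le_inf_right (c.D i) (leOfHom f.unop))
          (c.mbase n i (inf_le_right : V.unop ⊓ c.D i ≤ c.D i) (mres M inf_le_left μ))
      rw [Ample.Cocycle.msectRes_mbase, InvExt.mres_mres, InvExt.mres_mres] }⟩

theorem bijective_untwistHom_app (M : X.Modules) (n : ℕ) (V : X.Opens) :
    Function.Bijective ((untwistHom c M n).app V) := by
  refine ⟨fun (μ : Γ(M, V)) ν h => ?_, fun (b : (cinv c).msect (c.modTwist M n) n V) => ?_⟩
  · refine Ample.meq_of_cover M (fun i => V ⊓ c.D i) (fun i => inf_le_left) (c.iSup_inf_D V) fun i => ?_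
    have h1 := congrArg (fun b : (cinv c).msect (c.modTwist M n) n V =>
      mres M (le_inf le_rfl inf_le_right : V ⊓ c.D i ≤ (V ⊓ c.D i) ⊓ c.D i)
        ((show c.msect M n (V ⊓ c.D i) from b.1 i).1 i)) h
    have h2 : ∀ ρ : Γ(M, V), mres M (le_inf le_rfl inf_le_right : V ⊓ c.D i ≤ (V ⊓ c.D i) ⊓ c.D i)
        ((c.mbase n i (inf_le_right : V ⊓ c.D i ≤ c.D i) (mres M inf_le_left ρ)).1 i) = mres M inf_le_left ρ :=
      fun ρ => by rw [Ample.Cocycle.mbase_self, InvExt.mres_mres, InvExt.mres_mres]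
    exact (h2 μ).symm.trans (h1.trans (h2 ν))
  · let a : ∀ i : c.ι, Γ(M, V ⊓ c.D i) := fun i =>
      mres M (le_inf le_rfl inf_le_right) ((show c.msect M n (V ⊓ c.D i) from b.1 i).1 i)
    have hb : ∀ i, b.1 i = c.mbase n i inf_le_right (a i) := fun i => c.eq_mbase i inf_le_right _
    have hcomp : ∀ i j (W : X.Opens) (hi : W ≤ V ⊓ c.D i) (hj : W ≤ V ⊓ c.D j), mres M hi (a i) = mres M hj (a j) := by
      intro i j W hi hj
      have h1 : c.msectRes hi (b.1 i) =
          (cinv c).G i j (hi.trans inf_le_right) (hj.trans inf_le_right) ^ n • c.msectRes hj (b.1 j) :=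
        (cinv c).msect_spec b i j hi hj
      rw [hb, hb, Ample.Cocycle.msectRes_mbase, Ample.Cocycle.msectRes_mbase, cinv_G] at h1
      have h2 := congrArg (fun t : c.msect M n W =>
        mres M (le_inf le_rfl (hi.trans inf_le_right) : W ≤ W ⊓ c.D i) (t.1 i)) h1
      simp only [Ample.Cocycle.mbase_self, Ample.Cocycle.msmul_apply] at h2
      change _ = mres M _ (_ • (c.G i j inf_le_right (inf_le_left.trans (hj.trans inf_le_right)) ^ n •
        mres M inf_le_left _)) at h2
      simp only [Ample.mres_smul', InvExt.mres_mres, smul_smul, map_pow, Ample.Cocycle.res_G, ← mul_pow] at h2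
      rw [c.G_mul_G, map_one, one_pow, one_smul] at h2
      exact h2
    obtain ⟨μ, hμ, -⟩ := TopCat.Sheaf.existsUnique_gluing' ⟨M.presheaf, M.isSheaf⟩ (fun i => V ⊓ c.D i) V
      (fun i => homOfLE inf_le_left) (c.iSup_inf_D V) a fun i j => hcomp i j _ inf_le_left inf_le_right
    refine ⟨μ, (cinv c).msect_ext fun i => ?_⟩
    show c.mbase n i (inf_le_right : V ⊓ c.D i ≤ c.D i) (mres M inf_le_left μ) = _
    rw [hb]
    exact congrArg _ (hμ i)

instance isIso_untwistHom (M : X.Modules) (n : ℕ) : IsIso (untwistHom c M n) :=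
  InvTriv26.isIso_of_app_bijective _ (bijective_untwistHom_app c M n)

theorem untwistHom_natural {M N : X.Modules} (φ : M ⟶ N) (n : ℕ) :
    untwistHom c M n ≫ (cinv c).mtwistMap (c.mtwistMap φ n) n = φ ≫ untwistHom c N n :=
  Scheme.Modules.hom_ext _ _ fun V => by
    ext (μ : Γ(M, V))
    refine (cinv c).msect_ext fun i => ?_
    show c.msectMap φ (c.mbase n i (inf_le_right : V ⊓ c.D i ≤ c.D i) (mres M inf_le_left μ)) =
      c.mbase n i (inf_le_right : V ⊓ c.D i ≤ c.D i) (mres N inf_le_left (φ.app V μ))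
    refine c.msect_ext_of_le (i := i) inf_le_right ?_
    show φ.app _ ((c.mbase n i (inf_le_right : V ⊓ c.D i ≤ c.D i) (mres M inf_le_left μ)).1 i) =
      (c.mbase n i (inf_le_right : V ⊓ c.D i ≤ c.D i) (mres N inf_le_left (φ.app V μ))).1 i
    rw [Ample.Cocycle.mbase_self, Ample.Cocycle.mbase_self, ← Ample.app_mres, ← Ample.app_mres]

theorem epi_mtwistMap {M N : X.Modules} (φ : M ⟶ N) [Epi φ] (n : ℕ) : Epi (c.mtwistMap φ n) :=
  (SerreVanish.twistSeq_shortExact c n
    (ShortComplex.ShortExact.mk' (ShortComplex.exact_of_f_is_kernel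
      (ShortComplex.mk (kernel.ι φ) φ (kernel.condition φ)) (kernelIsKernel φ)) inferInstance ‹Epi φ›)).epi_g

variable {A : Type u} [CommRing A] [X.Over (Spec (CommRingCat.of A))]

theorem mtwistMap_smulMod (M : X.Modules) (a : A) (n : ℕ) :
    c.mtwistMap (Formal.smulMod A M a) n = Formal.smulMod A (c.modTwist M n) a :=
  Scheme.Modules.hom_ext _ _ fun V => by
    ext (b : c.msect M n V)
    refine Eq.trans ?_ (Euler.smulMod_app (c.modTwist M n) (Coh.toGlobal (X ↘ Spec (CommRingCat.of A)) a) V b).symm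
    refine c.msect_ext fun i => ?_
    refine (Euler.smulMod_app M (Coh.toGlobal (X ↘ Spec (CommRingCat.of A)) a) (V ⊓ c.D i) (b.1 i)).trans ?_
    show _ = res (inf_le_left : V ⊓ c.D i ≤ V) _ • b.1 i
    exact congrArg (· • b.1 i) (Ample.res_res _ _ _).symm

theorem isQuot_mtwistMap [IsNoetherian X] {J : Ideal A} {M N : X.Modules} {π : M ⟶ N} (hM : Coh.IsCoh M)
    (hπ : IsQuot J π) (n : ℕ) : IsQuot J (c.mtwistMap π n) := by
  haveI := hπ.epi
  haveI := epi_mtwistMap c π n
  refine isQuot_of_stalk _ (fun a ha => ?_) fun y v hv => ?_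
  · rw [← mtwistMap_smulMod, hπ.killedBy a ha]
    exact SerreVanish.mtwistMap_zero c n
  obtain ⟨i, hi⟩ := c.exists_mem y
  obtain ⟨W, hW, hyW, hWD'⟩ := exists_isAffineOpen_mem_and_subset hi
  have hWD : W ≤ c.D i := hWD'
  haveI := hM.1
  haveI := c.isQuasicoherent_modTwist M n
  haveI : (c.modTwist N n).IsQuasicoherent := by
    have hN : N.IsQuasicoherent := by
      obtain ⟨e, -⟩ := (IsQuot.cokernelπ J M).exists_iso hπ
      haveI := (FormalFn.isCoh_cokernel_smulFamily J hM).1
      exact (SheafOfModules.isQuasicoherent.{u} X.ringCatSheaf).prop_of_iso e inferInstance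
    exact c.isQuasicoherent_modTwist N n
  obtain ⟨c₁, z, hc₁, e⟩ := WeakAss.exists_smul_eq_germ hW hyW v
  have h0 : (c.modTwist N n).presheaf.germ W y hyW ((c.mtwistMap π n).app W z) = 0 := by
    rw [← stalkLin_germ (c.mtwistMap π n) hyW z, ← e, map_smul, hv, smul_zero]
  obtain ⟨c₂, hc₂, hz⟩ := (WeakAss.germ_eq_zero_iff hW hyW _).1 h0
  have hz' : (c.mtwistMap π n).app W (c₂ • z) = 0 :=
    ((appLinear (c.mtwistMap π n) W).map_smul c₂ z).trans hz
  let μ : Γ(M, W) := (c.mbaseEquiv M n i hWD).symm (c₂ • z)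
  have hμ : π.app W μ = 0 := by
    have h1 : (c.mtwistMap π n).app W (c.mbase n i hWD μ) = c.mbase n i hWD (π.app W μ) := by
      refine c.msect_ext_of_le hWD ?_
      show π.app _ ((c.mbase n i hWD μ).1 i) = _
      rw [Ample.Cocycle.mbase_self, Ample.Cocycle.mbase_self, Ample.app_mres]
    rw [show c.mbase n i hWD μ = c₂ • z from (c.mbaseEquiv M n i hWD).apply_symm_apply _, hz'] at h1
    exact ((c.mbaseEquiv N n i hWD).map_eq_zero_iff).1 h1.symm
  have hμJ : μ ∈ J.map (toSec A W) • (⊤ : Submodule Γ(X, W) Γ(M, W)) := by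
    refine mem_of_forall_germ_mem hW J fun x hx => ?_
    rw [← ker_stalkLin_of_isQuot hπ x, LinearMap.mem_ker]
    exact (stalkLin_germ π hx μ).trans ((congrArg _ hμ).trans (map_zero _))
  have hzJ : c₂ • z ∈ J.map (toSec A W) • (⊤ : Submodule Γ(X, W) Γ(c.modTwist M n, W)) := by
    have h2 := Submodule.mem_map_of_mem (f := (c.mbaseEquiv M n i hWD).toLinearMap) hμJ
    rw [Submodule.map_smul''] at h2
    exact Submodule.smul_mono le_rfl le_top ((c.mbaseEquiv M n i hWD).apply_symm_apply (c₂ • z) ▸ h2)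
  have hu : IsUnit (X.presheaf.germ W y hyW c₂ * X.presheaf.germ W y hyW c₁) :=
    (FormalCd7.isUnit_germ hc₂).mul (FormalCd7.isUnit_germ hc₁)
  refine (Submodule.smul_mem_iff_of_isUnit _ hu).1 ?_
  rw [mul_smul, e, ← WeakAss.germ_smul]
  exact germ_mem_of_mem hyW J hzJ

theorem isCohFormal_twist [IsNoetherian X] {I : Ideal A} {G : ℕᵒᵖ ⥤ X.Modules} (hG : Formal.IsCohFormal I G)
    (n : ℕ) : Formal.IsCohFormal I (G ⋙ twistF c n) := by
  refine ⟨fun k => Euler.isCoh_modTwist c (hG.1 k) n, fun k a ha => ?_,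
    fun k => isQuot_mtwistMap c (hG.1 (k + 1)) (hG.2.2 k) n⟩
  show Formal.smulMod A (c.modTwist (G.obj (op k)) n) a = 0
  rw [← mtwistMap_smulMod, hG.2.1 k a ha]
  exact SerreVanish.mtwistMap_zero c n

end GrothLib.FormalExist7
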