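import Groth.Agent.Lib.FormalExist7.Induction
import Groth.Agent.Lib.FormalExist7.Projective
import Groth.Agent.Lib.Ample.Frame
import Groth.Agent.Lib.Ample.Criterion

/-!
# Grothendieck existence on a scheme with an ample invertible module
-/

set_option autoImplicit false
set_option linter.style.haveILetI false
universe u

open CategoryTheory CategoryTheory.Limits AlgebraicGeometry Opposite TopologicalSpace

namespace GrothLib.FormalExist7

open GrothLib.FormalSys GrothLib.FormalFun GrothLib.QCoh GrothLib.FormalCd7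

variable {A : Type u} [CommRing A] [IsNoetherianRing A] {X : Scheme.{u}} [X.Over (Spec (CommRingCat.of A))]
  [IsProper (X ↘ Spec (CommRingCat.of A))]

theorem isProperOver_of_isClosed {Z : Set X} (hZ : IsClosed Z) :
    ClSub.IsProperOver (X ↘ Spec (CommRingCat.of A)) Z :=
  ⟨hZ, inferInstance⟩

/-- Full faithfulness of completion on a proper scheme. -/
theorem existsUnique_hom_of_proper (I : Ideal A) [IsAdicComplete I A] (M N : X.Modules) (hM : Coh.IsCoh M)
    (hN : Coh.IsCoh N) (ψ : Formal.completion I M ⟶ Formal.completion I N) :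
    ∃! φ : M ⟶ N, ∀ n : ℕ, Formal.modPowπ I (n + 1) M ≫ ψ.app (op n) = φ ≫ Formal.modPowπ I (n + 1) N :=
  existsUnique_hom_of_isProperOver I M N hM hN
    (isProperOver_of_isClosed ((isClosed_support_of_isCoh hM).inter (isClosed_support_of_isCoh hN))) ψ

/-- On a proper scheme existence for all ideals follows from existence for principal ideals. -/
theorem existence_of_principal
    (hprin : ∀ f : A, IsAdicComplete (Ideal.span {f}) A → ∀ G : ℕᵒᵖ ⥤ X.Modules,
      Formal.IsCohFormal (Ideal.span {f}) G →
        ∃ M : X.Modules, Coh.IsCoh M ∧ Nonempty (Formal.completion (Ideal.span {f}) M ≅ G))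
    (I : Ideal A) [IsAdicComplete I A] (G : ℕᵒᵖ ⥤ X.Modules) (hG : Formal.IsCohFormal I G) :
    ∃ M : X.Modules, Coh.IsCoh M ∧ Nonempty (Formal.completion I M ≅ G) := by
  haveI := SerreVanish.isNoetherian_of_proper (X := X) A
  obtain ⟨s, hs⟩ := IsNoetherian.noetherian I
  obtain ⟨M, hM, -, e⟩ := exists_of_principal (fun _ : X.Modules => True) (fun _ _ _ h => h)
    (fun J hJ M N hM hN _ _ ψ => haveI := hJ; existsUnique_hom_of_proper J M N hM hN ψ)
    (fun f hf G hG _ => (hprin f hf G hG).imp fun M h => ⟨h.1, trivial, h.2⟩)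
    s I hs.symm ‹_› G hG trivial
  exact ⟨M, hM, e⟩

/-- Existence on a proper scheme with an ample invertible module. -/
theorem existence_of_isAmple {L : X.Modules} (hL : CohB1.IsAmple L) (I : Ideal A) [IsAdicComplete I A]
    (G : ℕᵒᵖ ⥤ X.Modules) (hG : Formal.IsCohFormal I G) :
    ∃ M : X.Modules, Coh.IsCoh M ∧ Nonempty (Formal.completion I M ≅ G) := by
  obtain ⟨c, ⟨e⟩⟩ := Ample.exists_cocycle hL.1
  exact existence_of_principal (fun f hf G hG => haveI := hf
    existence_principal_ample c ((c.isAmple_iff e).1 hL).2 hG) I G hG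

end GrothLib.FormalExist7
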