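import Groth.Agent.Lib.FormalExist7.ClosedAlg
import Groth.Prelude.Def_CohB1

/-!
# Algebraization of compatible closed subschemes of the thickenings
-/

set_option autoImplicit false
set_option linter.style.haveILetI false
set_option linter.unusedSectionVars false
universe u

open CategoryTheory CategoryTheory.Limits AlgebraicGeometry Opposite TopologicalSpace

namespace GrothLib.FormalExist7

variable {A : Type u} [CommRing A] {X : Scheme.{u}} (f : X ⟶ Spec (CommRingCat.of A)) (I : Ideal A)

theorem isClosedImmersion_specQuot (n : ℕ) : IsClosedImmersion (CohB1.specQuot I n) :=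
  IsClosedImmersion.spec_of_surjective _ Ideal.Quotient.mk_surjective

theorem isClosedImmersion_thickι (n : ℕ) : IsClosedImmersion (CohB1.thickι f I n) := by
  haveI := isClosedImmersion_specQuot I n
  exact inferInstanceAs (IsClosedImmersion (pullback.fst f (CohB1.specQuot I n)))

theorem ker_thickι (n : ℕ) : (CohB1.thickι f I n).ker = (FSch.idealSpec A (I ^ (n + 1))).comap f := by
  haveI := isClosedImmersion_specQuot I n
  exact Scheme.IdealSheafData.ker_fst_of_isClosedImmersion (CohB1.specQuot I n) f

theorem thickTrans_thickι (n : ℕ) : CohB1.thickTrans f I n ≫ CohB1.thickι f I (n + 1) = CohB1.thickι f I n :=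
  (pullback.lift_fst _ _ _).trans (Category.comp_id _)

section Closed

variable {Z : ℕ → Scheme.{u}} (z : (n : ℕ) → (Z n ⟶ CohB1.thick f I n)) (t : (n : ℕ) → (Z n ⟶ Z (n + 1)))
  (hz : ∀ n, IsClosedImmersion (z n))
  (ht : ∀ n, IsPullback (t n) (z n) (z (n + 1)) (CohB1.thickTrans f I n))

/-- The ideal sheaf on `X` of a closed subscheme of a thickening. -/
noncomputable abbrev levelIdeal (n : ℕ) : X.IdealSheafData := (z n ≫ CohB1.thickι f I n).ker

include hz in
theorem le_levelIdeal (n : ℕ) : (FSch.idealSpec A (I ^ (n + 1))).comap f ≤ levelIdeal f I z n := by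
  rw [← ker_thickι]
  exact Scheme.Hom.le_ker_comp _ _

include hz ht in
theorem levelIdeal_eq_sup (n : ℕ) :
    levelIdeal f I z n = levelIdeal f I z (n + 1) ⊔ (FSch.idealSpec A (I ^ (n + 1))).comap f := by
  haveI := isClosedImmersion_thickι f I
  haveI := hz n
  haveI := hz (n + 1)
  refine le_antisymm ?_ (sup_le ?_ (le_levelIdeal f I z hz n))
  · let L := levelIdeal f I z (n + 1) ⊔ (FSch.idealSpec A (I ^ (n + 1))).comap f
    let a := IsClosedImmersion.lift (z (n + 1) ≫ CohB1.thickι f I (n + 1)) L.subschemeι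
      ((le_sup_left : levelIdeal f I z (n + 1) ≤ L).trans (Scheme.IdealSheafData.ker_subschemeι L).ge)
    let b := IsClosedImmersion.lift (CohB1.thickι f I n) L.subschemeι
      ((ker_thickι f I n).le.trans ((le_sup_right : _ ≤ L).trans (Scheme.IdealSheafData.ker_subschemeι L).ge))
    have hb : b ≫ CohB1.thickι f I n = L.subschemeι := IsClosedImmersion.lift_fac _ _ _
    have hab : a ≫ z (n + 1) = b ≫ CohB1.thickTrans f I n := by
      rw [← cancel_mono (CohB1.thickι f I (n + 1)), Category.assoc, Category.assoc, thickTrans_thickι, hb]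
      exact IsClosedImmersion.lift_fac _ _ _
    have h1 : (ht n).lift a b hab ≫ z n ≫ CohB1.thickι f I n = L.subschemeι := by
      rw [← Category.assoc, (ht n).lift_snd]
      exact hb
    calc levelIdeal f I z n ≤ ((ht n).lift a b hab ≫ z n ≫ CohB1.thickι f I n).ker := Scheme.Hom.le_ker_comp _ _
      _ = L := by rw [h1, Scheme.IdealSheafData.ker_subschemeι]
  · have h : z n ≫ CohB1.thickι f I n = t n ≫ z (n + 1) ≫ CohB1.thickι f I (n + 1) := by
      rw [reassoc_of% (ht n).w, thickTrans_thickι]
    show _ ≤ (z n ≫ CohB1.thickι f I n).ker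
    rw [h]
    exact Scheme.Hom.le_ker_comp _ _

include hz ht in
/-- A compatible system of closed subschemes of the thickenings with proper first term is algebraizable. -/
theorem exists_closed_algebraization [IsNoetherianRing A] [IsAdicComplete I A] [IsSeparated f] [LocallyOfFiniteType f]
    [QuasiCompact f] (hp : IsProper (z 0 ≫ CohB1.thickToBase f I 0)) :
    ∃ (W : Scheme.{u}) (i : W ⟶ X) (w : (n : ℕ) → (Z n ⟶ W)), IsClosedImmersion i ∧
      IsProper (i ≫ f) ∧ (∀ n, w n = t n ≫ w (n + 1)) ∧ ∀ n, IsPullback (w n) (z n) i (CohB1.thickι f I n) := by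
  haveI := isClosedImmersion_thickι f I
  haveI := hz
  letI : X.Over (Spec (CommRingCat.of A)) := ⟨f⟩
  haveI : IsSeparated (X ↘ Spec (CommRingCat.of A)) := ‹IsSeparated f›
  haveI : LocallyOfFiniteType (X ↘ Spec (CommRingCat.of A)) := ‹LocallyOfFiniteType f›
  haveI : QuasiCompact (X ↘ Spec (CommRingCat.of A)) := ‹QuasiCompact f›
  haveI : IsProper ((z 0 ≫ CohB1.thickι f I 0) ≫ f) := by
    haveI := isClosedImmersion_specQuot I 0
    haveI := hp
    rw [Category.assoc, show CohB1.thickι f I 0 ≫ f = CohB1.thickToBase f I 0 ≫ CohB1.specQuot I 0 from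
      pullback.condition, ← Category.assoc]
    infer_instance
  obtain ⟨W, hW, hK⟩ := exists_idealSheaf_of_system (X := X) I (levelIdeal f I z) (le_levelIdeal f I z hz)
    (levelIdeal_eq_sup f I z t hz ht) (by
      refine ProperOver.isProperOver_of_closedImmersion f (z 0 ≫ CohB1.thickι f I 0)
        (Closeds.isClosed _) ?_
      show ((z 0 ≫ CohB1.thickι f I 0).ker.support : Set X) ⊆ _
      rw [Scheme.Hom.support_ker]
      exact (z 0 ≫ CohB1.thickι f I 0).isClosedEmbedding.isClosed_range.closure_eq.le)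
  have hWle : ∀ n, W ≤ levelIdeal f I z n := fun n => (hK n).ge.trans' le_sup_left
  let w := fun n => IsClosedImmersion.lift W.subschemeι (z n ≫ CohB1.thickι f I n)
    ((Scheme.IdealSheafData.ker_subschemeι W).le.trans (hWle n))
  have hw : ∀ n, w n ≫ W.subschemeι = z n ≫ CohB1.thickι f I n := fun n => IsClosedImmersion.lift_fac _ _ _
  refine ⟨W.subscheme, W.subschemeι, w, inferInstance, hW, fun n => ?_, fun n => ?_⟩
  · rw [← cancel_mono W.subschemeι, Category.assoc, hw, hw, reassoc_of% (ht n).w, thickTrans_thickι]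
  refine IsPullback.of_isLimit' ⟨hw n⟩ ?_
  have key : ∀ s : PullbackCone W.subschemeι (CohB1.thickι f I n),
      (z n ≫ CohB1.thickι f I n).ker ≤ (s.fst ≫ W.subschemeι).ker := fun s => by
    show levelIdeal f I z n ≤ _
    rw [hK n]
    refine sup_le ((Scheme.IdealSheafData.ker_subschemeι W).ge.trans (Scheme.Hom.le_ker_comp _ _)) ?_
    rw [s.condition]
    exact (ker_thickι f I n).ge.trans (Scheme.Hom.le_ker_comp _ _)
  refine PullbackCone.IsLimit.mk _ (fun s => IsClosedImmersion.lift (z n ≫ CohB1.thickι f I n)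
    (s.fst ≫ W.subschemeι) (key s)) (fun s => ?_) (fun s => ?_) (fun s m _ hm₂ => ?_)
  · rw [← cancel_mono W.subschemeι, Category.assoc, hw]
    exact IsClosedImmersion.lift_fac _ _ _
  · rw [← cancel_mono (CohB1.thickι f I n), Category.assoc, ← s.condition]
    exact IsClosedImmersion.lift_fac _ _ _
  · rw [← cancel_mono (z n ≫ CohB1.thickι f I n), IsClosedImmersion.lift_fac, s.condition, ← hm₂, Category.assoc]

end Closed

end GrothLib.FormalExist7
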