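import Groth.Agent.Lib.AdicLim.System
import Groth.Agent.Lib.AdicExtra.Completion
import Mathlib.Algebra.Module.Torsion.Basic

/-!
# The limit of an adic system of finite modules over the completion
-/

set_option autoImplicit false
set_option linter.style.haveILetI false
universe u v

namespace GrothLib.FormalExist7

open GrothLib

theorem exists_limit {B : Type u} [CommRing B] [IsNoetherianRing B] (J : Ideal B) (M : ℕ → Type v)
    [∀ n, AddCommGroup (M n)] [∀ n, Module B (M n)] (f : ∀ n, M (n + 1) →ₗ[B] M n)
    (hsurj : ∀ n, Function.Surjective (f n))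
    (hker : ∀ n, LinearMap.ker (f n) = J ^ (n + 1) • (⊤ : Submodule B (M (n + 1))))
    [Module.Finite B (M 0)] :
    ∃ (L : Type v) (_ : AddCommGroup L) (_ : Module B L) (_ : Module (AdicCompletion J B) L)
      (_ : IsScalarTower B (AdicCompletion J B) L) (_ : Module.Finite (AdicCompletion J B) L)
      (π : ∀ n, L →ₗ[B] M n), (∀ n x, f n (π (n + 1) x) = π n x) ∧ (∀ x, (∀ n, π n x = 0) → x = 0) ∧
      (∀ y : ∀ n, M n, (∀ n, f n (y (n + 1)) = y n) → ∃ x, ∀ n, π n x = y n) ∧
      (∀ n, Function.Surjective (π n)) ∧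
      ∀ n, LinearMap.ker (π n) = J ^ (n + 1) • (⊤ : Submodule B L) := by
  classical
  let C := AdicCompletion J B
  have hkill : ∀ n, ∀ a ∈ J ^ (n + 1), ∀ x : M n, a • x = 0 := fun n a ha x => by
    obtain ⟨x, rfl⟩ := hsurj n x
    rw [← map_smul, ← LinearMap.mem_ker, hker]
    exact Submodule.smul_mem_smul ha trivial
  letI : ∀ n, Module (B ⧸ J ^ (n + 1)) (M n) := fun n =>
    Module.IsTorsionBySet.module (M := M n) fun x a => hkill n a.1 a.2 x
  letI : ∀ n, Module C (M n) := fun n => Module.compHom (M n) (AdicCompletion.evalₐ J (n + 1)).toRingHom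
  haveI : ∀ n, IsScalarTower B C (M n) := fun n => IsScalarTower.of_algebraMap_smul fun b x => by
    show (AdicCompletion.evalₐ J (n + 1) (algebraMap B C b)) • x = b • x
    rw [AlgHom.commutes]
    rfl
  have hmk : ∀ n (r : C) (b : B), AdicCompletion.evalₐ J (n + 1) r = Ideal.Quotient.mk _ b →
      ∀ x : M n, r • x = b • x := fun n r b h x => by
    show (AdicCompletion.evalₐ J (n + 1) r) • x = b • x
    rw [h]
    rfl
  have hlin : ∀ n (r : C) (x : M (n + 1)), f n (r • x) = r • f n x := fun n r x => by
    obtain ⟨s, hs⟩ := AdicCompletion.mk_surjective J B r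
    obtain ⟨b, hb⟩ := Ideal.Quotient.mk_surjective (AdicCompletion.evalₐ J (n + 1 + 1) r)
    rw [hmk (n + 1) r b hb.symm, map_smul]
    refine (hmk n r b ?_ _).symm
    have h1 : AdicCompletion.evalₐ J (n + 1) r =
        Ideal.Quotient.factor (Ideal.pow_le_pow_right (Nat.le_succ (n + 1))) (AdicCompletion.evalₐ J (n + 1 + 1) r) := by
      rw [← hs, AdicCompletion.evalₐ_mk, AdicCompletion.evalₐ_mk, Ideal.Quotient.factor_mk, Ideal.Quotient.eq]
      have h2 := s.2 (Nat.le_succ (n + 1))
      rw [SModEq.sub_mem, smul_eq_mul, Ideal.mul_top] at h2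
      exact h2
    rw [h1, ← hb, Ideal.Quotient.factor_mk]
  let L : Submodule C (∀ n, M n) :=
    { carrier := {x | ∀ n, f n (x (n + 1)) = x n}
      add_mem' := fun {x y} hx hy n => by simp [hx n, hy n]
      zero_mem' := fun n => map_zero _
      smul_mem' := fun r x hx n => by
        show f n (r • x (n + 1)) = r • x n
        rw [hlin, hx n] }
  let fC : ∀ n, M (n + 1) →ₗ[C] M n := fun n =>
    { toFun := f n, map_add' := map_add _, map_smul' := hlin n }
  let πC : ∀ n, L →ₗ[C] M n := fun n => (LinearMap.proj n).comp L.subtype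
  have hJ : ∀ (n : ℕ) {N : Type v} [AddCommGroup N] [Module B N] [Module C N] [IsScalarTower B C N],
      (((J.map (algebraMap B C)) ^ n) • (⊤ : Submodule C N)).restrictScalars B = J ^ n • (⊤ : Submodule B N) := by
    intro n N _ _ _ _
    rw [← Ideal.map_pow, Ideal.smul_restrictScalars, Submodule.restrictScalars_top]
  have hsys : AdicLim.IsLimitSystem (J.map (algebraMap B C)) fC πC :=
    { surj := hsurj
      ker := fun n => by
        refine Submodule.restrictScalars_injective B C (M (n + 1)) ?_
        rw [hJ, ← hker n]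
        rfl
      comm := fun n => LinearMap.ext fun x => x.2 n
      inj := fun x hx => Subtype.ext (funext hx)
      lift := fun y hy => ⟨⟨y, hy⟩, fun _ => rfl⟩ }
  haveI := AdicCompletion.isAdicComplete_self J J.fg_of_isNoetherianRing
  haveI : Module.Finite C (M 0) := Module.Finite.of_restrictScalars_finite B C (M 0)
  obtain ⟨hfin, hk⟩ := hsys.finite_and_ker inferInstance
  haveI : IsPrecomplete (J.map (algebraMap B C)) C := IsAdicComplete.toIsPrecomplete
  refine ⟨L, inferInstance, inferInstance, inferInstance, inferInstance, hfin,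
    fun n => (πC n).restrictScalars B, fun n x => x.2 n, hsys.inj, hsys.lift, fun n => hsys.proj_surjective n,
    fun n => ?_⟩
  rw [← hJ (N := L), ← hk n]
  rfl

end GrothLib.FormalExist7
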