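import Groth.Agent.Lib.FormalExist7.Vanish

/-!
# Morphisms and clopen subsets determined by the thickenings
-/

set_option autoImplicit false
set_option linter.style.haveILetI false
set_option linter.unusedSectionVars false
universe u

open CategoryTheory CategoryTheory.Limits AlgebraicGeometry Opposite TopologicalSpace

namespace GrothLib.FormalExist7

open GrothLib.CartierDescent (stalkIdeal stalkIdeal_eq)

variable {A : Type u} [CommRing A]

theorem range_thickι {X : Scheme.{u}} (f : X ⟶ Spec (CommRingCat.of A)) (I : Ideal A) (n : ℕ) :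
    Set.range (CohB1.thickι f I n) = {x : X | I ≤ (f x).asIdeal} := by
  have hr : Set.range (CohB1.specQuot I n) = PrimeSpectrum.zeroLocus ((I ^ (n + 1) : Ideal A) : Set A) := by
    have h := range_comap_of_surjective (A ⧸ I ^ (n + 1)) (Ideal.Quotient.mk (I ^ (n + 1))) Ideal.Quotient.mk_surjective
    rw [Ideal.mk_ker] at h
    exact h
  rw [show Set.range (CohB1.thickι f I n) = f ⁻¹' Set.range (CohB1.specQuot I n) from Scheme.Pullback.range_fst _ _, hr]
  ext x
  exact ⟨fun h => (f x).isPrime.le_of_pow_le h, fun h => (Ideal.pow_le_self n.succ_ne_zero).trans h⟩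

/-- Morphisms from a proper scheme agreeing on all thickenings are equal. -/
theorem eq_of_forall_thick [IsNoetherianRing A] (I : Ideal A) [IsAdicComplete I A] {X Y : Scheme.{u}}
    (f : X ⟶ Spec (CommRingCat.of A)) (h : Y ⟶ Spec (CommRingCat.of A)) [IsProper f] [LocallyOfFiniteType h]
    (φ ψ : X ⟶ Y) (hφ : φ ≫ h = f) (hψ : ψ ≫ h = f)
    (e : ∀ n : ℕ, CohB1.thickι f I n ≫ φ = CohB1.thickι f I n ≫ ψ) : φ = ψ := by
  letI : X.Over (Spec (CommRingCat.of A)) := ⟨f⟩
  haveI : IsProper (X ↘ Spec (CommRingCat.of A)) := ‹IsProper f›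
  haveI := SerreVanish.isNoetherian_of_proper (X := X) A
  let p : X ⟶ pullback h h := pullback.lift φ ψ (by rw [hφ, hψ])
  let E := pullback.snd (pullback.diagonal h) p
  haveI : IsImmersion E := MorphismProperty.pullback_snd (P := @IsImmersion) _ _ inferInstance
  have hfac : ∀ n, ∃ k, k ≫ E = CohB1.thickι f I n := fun n =>
    ⟨pullback.lift (CohB1.thickι f I n ≫ φ) (CohB1.thickι f I n) (pullback.hom_ext
      (by simp [p]; erw [pullback.lift_fst]) (by simp [p]; erw [pullback.lift_snd, e n])), pullback.lift_snd _ _ _⟩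
  have hcl : ∀ y : X, IsClosed ({y} : Set X) → I ≤ (f y).asIdeal := fun y hy =>
    le_asIdeal_of_closed_singleton I (isProperOver_of_isClosed (Z := Set.univ) isClosed_univ) (Set.mem_univ y) hy
  have hco : (E.coborderRange : Set X) = Set.univ := by
    by_contra hne
    obtain ⟨y, hy, hyc⟩ := E.coborderRange.isOpen.isClosed_compl.exists_closed_singleton
      (Set.nonempty_compl.2 hne)
    obtain ⟨k, hk⟩ := hfac 0
    obtain ⟨z, hz⟩ := (range_thickι f I 0).ge (hcl y hyc)
    refine hy (subset_coborder (s := Set.range E) ⟨k z, ?_⟩)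
    rw [← Scheme.Hom.comp_apply, hk, hz]
  haveI : IsClosedImmersion E := by
    refine IsClosedImmersion.of_isPreimmersion _ ?_
    have h1 := closure_inter_coborder (s := Set.range E)
    rw [show coborder (Set.range E) = Set.univ from hco, Set.inter_univ] at h1
    rw [← h1]
    exact isClosed_closure
  have hle : ∀ n, E.ker ≤ baseIdeal X (I ^ (n + 1)) := fun n => by
    obtain ⟨k, hk⟩ := hfac n
    refine (Scheme.Hom.le_ker_comp k E).trans ?_
    rw [hk, ker_thickι]
    exact le_rfl
  have hbot : E.ker = ⊥ := by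
    refine eq_bot_of_vanishOpens (Opens.ext ?_)
    show (vanishOpens E.ker : Set X) = Set.univ
    by_contra hne
    obtain ⟨y, hy, hyc⟩ := (vanishOpens E.ker).isOpen.isClosed_compl.exists_closed_singleton
      (Set.nonempty_compl.2 hne)
    obtain ⟨U, hyU, hU⟩ := exists_ideal_eq_bot E.ker I (hcl y hyc) fun n => GrothLib.DivPart.stalkIdeal_mono (hle n) y
    exact hy (le_vanishOpens_of_ideal_eq_bot hU hyU)
  haveI : IsIso E := IsClosedImmersion.isIso_of_ker_eq E (𝟙 X) E (Category.comp_id _)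
    (hbot.trans (Scheme.Hom.ker_eq_bot_of_isIso (𝟙 X)).symm)
  have h1 : E ≫ φ = E ≫ ψ := by
    have h2 : pullback.fst (pullback.diagonal h) p ≫ pullback.diagonal h = E ≫ p := pullback.condition
    have h3 := congrArg (· ≫ pullback.fst h h) h2
    have h4 := congrArg (· ≫ pullback.snd h h) h2
    simp only [p, Category.assoc, pullback.diagonal_fst, pullback.diagonal_snd, pullback.lift_fst, pullback.lift_snd,
      Category.comp_id] at h3 h4
    exact h3.symm.trans h4
  exact (cancel_epi E).1 h1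

/-- An open part of the first thickening proper over the base extends to a clopen part proper over the base. -/
theorem exists_clopen_of_thick_open [IsNoetherianRing A] (I : Ideal A) [IsAdicComplete I A] {X : Scheme.{u}}
    (f : X ⟶ Spec (CommRingCat.of A)) [IsSeparated f] [LocallyOfFiniteType f] [QuasiCompact f]
    (V : (CohB1.thick f I 0).Opens) [IsProper (V.ι ≫ CohB1.thickToBase f I 0)] :
    ∃ U : X.Opens, IsClosed (U : Set X) ∧ IsProper (U.ι ≫ f) ∧ CohB1.thickι f I 0 ⁻¹ᵁ U = V := by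
  letI : X.Over (Spec (CommRingCat.of A)) := ⟨f⟩
  haveI : IsSeparated (X ↘ Spec (CommRingCat.of A)) := ‹IsSeparated f›
  haveI : LocallyOfFiniteType (X ↘ Spec (CommRingCat.of A)) := ‹LocallyOfFiniteType f›
  haveI : QuasiCompact (X ↘ Spec (CommRingCat.of A)) := ‹QuasiCompact f›
  haveI : IsLocallyNoetherian X := LocallyOfFiniteType.isLocallyNoetherian f
  haveI : CompactSpace X := QuasiCompact.compactSpace_of_compactSpace f
  haveI : AlgebraicGeometry.IsNoetherian X := {}
  haveI hci := isClosedImmersion_thickι f I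
  haveI hcq := isClosedImmersion_specQuot I
  let i₀ := CohB1.thickι f I 0
  haveI : IsProper (V.ι ≫ i₀) := by
    haveI : IsSeparated f := ‹IsSeparated f›
    haveI : IsProper ((V.ι ≫ i₀) ≫ f) := by
      rw [Category.assoc, show i₀ ≫ f = CohB1.thickToBase f I 0 ≫ CohB1.specQuot I 0 from pullback.condition,
        ← Category.assoc]
      infer_instance
    exact IsProper.of_comp _ f
  let S : Set X := i₀ '' V
  have hS : IsClosed S := by
    have h1 := (V.ι ≫ i₀).isClosedMap.isClosed_range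
    rwa [Scheme.Hom.comp_base, TopCat.coe_comp, Set.range_comp, Scheme.Opens.range_ι] at h1
  let O : X.Opens := ⟨(i₀ '' (V : Set _)ᶜ)ᶜ, (i₀.isClosedMap _ V.isOpen.isClosed_compl).isOpen_compl⟩
  have hO : ∀ x ∈ Set.range i₀, x ∈ O ↔ x ∈ S := by
    rintro _ ⟨z, rfl⟩
    refine ⟨fun h => ⟨z, by_contra fun hz => h ⟨z, hz, rfl⟩, rfl⟩, ?_⟩
    rintro ⟨z', hz', he⟩ ⟨z'', hz'', he'⟩
    exact hz'' (i₀.isClosedEmbedding.injective (he'.trans he.symm) ▸ hz')
  let Oi : ∀ n, (CohB1.thick f I n).Opens := fun n => CohB1.thickι f I n ⁻¹ᵁ O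
  have hOV : Oi 0 = V := Opens.ext (Set.ext fun z => (hO (i₀ z) ⟨z, rfl⟩).trans
    ⟨fun ⟨z', hz', he⟩ => i₀.isClosedEmbedding.injective he ▸ hz', fun h => ⟨z, h, rfl⟩⟩)
  have hpre : ∀ n, CohB1.thickTrans f I n ⁻¹ᵁ Oi (n + 1) = Oi n := fun n => by
    show CohB1.thickTrans f I n ⁻¹ᵁ CohB1.thickι f I (n + 1) ⁻¹ᵁ O = _
    rw [← Scheme.Hom.comp_preimage, thickTrans_thickι]
  let t : ∀ n, (Oi n).toScheme ⟶ (Oi (n + 1)).toScheme := fun n =>
    ((CohB1.thick f I n).isoOfEq (hpre n)).inv ≫ (CohB1.thickTrans f I n ∣_ Oi (n + 1))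
  have ht : ∀ n, IsPullback (t n) (Oi n).ι (Oi (n + 1)).ι (CohB1.thickTrans f I n) := fun n =>
    IsPullback.of_iso (isPullback_morphismRestrict (CohB1.thickTrans f I n) (Oi (n + 1)))
      ((CohB1.thick f I n).isoOfEq (hpre n)) (Iso.refl _) (Iso.refl _) (Iso.refl _)
      (by simp [t]) (by simp [Scheme.isoOfEq_hom_ι]) (by simp) (by simp)
  have hz : ∀ n, IsClosedImmersion (Oi n).ι := fun n => by
    refine IsClosedImmersion.of_isPreimmersion _ ?_
    rw [Scheme.Opens.range_ι]
    have h1 : (Oi n : Set (CohB1.thick f I n)) = CohB1.thickι f I n ⁻¹' S := Set.ext fun z =>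
      hO (CohB1.thickι f I n z) ((range_thickι f I 0).ge ((range_thickι f I n).le ⟨z, rfl⟩))
    rw [h1]
    exact hS.preimage (CohB1.thickι f I n).continuous
  have hp : IsProper ((Oi 0).ι ≫ CohB1.thickToBase f I 0) := hOV ▸ ‹IsProper (V.ι ≫ CohB1.thickToBase f I 0)›
  obtain ⟨W, i, w, _, hip, -, hpb⟩ := exists_closed_algebraization f I (fun n => (Oi n).ι) t hz ht hp
  haveI := hip
  have hWsupp : ClSub.IsProperOver f (Set.range i) :=
    ProperOver.isProperOver_of_closedImmersion f i i.isClosedEmbedding.isClosed_range subset_rfl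
  have hrange : ∀ x ∈ Set.range i₀, x ∈ Set.range i ↔ x ∈ O := by
    rintro _ ⟨z, rfl⟩
    have h1 : Set.range (Oi 0).ι = i₀ ⁻¹' Set.range i := by
      rw [← (hpb 0).isoPullback_hom_snd, Scheme.Hom.comp_base, TopCat.coe_comp,
        Set.range_comp, Set.range_eq_univ.2 (hpb 0).isoPullback.hom.surjective, Set.image_univ,
        Scheme.Pullback.range_snd]
    rw [Scheme.Opens.range_ι] at h1
    exact (Set.ext_iff.1 h1 z).symm
  have hle : ∀ n (y : X), y ∈ O → stalkIdeal i.ker y ≤ stalkIdeal (baseIdeal X (I ^ (n + 1))) y := fun n y hy => by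
    obtain ⟨_, ⟨U, hU, rfl⟩, hyU, hUO⟩ := X.isBasis_affineOpens.exists_subset_of_mem_open hy O.isOpen
    rw [stalkIdeal_eq _ ⟨U, hU⟩ hyU, stalkIdeal_eq _ ⟨U, hU⟩ hyU]
    refine Ideal.map_mono ?_
    refine le_trans (b := ((Oi n).ι ≫ CohB1.thickι f I n).ker.ideal ⟨U, hU⟩) ?_ ?_
    · rw [← (hpb n).w]
      exact Scheme.Hom.le_ker_comp _ _ ⟨U, hU⟩
    · intro a ha
      rw [Scheme.Hom.ker_apply, RingHom.mem_ker, Scheme.Hom.comp_app] at ha
      show a ∈ ((FSch.idealSpec A (I ^ (n + 1))).comap f).ideal ⟨U, hU⟩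
      rw [← ker_thickι, Scheme.Hom.ker_apply, RingHom.mem_ker]
      haveI : IsIso ((Oi n).ι.app (CohB1.thickι f I n ⁻¹ᵁ U)) := Scheme.Hom.isIso_app _ _ (by
        rw [Scheme.Opens.opensRange_ι]
        exact fun z hz => hUO hz)
      exact (ConcreteCategory.bijective_of_isIso ((Oi n).ι.app (CohB1.thickι f I n ⁻¹ᵁ U))).1
        (ha.trans (map_zero _).symm)
  have hsub : Set.range i ⊆ vanishOpens i.ker := by
    by_contra hne
    obtain ⟨y, ⟨hyW, hy⟩, hyc⟩ := (i.isClosedEmbedding.isClosed_range.inter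
      (vanishOpens i.ker).isOpen.isClosed_compl).exists_closed_singleton (Set.sdiff_nonempty.2 hne)
    have hyI := le_asIdeal_of_closed_singleton I hWsupp hyW hyc
    have hyO := (hrange y ((range_thickι f I 0).ge hyI)).1 hyW
    obtain ⟨U, hyU, hU⟩ := exists_ideal_eq_bot i.ker I hyI fun n => hle n y hyO
    exact hy (le_vanishOpens_of_ideal_eq_bot hU hyU)
  have heq : (vanishOpens i.ker : Set X) = Set.range i := by
    refine subset_antisymm ?_ hsub
    refine (vanishOpens_subset_support i.ker).trans ?_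
    rw [Scheme.Hom.support_ker]
    exact i.isClosedEmbedding.isClosed_range.closure_eq.le
  refine ⟨vanishOpens i.ker, heq ▸ i.isClosedEmbedding.isClosed_range, ?_, ?_⟩
  · haveI : IsClosedImmersion (vanishOpens i.ker).ι := by
      refine IsClosedImmersion.of_isPreimmersion _ ?_
      rw [Scheme.Opens.range_ι, heq]
      exact i.isClosedEmbedding.isClosed_range
    refine ProperOver.isProper_of_isProperOver f (vanishOpens i.ker).ι ?_
    rw [Scheme.Opens.range_ι, heq]
    exact hWsupp
  · rw [← hOV]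
    refine Opens.ext (Set.ext fun z => ?_)
    show i₀ z ∈ (vanishOpens i.ker : Set X) ↔ i₀ z ∈ O
    rw [heq]
    exact hrange _ ⟨z, rfl⟩

end GrothLib.FormalExist7
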