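import Groth.Agent.Lib.FormalExist7.Support
import Groth.Agent.Lib.BlowUp.IdealComap
import Groth.Agent.Lib.FSchSys.SpecKer
import Groth.Agent.Lib.HomSh.Coherent
import Groth.Prelude.Def_FSch3

/-!
# The formal module of a compatible system of ideal sheaves
-/

set_option autoImplicit false
set_option linter.style.haveILetI false
set_option linter.unusedSectionVars false
universe u

open CategoryTheory CategoryTheory.Limits AlgebraicGeometry Opposite TopologicalSpace

namespace GrothLib.FormalExist7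

open GrothLib.FormalSys GrothLib.FormalFun GrothLib.QCoh GrothLib.FormalCd7

variable {A : Type u} [CommRing A] {X : Scheme.{u}} [X.Over (Spec (CommRingCat.of A))]

/-- The ideal sheaf of the multiples of `J`. -/
noncomputable abbrev baseIdeal (X : Scheme.{u}) [X.Over (Spec (CommRingCat.of A))] (J : Ideal A) : X.IdealSheafData :=
  (FSch.idealSpec A J).comap (X ↘ Spec (CommRingCat.of A))

theorem ideal_idealSpec (J : Ideal A) :
    (FSch.idealSpec A J).ideal ⟨⊤, isAffineOpen_top _⟩ = J.map (Scheme.ΓSpecIso (CommRingCat.of A)).inv.hom := by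
  show (Spec.map (CommRingCat.ofHom (Ideal.Quotient.mk J))).ker.ideal ⟨⊤, isAffineOpen_top _⟩ = _
  rw [FSchSys.ideal_ker_SpecMap]
  exact congrArg (Ideal.map _) (Ideal.mk_ker (I := J))

theorem ideal_baseIdeal (J : Ideal A) (U : X.affineOpens) :
    (baseIdeal X J).ideal U = J.map (toSec A U.1) := by
  rw [BlowUp.ideal_comap_eq_map (FSch.idealSpec A J) (X ↘ Spec (CommRingCat.of A))
    ⟨⊤, isAffineOpen_top _⟩ U le_top, ideal_idealSpec, Ideal.map_map]
  rfl

/-- Germs of vanishing sections of the quotient map are multiples. -/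
theorem exists_mem_of_stalk_toModIdeal_eq_zero [IsLocallyNoetherian X] (L : X.IdealSheafData) {M : X.Modules}
    (hM : Coh.IsCoh M) {y : X} {v : M.presheaf.stalk y} (hv : stalkLin ((toModIdeal L).app M) y v = 0) :
    ∃ (U : X.affineOpens) (hy : y ∈ U.1) (c : Γ(X, U.1)) (z : Γ(M, U.1)), c ∉ WeakAss.primeAt y hy ∧
      z ∈ L.ideal U • (⊤ : Submodule Γ(X, U.1) Γ(M, U.1)) ∧
      X.presheaf.germ U.1 y hy c • v = M.presheaf.germ U.1 y hy z := by
  haveI := hM.1
  obtain ⟨_, ⟨U, hU, rfl⟩, hy, -⟩ := X.isBasis_affineOpens.exists_subset_of_mem_open (Set.mem_univ y) isOpen_univ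
  obtain ⟨c, z, hc, hz⟩ := WeakAss.exists_smul_eq_germ hU hy v
  haveI : ((modIdeal L).obj M).IsQuasicoherent := (K0Sub.isCoh_pushPull L.subschemeι hM).1
  let t : M ⟶ (modIdeal L).obj M := (toModIdeal L).app M
  have hv' : stalkLin t y v = 0 := hv
  have h0 : ((modIdeal L).obj M).presheaf.germ U y hy (t.app U z) = 0 := by
    rw [← stalkLin_germ t hy z, ← hz, map_smul, hv', smul_zero]
  obtain ⟨d, hd, hdz⟩ := (WeakAss.germ_eq_zero_iff hU hy _).1 h0
  refine ⟨⟨U, hU⟩, hy, d * c, d • z, fun h =>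
    ((inferInstance : (WeakAss.primeAt y hy).IsPrime).mem_or_mem h).elim hd hc, ?_, ?_⟩
  · refine (toModIdeal_app_eq_zero_iff L hM ⟨U, hU⟩ _).1 ?_
    exact ((appLinear ((toModIdeal L).app M) U).map_smul d z).trans hdz
  · rw [map_mul, mul_smul, hz, WeakAss.germ_smul]

theorem killedBy_of_killedByIdeal (J : Ideal A) {L : X.IdealSheafData} (h : baseIdeal X J ≤ L) {N : X.Modules}
    [N.IsQuasicoherent] (hN : ClSub.KilledByIdeal L N) : Formal.KilledBy J N := fun a ha => by
  refine hom_ext_stalkLin fun y v => ?_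
  obtain ⟨_, ⟨U, hU, rfl⟩, hy, -⟩ := X.isBasis_affineOpens.exists_subset_of_mem_open (Set.mem_univ y) isOpen_univ
  obtain ⟨c, z, hc, hz⟩ := WeakAss.exists_smul_eq_germ hU hy v
  rw [stalkLin_zero, stalkLin_smulMod]
  refine ((FormalCd7.isUnit_germ hc).smul_eq_zero).1 ?_
  have h1 : toSec A U a • z = 0 := hN ⟨U, hU⟩ _ (h ⟨U, hU⟩ (by
    rw [ideal_baseIdeal]; exact Ideal.mem_map_of_mem _ ha)) z
  rw [smul_comm, hz, ← germ_toSec hy, ← WeakAss.germ_smul, h1, map_zero]

theorem killedByIdeal_mono {L L' : X.IdealSheafData} (h : L ≤ L') {N : X.Modules}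
    (hN : ClSub.KilledByIdeal L' N) : ClSub.KilledByIdeal L N := fun U a ha => hN U a (h U ha)

theorem exists_transition [IsLocallyNoetherian X] {L L' : X.IdealSheafData} (h : L ≤ L') {M : X.Modules}
    (hM : Coh.IsCoh M) :
    ∃ q : (modIdeal L).obj M ⟶ (modIdeal L').obj M, (toModIdeal L).app M ≫ q = (toModIdeal L').app M := by
  haveI : IsIso ((toModIdeal L).app ((modIdeal L').obj M)) := isIso_toModIdeal L (K0Sub.isCoh_pushPull L'.subschemeι hM)
    (killedByIdeal_mono h (killedByIdeal_modIdeal L' M))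
  refine ⟨(modIdeal L).map ((toModIdeal L').app M) ≫ inv ((toModIdeal L).app ((modIdeal L').obj M)), ?_⟩
  rw [← Category.assoc, IsIso.comp_inv_eq]
  exact ((toModIdeal L).naturality ((toModIdeal L').app M)).symm

theorem isQuot_transition [IsLocallyNoetherian X] {L L' : X.IdealSheafData} {K : Ideal A}
    (h : L' = L ⊔ baseIdeal X K) {M : X.Modules} (hM : Coh.IsCoh M)
    {q : (modIdeal L).obj M ⟶ (modIdeal L').obj M} (hq : (toModIdeal L).app M ≫ q = (toModIdeal L').app M) :
    IsQuot K q := by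
  let t : M ⟶ (modIdeal L).obj M := (toModIdeal L).app M
  let t' : M ⟶ (modIdeal L').obj M := (toModIdeal L').app M
  have hq' : t ≫ q = t' := hq
  haveI : Epi t' := epi_toModIdeal L' hM
  haveI : Epi t := epi_toModIdeal L hM
  haveI : Epi q := epi_of_epi_fac hq'
  haveI : ((modIdeal L').obj M).IsQuasicoherent := (K0Sub.isCoh_pushPull L'.subschemeι hM).1
  refine isQuot_of_stalk q (killedBy_of_killedByIdeal K (h ▸ le_sup_right) (killedByIdeal_modIdeal L' M))
    fun y w hw => ?_
  obtain ⟨v, rfl⟩ := stalkLin_surjective t y w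
  rw [← stalkLin_comp, hq'] at hw
  obtain ⟨U, hy, c, z, hc, hz, he⟩ := exists_mem_of_stalk_toModIdeal_eq_zero L' hM hw
  rw [← Submodule.smul_mem_iff_of_isUnit _ (FormalCd7.isUnit_germ hc), ← map_smul, he,
    stalkLin_germ t hy z]
  haveI := hM.1
  refine germ_mem_of_mem hy K ?_
  rw [h, Scheme.IdealSheafData.ideal_sup, Pi.sup_apply, ideal_baseIdeal, Submodule.sup_smul] at hz
  obtain ⟨z₁, hz₁, z₂, hz₂, rfl⟩ := Submodule.mem_sup.1 hz
  rw [map_add]
  refine add_mem ?_ ?_
  · rw [show t.app U.1 z₁ = 0 from (toModIdeal_app_eq_zero_iff L hM U z₁).2 hz₁]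
    exact zero_mem _
  · refine Submodule.smul_induction_on hz₂ (fun r hr x _ => ?_) (fun x x' hx hx' => by
      rw [map_add]; exact add_mem hx hx')
    rw [show t.app U.1 (r • x) = r • t.app U.1 x from (appLinear t U.1).map_smul r x]
    exact Submodule.smul_mem_smul hr trivial

/-- A compatible system of ideal sheaves and a coherent module give a coherent formal module. -/
theorem exists_formal_of_idealSystem [IsLocallyNoetherian X] (I : Ideal A) (K : ℕ → X.IdealSheafData)
    (hK0 : ∀ n, baseIdeal X (I ^ (n + 1)) ≤ K n)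
    (hK : ∀ n, K n = K (n + 1) ⊔ baseIdeal X (I ^ (n + 1))) {M : X.Modules} (hM : Coh.IsCoh M) :
    ∃ (G : ℕᵒᵖ ⥤ X.Modules) (_ : Formal.IsCohFormal I G)
      (e : ∀ n : ℕ, G.obj (op n) ≅ (modIdeal (K n)).obj M),
      ∀ n : ℕ, (toModIdeal (K (n + 1))).app M ≫ (e (n + 1)).inv ≫ G.map (homOfLE (Nat.le_succ n)).op =
        (toModIdeal (K n)).app M ≫ (e n).inv := by
  choose q hq using fun n => exists_transition (L := K (n + 1)) (L' := K n) ((hK n).ge.trans' le_sup_left) hM
  let G : ℕᵒᵖ ⥤ X.Modules := Functor.ofOpSequence (X := fun n => (modIdeal (K n)).obj M) (fun n => q n)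
  have hmap : ∀ n : ℕ, G.map (homOfLE (Nat.le_succ n)).op = q n :=
    Functor.ofOpSequence_map_homOfLE_succ (X := fun n => (modIdeal (K n)).obj M) (fun n => q n)
  refine ⟨G, ⟨fun n => K0Sub.isCoh_pushPull (K n).subschemeι hM, fun n => ?_, fun n => ?_⟩,
    fun n => Iso.refl _, fun n => ?_⟩
  · haveI : ((modIdeal (K n)).obj M).IsQuasicoherent := (K0Sub.isCoh_pushPull (K n).subschemeι hM).1
    exact killedBy_of_killedByIdeal (N := (modIdeal (K n)).obj M) _ (hK0 n) (killedByIdeal_modIdeal (K n) M)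
  · rw [hmap]
    exact isQuot_transition (hK n) hM (hq n)
  · rw [hmap]
    exact (congrArg (_ ≫ ·) (Category.id_comp _)).trans ((hq n).trans (Category.comp_id _).symm)

end GrothLib.FormalExist7
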