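import Groth.Agent.Lib.FormalExist7.GradedAR
import Groth.Agent.Lib.FormalExist7.Stalk
import Groth.Agent.Lib.FormalCd7.Torsion
import Groth.Agent.Lib.QCoh.Coherent

/-!
# A uniform Artin–Rees bound for maps into a coherent formal module
-/

set_option autoImplicit false
set_option linter.style.haveILetI false
universe u

open CategoryTheory CategoryTheory.Limits AlgebraicGeometry Opposite TopologicalSpace

namespace GrothLib.FormalExist7

open GrothLib.FormalSys GrothLib.FormalFun GrothLib.QCoh GrothLib.FormalCd7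

variable {A : Type u} [CommRing A] {X : Scheme.{u}} [X.Over (Spec (CommRingCat.of A))]

/-- A quotient by multiples, tested on stalks. -/
theorem isQuot_of_stalk {J : Ideal A} {M N : X.Modules} (π : M ⟶ N) [Epi π]
    (hN : Formal.KilledBy J N)
    (hker : ∀ (y : X) (v : M.presheaf.stalk y), stalkLin π y v = 0 →
      v ∈ (J.map (toStalk A y)) • (⊤ : Submodule (X.presheaf.stalk y) (M.presheaf.stalk y))) :
    IsQuot J π := by
  have hq := IsQuot.cokernelπ J M
  haveI := hq.epi
  obtain ⟨χ, hχ⟩ := hq.exists_desc' π hN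
  haveI : Epi χ := epi_of_epi_fac hχ
  have hinj : ∀ y, Function.Injective (stalkLin χ y) := fun y =>
    (injective_iff_map_eq_zero _).2 fun w hw => by
      obtain ⟨v, rfl⟩ := stalkLin_surjective (cokernel.π (Formal.smulFamily J M)) y w
      have h : stalkLin π y v = 0 := by rw [← hχ, stalkLin_comp]; exact hw
      exact LinearMap.mem_ker.1 ((ker_stalkLin_of_isQuot hq y).symm ▸ hker y v h :
        v ∈ LinearMap.ker (stalkLin (cokernel.π (Formal.smulFamily J M)) y))
  haveI : Mono χ := (OX.mono_iff χ).2 fun y => (ModuleCat.mono_iff_injective _).2 (hinj y)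
  haveI : IsIso χ := isIso_of_mono_of_epi χ
  rw [← hχ]
  exact hq.comp_isIso χ

/-- An epimorphism from a coherent module is surjective on affine sections. -/
theorem app_surjective_of_epi [IsLocallyNoetherian X] {M N : X.Modules} (φ : M ⟶ N) [Epi φ] (hM : Coh.IsCoh M)
    (hN : Coh.IsCoh N) {U : X.Opens} (hU : IsAffineOpen U) : Function.Surjective (φ.app U) := by
  haveI : (ShortComplex.mk (kernel.ι φ) φ (kernel.condition φ)).X₁.IsQuasicoherent := (isCoh_kernel φ hM hN).1
  exact app_surjective_of_isAffineOpen (S := ShortComplex.mk (kernel.ι φ) φ (kernel.condition φ))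
    (ShortComplex.ShortExact.mk' (ShortComplex.exact_of_f_is_kernel _ (kernelIsKernel φ)) inferInstance ‹Epi φ›) hU

/-- For a map of systems into a coherent formal module whose source has epimorphic transition maps, deep
multiples in the image are images of deep multiples, uniformly. -/
theorem exists_system_bound [IsNoetherian X] {I : Ideal A} {G P : ℕᵒᵖ ⥤ X.Modules}
    (hG : Formal.IsCohFormal I G) (hP : ∀ n, Coh.IsCoh (P.obj (op n)))
    (hPe : ∀ {q n : ℕ} (h : q ≤ n), Epi (trans P h)) (ψ : P ⟶ G) :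
    ∃ c : ℕ, ∀ (m p : ℕ) (y : X) (v : (P.obj (op m)).presheaf.stalk y),
      stalkLin (ψ.app (op m)) y v ∈ ((I ^ p).map (toStalk A y)) • (⊤ : Submodule (X.presheaf.stalk y) _) →
      v ∈ LinearMap.ker (stalkLin (ψ.app (op m)) y) ⊔
        ((I ^ (p - c)).map (toStalk A y)) • (⊤ : Submodule (X.presheaf.stalk y) _) := by
  classical
  obtain ⟨t, ht⟩ := isCompact_univ.elim_finite_subcover (fun W : X.affineOpens => (W.1 : Set X))
    (fun W => W.1.2) fun x _ => by
      obtain ⟨_, ⟨Z, hZ, rfl⟩, hx, -⟩ :=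
        X.isBasis_affineOpens.exists_subset_of_mem_open (Set.mem_univ x) isOpen_univ
      exact Set.mem_iUnion.2 ⟨⟨Z, hZ⟩, hx⟩
  have hW : ∀ W : X.affineOpens, ∃ c : ℕ, ∀ (m p : ℕ) (z : Γ(P.obj (op m), W.1)),
      appLinear (ψ.app (op m)) W.1 z ∈ (I.map (toSec A W.1)) ^ p • (⊤ : Submodule Γ(X, W.1) _) →
      z ∈ LinearMap.ker (appLinear (ψ.app (op m)) W.1) ⊔
        (I.map (toSec A W.1)) ^ (p - c) • (⊤ : Submodule Γ(X, W.1) _) := fun W => by
    haveI : IsNoetherianRing Γ(X, W.1) := IsLocallyNoetherian.component_noetherian W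
    obtain ⟨r, a, ha⟩ := Submodule.fg_iff_exists_fin_generating_family.1
      (IsNoetherian.noetherian (I.map (toSec A W.1)))
    have hJ : Ideal.span (Set.range a) = I.map (toSec A W.1) := ha
    haveI := (hG.1 0).1
    haveI : Module.Finite Γ(X, W.1) Γ(G.obj (op 0), W.1) :=
      moduleFinite_of_isFiniteType (G.obj (op 0)) (hG.1 0).2 W.2
    obtain ⟨c, hc⟩ := exists_system_ar a (fun n => Γ(G.obj (op n), W.1))
      (fun {q n} h => secTrans G W.1 h)
      (fun n x => congrArg (fun φ : G.obj (op n) ⟶ G.obj (op n) => (φ.val.app (op W.1)).hom x) (G.map_id _))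
      (fun {p q n} h h' x => congrArg (fun φ : G.obj (op n) ⟶ G.obj (op p) => (φ.val.app (op W.1)).hom x)
        (FormalCd7.trans_comp G h h'))
      (fun {q n} h => (FormalFn.app_isQuot (hG.1 n) (isQuot_map hG h) W.2).1)
      (fun {q n} h => Submodule.ext fun z => by
        rw [LinearMap.mem_ker, secTrans_eq_zero_iff hG W.2 h, hJ, Ideal.map_pow])
      (fun n => LinearMap.range (appLinear (ψ.app (op n)) W.1))
      (fun {q n} h => by
        have hcomm : ∀ x, secTrans G W.1 h (appLinear (ψ.app (op n)) W.1 x) =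
            appLinear (ψ.app (op q)) W.1 ((trans P h).app W.1 x) := fun x =>
          congrArg (fun φ : P.obj (op n) ⟶ G.obj (op q) => φ.app W.1 x) (ψ.naturality (homOfLE h).op).symm
        refine le_antisymm ?_ ?_
        · rintro _ ⟨_, ⟨x, rfl⟩, rfl⟩
          exact ⟨_, (hcomm x).symm⟩
        · rintro _ ⟨x, rfl⟩
          haveI := hPe h
          obtain ⟨x, rfl⟩ := app_surjective_of_epi (trans P h) (hP n) (hP q) W.2 x
          exact ⟨_, ⟨x, rfl⟩, hcomm x⟩)
    refine ⟨c, fun m p z hz => ?_⟩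
    have h1 := hc m p _ ⟨z, rfl⟩ (hJ ▸ hz)
    rw [hJ, ← Submodule.map_top, ← Submodule.map_smul''] at h1
    obtain ⟨z', hz', he⟩ := h1
    rw [← sub_add_cancel z z']
    exact Submodule.add_mem_sup (by rw [LinearMap.mem_ker, map_sub, he, sub_self]) hz'
  choose cc hcc using hW
  refine ⟨t.sup cc, fun m p y v hv => ?_⟩
  obtain ⟨W, hWt, hy⟩ := Set.mem_iUnion₂.1 (ht (Set.mem_univ y))
  have hy : y ∈ W.1 := hy
  haveI := (hP m).1
  haveI := (hG.1 m).1
  obtain ⟨c₁, z, hc₁, e⟩ := WeakAss.exists_smul_eq_germ W.2 hy v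
  have hgz : (G.obj (op m)).presheaf.germ W.1 y hy ((ψ.app (op m)).app W.1 z) ∈
      ((I ^ p).map (toStalk A y)) • (⊤ : Submodule (X.presheaf.stalk y) ((G.obj (op m)).presheaf.stalk y)) := by
    rw [← stalkLin_germ (ψ.app (op m)) hy z, ← e, map_smul]
    exact Submodule.smul_mem _ _ hv
  obtain ⟨c₂, hc₂, hz⟩ := exists_smul_mem_of_germ_mem W.2 hy (I ^ p) hgz
  rw [Ideal.map_pow] at hz
  have hz' : appLinear (ψ.app (op m)) W.1 (c₂ • z) ∈ (I.map (toSec A W.1)) ^ p • (⊤ : Submodule Γ(X, W.1) _) := by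
    rw [map_smul]; exact hz
  obtain ⟨k, hk, z', hz'', hkz⟩ := Submodule.mem_sup.1 (hcc W m p (c₂ • z) hz')
  have hu : IsUnit (X.presheaf.germ W.1 y hy c₂ * X.presheaf.germ W.1 y hy c₁) :=
    (FormalCd7.isUnit_germ hc₂).mul (FormalCd7.isUnit_germ hc₁)
  suffices (X.presheaf.germ W.1 y hy c₂ * X.presheaf.germ W.1 y hy c₁) • v ∈
      LinearMap.ker (stalkLin (ψ.app (op m)) y) ⊔
        ((I ^ (p - t.sup cc)).map (toStalk A y)) • (⊤ : Submodule (X.presheaf.stalk y) _) by
    exact (Submodule.smul_mem_iff_of_isUnit _ hu).1 this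
  rw [mul_smul, e, ← WeakAss.germ_smul, ← hkz, map_add]
  refine Submodule.add_mem_sup ?_ ?_
  · rw [LinearMap.mem_ker, stalkLin_germ (ψ.app (op m)) hy k]
    exact (congrArg _ (LinearMap.mem_ker.1 hk)).trans (map_zero _)
  · refine germ_mem_of_mem hy _ ?_
    rw [Ideal.map_pow]
    exact Submodule.smul_mono_left (Ideal.pow_le_pow_right (Nat.sub_le_sub_left (Finset.le_sup hWt) p)) hz''

end GrothLib.FormalExist7
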