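import Groth.Agent.Lib.FormalExist7.OpenPush
import Groth.Agent.Lib.FormalFun.LevelsFree
import Groth.Agent.Lib.QCoh.AvoidSub
import Groth.Agent.Lib.QCoh.SupportPullback

/-!
# Existence with proper support on opens of schemes with existence
-/

set_option autoImplicit false
set_option linter.style.haveILetI false
universe u

open CategoryTheory CategoryTheory.Limits AlgebraicGeometry Opposite TopologicalSpace

namespace GrothLib.FormalExist7

open GrothLib.FormalSys GrothLib.FormalFun GrothLib.QCoh GrothLib.FormalCd7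

variable {A : Type u} [CommRing A] [IsNoetherianRing A] {X : Scheme.{u}} [X.Over (Spec (CommRingCat.of A))]

omit [IsNoetherianRing A] in
theorem toStalk_mem_maximalIdeal {y : X} {a : A}
    (ha : a ∈ ((X ↘ Spec (CommRingCat.of A)) y).asIdeal) :
    toStalk A y a ∈ IsLocalRing.maximalIdeal (X.presheaf.stalk y) := by
  intro hu
  have h : y ∈ (X ↘ Spec (CommRingCat.of A)) ⁻¹ᵁ
      ((Spec (CommRingCat.of A)).basicOpen ((Scheme.ΓSpecIso (CommRingCat.of A)).inv a)) := by
    rw [Scheme.preimage_basicOpen]
    exact (Scheme.mem_basicOpen X _ y (Set.mem_univ _)).2 hu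
  rw [basicOpen_eq_of_affine', Iso.inv_hom_id_apply] at h
  exact (PrimeSpectrum.mem_basicOpen a ((X ↘ Spec (CommRingCat.of A)) y)).1 h ha

/-- A coherent module on a proper scheme with reduction modulo `I` supported in an open subset is. -/
theorem support_subset_of_completion [IsProper (X ↘ Spec (CommRingCat.of A))] (I : Ideal A) [IsAdicComplete I A]
    {M : X.Modules} (hM : Coh.IsCoh M) {U : X.Opens}
    (h0 : CohB1.support (Formal.modPow I 1 M) ⊆ (U : Set X)) : CohB1.support M ⊆ (U : Set X) := by
  haveI := SerreVanish.isNoetherian_of_proper (X := X) A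
  intro x hx
  by_contra hxU
  have hcl : IsClosed (CohB1.support M ∩ (U : Set X)ᶜ) :=
    (isClosed_support_of_isCoh hM).inter U.isOpen.isClosed_compl
  obtain ⟨y, ⟨hyM, hyU⟩, hy⟩ := hcl.exists_closed_singleton ⟨x, hx, hxU⟩
  let f := X ↘ Spec (CommRingCat.of A)
  have hc : IsClosed ({f y} : Set (Spec (CommRingCat.of A))) := by
    rw [← Set.image_singleton]
    exact f.isClosedMap _ hy
  have hmax : (f y).asIdeal.IsMaximal := (PrimeSpectrum.isClosed_singleton_iff_isMaximal _).1 hc
  have hI : I ≤ (f y).asIdeal := (IsAdicComplete.le_jacobson_bot I).trans (sInf_le ⟨bot_le, hmax⟩)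
  haveI := stalk_subsingleton_of_notMem (fun h => hyU (h0 h))
  have hker : LinearMap.ker (stalkLin (Formal.modPowπ I 1 M) y) = ⊤ :=
    eq_top_iff.2 fun v _ => LinearMap.mem_ker.2 (Subsingleton.elim _ _)
  rw [ker_stalkLin_of_isQuot (IsQuot.modPowπ I 1 M), pow_one] at hker
  haveI : Module.Finite (X.presheaf.stalk y) (M.presheaf.stalk y) := QCoh.stalk_finite M hM y
  have hbot := Submodule.eq_bot_of_le_smul_of_le_jacobson_bot (I.map (toStalk A y)) ⊤ Module.Finite.fg_top
    hker.ge ((Ideal.map_le_iff_le_comap.2 fun a ha => Ideal.mem_comap.2 (toStalk_mem_maximalIdeal (hI ha))).trans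
      (IsLocalRing.maximalIdeal_le_jacobson _))
  exact hyM (subsingleton_of_forall_eq 0 fun v => (Submodule.mem_bot _).1 (hbot ▸ Submodule.mem_top (x := v)))

/-- Existence with proper support on an open subscheme of a proper scheme with existence. -/
theorem existence_of_openImmersion [IsNoetherian X] {P : Scheme.{u}} [P.Over (Spec (CommRingCat.of A))]
    [IsProper (P ↘ Spec (CommRingCat.of A))] (j : X ⟶ P) [IsOpenImmersion j]
    (hj : j ≫ (P ↘ Spec (CommRingCat.of A)) = X ↘ Spec (CommRingCat.of A))
    (I : Ideal A) [IsAdicComplete I A]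
    (hP : ∀ G : ℕᵒᵖ ⥤ P.Modules, Formal.IsCohFormal I G →
      ∃ M : P.Modules, Coh.IsCoh M ∧ Nonempty (Formal.completion I M ≅ G))
    {G : ℕᵒᵖ ⥤ X.Modules} (hG : Formal.IsCohFormal I G)
    (hGs : ClSub.IsProperOver (X ↘ Spec (CommRingCat.of A)) (CohB1.support (G.obj (op 0)))) :
    ∃ M : X.Modules, Coh.IsCoh M ∧ ClSub.IsProperOver (X ↘ Spec (CommRingCat.of A)) (CohB1.support M) ∧
      Nonempty (Formal.completion I M ≅ G) := by
  haveI := SerreVanish.isNoetherian_of_proper (X := P) A
  have hclosed : ∀ {Z : Set X}, ClSub.IsProperOver (X ↘ Spec (CommRingCat.of A)) Z → IsClosed (j '' Z) := by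
    rintro Z ⟨hZ, hp⟩
    haveI : IsProper ((ProperOver.redι Z hZ ≫ j) ≫ (P ↘ Spec (CommRingCat.of A))) := by
      rw [Category.assoc, hj]; exact hp
    haveI : IsProper (ProperOver.redι Z hZ ≫ j) := IsProper.of_comp _ (P ↘ Spec (CommRingCat.of A))
    have h := (ProperOver.redι Z hZ ≫ j).isClosedMap.isClosed_range
    rwa [Scheme.Hom.comp_base, TopCat.coe_comp, Set.range_comp, ProperOver.range_redι] at h
  have hc : ∀ n : ℕ, IsClosed (j '' CohB1.support (G.obj (op n))) := fun n => hclosed
    (ProperOver.IsProperOver.subset _ hGs (isClosed_support_of_isCoh (hG.1 n)) (support_subset_bot hG n))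
  obtain ⟨M', hM', ⟨ζ⟩⟩ := hP _ (isCohFormal_push_open j hj hG hc)
  have hsub : CohB1.support M' ⊆ (j.opensRange : Set P) := by
    refine support_subset_of_completion I hM' ?_
    rw [show Formal.modPow I 1 M' = (Formal.completion I M').obj (op 0) from rfl,
      support_eq_of_iso (ζ.app (op 0))]
    exact support_push_open_subset j (hG.1 0) (hc 0)
  let M := (Scheme.Modules.pullback j).obj M'
  have hM : Coh.IsCoh M := isCoh_pullbackMod j hM'
  have hsupp : j '' CohB1.support M = CohB1.support M' := by
    rw [support_pullback j M' hM', Set.image_preimage_eq_inter_range]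
    exact Set.inter_eq_left.2 hsub
  refine ⟨M, hM, ?_, ?_⟩
  · haveI := hM.1
    haveI : IsClosedImmersion ((QCoh.annIdeal M hM.2).subschemeι ≫ j) := by
      refine IsClosedImmersion.of_isPreimmersion _ ?_
      rw [Scheme.Hom.comp_base, TopCat.coe_comp, Set.range_comp, Scheme.IdealSheafData.range_subschemeι,
        QCoh.coe_support_annIdeal]
      exact hsupp ▸ isClosed_support_of_isCoh hM'
    haveI : IsProper ((QCoh.annIdeal M hM.2).subschemeι ≫ (X ↘ Spec (CommRingCat.of A))) := by
      rw [← hj, ← Category.assoc]; infer_instance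
    exact ProperOver.isProperOver_of_closedImmersion _ (QCoh.annIdeal M hM.2).subschemeι
      (isClosed_support_of_isCoh hM)
      (by rw [Scheme.IdealSheafData.range_subschemeι, QCoh.coe_support_annIdeal])
  · haveI : ∀ N : X.Modules, IsIso ((Scheme.Modules.pullbackPushforwardAdjunction j).counit.app N) :=
      isIso_counit_open j
    refine exists_completion_iso (fun n => (Scheme.Modules.pullback j).map (qπ I M' n ≫ ζ.hom.app (op n)) ≫
      (Scheme.Modules.pullbackPushforwardAdjunction j).counit.app (G.obj (op n))) (fun n => ?_) fun n => ?_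
    · exact (isQuot_pullback j hj ((isQuot_qπ I M' n).comp_isIso _)).comp_isIso _
    · have h1 := (Scheme.Modules.pullbackPushforwardAdjunction j).counit.naturality
        (G.map (homOfLE (Nat.le_succ n)).op)
      rw [Category.assoc]
      refine (congrArg (_ ≫ ·) h1.symm).trans ?_
      refine (Category.assoc _ _ _).symm.trans (congrArg (· ≫ _) ?_)
      refine (Functor.map_comp _ _ _).symm.trans (congrArg _ ?_)
      show (qπ I M' (n + 1) ≫ ζ.hom.app (op (n + 1))) ≫
        (G ⋙ Scheme.Modules.pushforward j).map (homOfLE (Nat.le_succ n)).op = _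
      rw [Category.assoc, ← ζ.hom.naturality, ← Category.assoc, qπ_trans]

end GrothLib.FormalExist7
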