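import Groth.Agent.Lib.FormalExist7.Proper
import Groth.Agent.Lib.FormalExist7.QuasiProj

/-!
# Grothendieck existence with proper support
-/
set_option autoImplicit false
set_option linter.unusedSectionVars false
set_option linter.style.haveILetI false
universe u

open CategoryTheory CategoryTheory.Limits AlgebraicGeometry Opposite TopologicalSpace

namespace GrothLib.FormalExist7

open GrothLib.FormalSys GrothLib.FormalFun GrothLib.QCoh GrothLib.FormalCd7
open GrothLib.Ample (Cocycle)

variable {A : Type u} [CommRing A] [IsNoetherianRing A]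

/-- Proper support over `Spec A`. -/
def ProperSupp (A : Type u) [CommRing A] {Y : Scheme.{u}} [Y.Over (Spec (CommRingCat.of A))] (M : Y.Modules) :
    Prop :=
  ClSub.IsProperOver (Y ↘ Spec (CommRingCat.of A)) (CohB1.support M)

/-- The support is contained in a subset proper over `Spec A`. -/
def properP (A : Type u) [CommRing A] {Y : Scheme.{u}} [Y.Over (Spec (CommRingCat.of A))] (M : Y.Modules) :
    Prop :=
  ∃ Z : Set Y, ClSub.IsProperOver (Y ↘ Spec (CommRingCat.of A)) Z ∧ CohB1.support M ⊆ Z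

/-- Existence with proper support for all ideals. -/
def SupportExists (A : Type u) [CommRing A] (X : Scheme.{u}) [X.Over (Spec (CommRingCat.of A))] : Prop :=
  ∀ I : Ideal A, IsAdicComplete I A → ∀ G : ℕᵒᵖ ⥤ X.Modules, Formal.IsCohFormal I G → ProperSupp A (G.obj (op 0)) →
    ∃ M : X.Modules, Coh.IsCoh M ∧ ProperSupp A M ∧ Nonempty (Formal.completion I M ≅ G)

/-- Existence with proper support for a principal ideal. -/
def PrincipalExistsSupport (f : A) {Z : Scheme.{u}} (g : Z ⟶ Spec (CommRingCat.of A)) : Prop :=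
  letI : Z.Over (Spec (CommRingCat.of A)) := ⟨g⟩
  ∀ G : ℕᵒᵖ ⥤ Z.Modules, Formal.IsCohFormal (Ideal.span {f}) G → ProperSupp A (G.obj (op 0)) →
    ∃ M : Z.Modules, Coh.IsCoh M ∧ ProperSupp A M ∧ Nonempty (Formal.completion (Ideal.span {f}) M ≅ G)

variable {f : A} {Y : Scheme.{u}} [Y.Over (Spec (CommRingCat.of A))]

section Supp

theorem properSupp_of_subset {M N : Y.Modules} (hM : Coh.IsCoh M) (hN : ProperSupp A N)
    (h : CohB1.support M ⊆ CohB1.support N) : ProperSupp A M :=
  ProperOver.IsProperOver.subset _ hN (isClosed_support_of_isCoh hM) h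

theorem properSupp_of_properP {M : Y.Modules} (hM : Coh.IsCoh M) (h : properP A M) : ProperSupp A M :=
  ProperOver.IsProperOver.subset _ h.choose_spec.1 (isClosed_support_of_isCoh hM) h.choose_spec.2

theorem properP_of_properSupp {M : Y.Modules} (h : ProperSupp A M) : properP A M := ⟨_, h, subset_rfl⟩

theorem properP_epi (A : Type u) [CommRing A] {Y : Scheme.{u}} [Y.Over (Spec (CommRingCat.of A))] {M N : Y.Modules} (g : M ⟶ N) [Epi g]
    (h : properP A M) : properP A N :=
  ⟨h.choose, h.choose_spec.1, (support_subset_of_epi g).trans h.choose_spec.2⟩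

theorem properP_mono (A : Type u) [CommRing A] {Y : Scheme.{u}} [Y.Over (Spec (CommRingCat.of A))] {M N : Y.Modules} (g : M ⟶ N) [Mono g]
    (h : properP A N) : properP A M :=
  ⟨h.choose, h.choose_spec.1, (support_subset_of_mono g).trans h.choose_spec.2⟩

theorem properP_biprod (A : Type u) [CommRing A] {Y : Scheme.{u}} [Y.Over (Spec (CommRingCat.of A))]
    [LocallyOfFiniteType (Y ↘ Spec (CommRingCat.of A))] {M N : Y.Modules}
    (hM : properP A M) (hN : properP A N) : properP A (M ⊞ N) := by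
  obtain ⟨Z, hZ, hMZ⟩ := hM
  obtain ⟨Z', hZ', hNZ⟩ := hN
  refine ⟨⋃ b : Bool, cond b Z Z', ProperOver.isProperOver_iUnion _ _ (fun b => ?_),
    (support_biprod_subset M N).trans (Set.union_subset (hMZ.trans (Set.subset_iUnion (fun b : Bool => cond b Z Z') true))
      (hNZ.trans (Set.subset_iUnion (fun b : Bool => cond b Z Z') false)))⟩
  cases b <;> assumption

variable [IsSeparated (Y ↘ Spec (CommRingCat.of A))] [LocallyOfFiniteType (Y ↘ Spec (CommRingCat.of A))]
  [QuasiCompact (Y ↘ Spec (CommRingCat.of A))]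

theorem existsUnique_hom_of_properSupp (I : Ideal A) [IsAdicComplete I A] {M N : Y.Modules} (hM : Coh.IsCoh M)
    (hN : Coh.IsCoh N) (hMs : ProperSupp A M) (ψ : Formal.completion I M ⟶ Formal.completion I N) :
    ∃! φ : M ⟶ N, ∀ n : ℕ, Formal.modPowπ I (n + 1) M ≫ ψ.app (op n) = φ ≫ Formal.modPowπ I (n + 1) N := by
  haveI := LocallyOfFiniteType.isLocallyNoetherian (Y ↘ Spec (CommRingCat.of A))
  exact FormalFun.existsUnique_hom_of_isProperOver I M N hM hN (ProperOver.IsProperOver.subset _ hMs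
    ((isClosed_support_of_isCoh hM).inter (isClosed_support_of_isCoh hN)) Set.inter_subset_left) ψ

/-- Systems killed by an ideal sheaf algebraise if systems on its subscheme do. -/
theorem exists_of_killed_support [AlgebraicGeometry.IsNoetherian Y] (L : Y.IdealSheafData)
    (hL : PrincipalExistsSupport f (L.subschemeι ≫ (Y ↘ Spec (CommRingCat.of A)))) {G : ℕᵒᵖ ⥤ Y.Modules}
    (hG : Formal.IsCohFormal (Ideal.span {f}) G) (hk : ∀ n : ℕ, ClSub.KilledByIdeal L (G.obj (op n)))
    (hGs : ProperSupp A (G.obj (op 0))) :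
    ∃ M : Y.Modules, Coh.IsCoh M ∧ ClSub.KilledByIdeal L M ∧ properP A M ∧
      Nonempty (Formal.completion (Ideal.span {f}) M ≅ G) := by
  let i := L.subschemeι
  letI : L.subscheme.Over (Spec (CommRingCat.of A)) := ⟨i ≫ (Y ↘ Spec (CommRingCat.of A))⟩
  have hi : (L.subscheme ↘ Spec (CommRingCat.of A)) = i ≫ (Y ↘ Spec (CommRingCat.of A)) := rfl
  haveI : IsLocallyNoetherian L.subscheme := LocallyOfFiniteType.isLocallyNoetherian i
  have hsupp : ProperSupp A ((Scheme.Modules.pullback i).obj (G.obj (op 0))) := by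
    show ClSub.IsProperOver _ (CohB1.support _)
    rw [support_pullback i _ (hG.1 0)]
    exact ProperOver.isProperOver_preimage _ _ i hi.symm hGs
  obtain ⟨MZ, hMZ, hMZs, ⟨ζ⟩⟩ := hL _ (isCohFormal_pullback i hi.symm hG) hsupp
  have hP : Coh.IsCoh ((Scheme.Modules.pushforward i).obj MZ) := _root_.GrothLib.K0Sub.isCoh_push i hMZ
  haveI := fun n => isIso_toModIdeal L (hG.1 n) (hk n)
  let q : ∀ n, MZ ⟶ (Scheme.Modules.pullback i).obj (G.obj (op n)) := fun n =>
    qπ (Ideal.span {f}) MZ n ≫ ζ.hom.app (op n)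
  have hPs : properP A ((Scheme.Modules.pushforward i).obj MZ) :=
    ⟨_, ProperOver.isProperOver_image _ (Y ↘ Spec (CommRingCat.of A)) i hi.symm hMZs fun _ => inferInstance,
      support_push_subset_image i (i.isClosedMap _ (isClosed_support_of_isCoh hMZ))⟩
  refine ⟨_, hP, ?_, hPs, exists_completion_iso
    (fun n => (Scheme.Modules.pushforward i).map (q n) ≫ inv ((toModIdeal L).app (G.obj (op n)))) (fun n => ?_) fun n => ?_⟩
  · have h := K0Sub.killedByIdeal_push i MZ
    rw [Scheme.IdealSheafData.ker_subschemeι] at h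
    exact h
  · exact (FormalFn.isQuot_push i hi hMZ ((isCohFormal_pullback i hi.symm hG).1 n)
      ((isQuot_qπ _ MZ n).comp_isIso _) hP).comp_isIso _
  · have h1 : q (n + 1) ≫ (Scheme.Modules.pullback i).map (G.map (homOfLE (Nat.le_succ n)).op) = q n := by
      show (qπ (Ideal.span {f}) MZ (n + 1) ≫ ζ.hom.app (op (n + 1))) ≫
        (G ⋙ Scheme.Modules.pullback i).map (homOfLE (Nat.le_succ n)).op = _
      rw [Category.assoc, ← ζ.hom.naturality, ← Category.assoc, qπ_trans]
    have h2 := (toModIdeal L).naturality (G.map (homOfLE (Nat.le_succ n)).op)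
    rw [Category.assoc, ← cancel_mono ((toModIdeal L).app (G.obj (op n)))]
    simp only [Category.assoc, IsIso.inv_hom_id, Category.comp_id]
    rw [show G.map (homOfLE (Nat.le_succ n)).op ≫ (toModIdeal L).app (G.obj (op n)) =
      (toModIdeal L).app (G.obj (op (n + 1))) ≫ (modIdeal L).map (G.map (homOfLE (Nat.le_succ n)).op) from h2,
      IsIso.inv_hom_id_assoc]
    show (Scheme.Modules.pushforward i).map _ ≫ (Scheme.Modules.pushforward i).map _ = _
    rw [← Functor.map_comp, h1]

end Supp

variable [IsSeparated (Y ↘ Spec (CommRingCat.of A))] [LocallyOfFiniteType (Y ↘ Spec (CommRingCat.of A))]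
  [QuasiCompact (Y ↘ Spec (CommRingCat.of A))]

/-- A coherent formal module on a proper scheme maps to a completion, with formal submodules of the kernel killed
by powers of an ideal sheaf defining the complement of an open over which a projective modification is an
isomorphism. -/
theorem exists_injection_support [IsAdicComplete (Ideal.span {f}) A] [IsNoetherian Y] {X : Scheme.{u}}
    [X.Over (Spec (CommRingCat.of A))] [IsNoetherian X] (π : X ⟶ Y)
    (hπ : π ≫ (Y ↘ Spec (CommRingCat.of A)) = X ↘ Spec (CommRingCat.of A)) [IsProper π]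
    {L : X.Modules} (hL : CohB1.IsAmple L) (hX : SupportExists A X) {U : Y.Opens} [IsIso (π ∣_ U)] (K : Y.IdealSheafData)
    (hK : ∀ (W : Y.affineOpens), ∀ g ∈ K.ideal W, Y.basicOpen g ≤ U) {F : ℕᵒᵖ ⥤ Y.Modules}
    (hF : Formal.IsCohFormal (Ideal.span {f}) F) (hFs : ProperSupp A (F.obj (op 0))) :
    ∃ (H : Y.Modules) (_ : Coh.IsCoh H) (_ : ProperSupp A H) (α : F ⟶ Formal.completion (Ideal.span {f}) H),
      ∀ T : ℕᵒᵖ ⥤ Y.Modules, Formal.IsCohFormal (Ideal.span {f}) T → ∀ ψ : T ⟶ F, ψ ≫ α = 0 →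
        ∃ t : ℕ, ∀ (n : ℕ) (W : Y.affineOpens) (a : Γ(Y, W.1)), a ∈ (K ^ t).ideal W →
          ∀ z : Γ(T.obj (op n), W.1), a • (ψ.app (op n)).app W.1 z = 0 := by
  obtain ⟨c, ⟨e⟩⟩ := Ample.exists_cocycle hL.1
  have hc := ((c.isAmple_iff e).1 hL).2
  have hFs' : ProperSupp A ((Scheme.Modules.pullback π).obj (F.obj (op 0))) := by
    show ClSub.IsProperOver _ (CohB1.support _)
    rw [support_pullback π _ (hF.1 0)]
    exact ProperOver.isProperOver_preimage _ _ π hπ hFs
  obtain ⟨M, hM, hMs, ⟨η⟩⟩ := hX (Ideal.span {f}) inferInstance _ (isCohFormal_pullback π hπ hF) hFs'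
  obtain ⟨H, hH, α, hα, hHs⟩ := exists_alpha π hπ hc hF hM η
  have hHs' : ProperSupp A H := ProperOver.IsProperOver.subset _
    (ProperOver.isProperOver_image _ _ π hπ hMs fun _ => inferInstance) (isClosed_support_of_isCoh hH) hHs
  refine ⟨H, hH, hHs', α, fun T hT ψ hψ => exists_uniform_kill π K hK hF hT ψ fun n => ?_⟩
  have h0 : ψ.app (op n) ≫ α.app (op n) = 0 := congrArg (fun z => z.app (op n)) hψ
  rw [← kernel.lift_ι (α.app (op n)) (ψ.app (op n)) h0, Category.assoc, hα n, comp_zero]

/-- The inductive step: existence on a proper scheme follows from existence on the closed subschemes supported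
in the complement of an open over which a projective modification is an isomorphism. -/
theorem existence_step_support [IsAdicComplete (Ideal.span {f}) A] [IsNoetherian Y] {X : Scheme.{u}}
    [X.Over (Spec (CommRingCat.of A))] [IsNoetherian X] (π : X ⟶ Y)
    (hπ : π ≫ (Y ↘ Spec (CommRingCat.of A)) = X ↘ Spec (CommRingCat.of A)) [IsProper π]
    {L : X.Modules} (hL : CohB1.IsAmple L) (hX : SupportExists A X) {U : Y.Opens} [IsIso (π ∣_ U)] (K : Y.IdealSheafData)
    (hK : ∀ (W : Y.affineOpens), ∀ g ∈ K.ideal W, Y.basicOpen g ≤ U)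
    (hsub : ∀ e : ℕ, PrincipalExistsSupport f ((K ^ e).subschemeι ≫ (Y ↘ Spec (CommRingCat.of A))))
    {F : ℕᵒᵖ ⥤ Y.Modules} (hF : Formal.IsCohFormal (Ideal.span {f}) F) (hFs : ProperSupp A (F.obj (op 0))) :
    ∃ M : Y.Modules, Coh.IsCoh M ∧ ProperSupp A M ∧ Nonempty (Formal.completion (Ideal.span {f}) M ≅ F) := by
  classical
  let I : Ideal A := Ideal.span {f}
  obtain ⟨H, hH, hHs, α, hker⟩ := exists_injection_support π hπ hL hX K hK hF hFs
  have hHf := isCohFormal_completion I hH
  have hC := isCohFormal_cokSys hF hHf α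
  have hC0 : ProperSupp A ((cokSys α).obj (op 0)) := properSupp_of_subset (hC.1 0) hHs <| by
    haveI := (isQuot_qπ I H 0).epi
    haveI : Epi ((cokSysπ α).app (op 0)) := coequalizer.π_epi
    exact (support_subset_of_epi ((cokSysπ α).app (op 0))).trans (support_subset_of_epi (qπ I H 0))
  obtain ⟨H₂, hH₂, hH₂s, α₂, hker₂⟩ := exists_injection_support π hπ hL hX K hK hC hC0
  obtain ⟨φ, hφ, -⟩ := existsUnique_hom_of_properSupp I hH hH₂ hHs (cokSysπ α ≫ α₂)
  have hcm : cmap I φ = cokSysπ α ≫ α₂ := by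
    ext k : 2
    obtain ⟨n, rfl⟩ : ∃ n, k = op n := ⟨k.unop, rfl⟩
    haveI := (isQuot_qπ I H n).epi
    rw [← cancel_epi (qπ I H n), qπ_cmap]
    exact (hφ n).symm
  have h0 : α ≫ cmap I φ = 0 := by
    rw [hcm]
    ext k : 2
    show α.app k ≫ cokernel.π (α.app k) ≫ α₂.app k = 0
    rw [cokernel.condition_assoc, zero_comp]
  obtain ⟨γ, e, hγ, hchar⟩ := exists_kernel_factor hF hH hH₂ φ α h0
  have hM : Coh.IsCoh (kernel φ) := isCoh_kernel φ hH hH₂
  obtain ⟨R, hR, ι, hια, -, d, πR, hπR, hπι⟩ := exists_formal_kernel hC (isCohFormal_completion I hH₂) α₂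
  obtain ⟨t, ht⟩ := hker₂ R hR ι hια
  have hcok : ∃ t' : ℕ, ∀ n : ℕ, ClSub.KilledByIdeal (K ^ t') (cokernel (γ.app (op n))) := by
    refine ⟨t, fun n W a ha => ?_⟩
    suffices h : ∀ w : Γ(cokernel (γ.app (op n)), W.1), a • w = 0 from h
    intro w
    -- the cokernel is killed by `K ^ t`
    have hMn := isCoh_modPow I (n + 1) hM
    haveI := (isCoh_cokernel (γ.app (op n)) (hF.1 n) hMn).1
    refine section_eq_zero_of_germ fun y hy => ?_
    rw [WeakAss.germ_smul]
    haveI : Epi (cokernel.π (γ.app (op n))) := coequalizer.π_epi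
    haveI := (isQuot_qπ I (kernel φ) n).epi
    obtain ⟨m, hm⟩ := stalkLin_surjective (qπ I (kernel φ) n ≫ cokernel.π (γ.app (op n))) y
      ((cokernel (γ.app (op n))).presheaf.germ W.1 y hy w)
    rw [← hm]
    let av := Y.presheaf.germ W.1 y hy a
    let N := n + e + d
    let h : H.presheaf.stalk y := stalkLin (kernel.ι φ) y m
    let cN : (cokernel (α.app (op N))).presheaf.stalk y :=
      stalkLin (cokernel.π (α.app (op N))) y (stalkLin (qπ I H N) y h)
    have hc0 : stalkLin (α₂.app (op N)) y cN = 0 := by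
      have h1 : stalkLin (qπ I H N ≫ (cokSysπ α ≫ α₂).app (op N)) y h = 0 := by
        rw [← hcm, qπ_cmap, stalkLin_comp, ← stalkLin_comp (kernel.ι φ), kernel.condition, stalkLin_zero, map_zero]
      rw [stalkLin_comp] at h1
      refine Eq.trans ?_ h1
      show _ = stalkLin (cokernel.π (α.app (op N)) ≫ α₂.app (op N)) y _
      rw [stalkLin_comp]
      rfl
    obtain ⟨κ, hκ⟩ := exists_kernel_preimage (α₂.app (op N)) y hc0
    let r := stalkLin (πR (n + e)) y κ
    have hr : stalkLin (ι.app (op (n + e))) y r =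
        stalkLin (cokernel.π (α.app (op (n + e)))) y (stalkLin (qπ I H (n + e)) y h) := by
      rw [← stalkLin_comp (πR (n + e)), hπι, stalkLin_comp, hκ,
        ← stalkLin_qπ_trans I H (Nat.le_add_right (n + e) d) y h]
      exact (stalkLin_natural (cokSysπ α) (Nat.le_add_right (n + e) d) y _).symm
    have hk : av • stalkLin (ι.app (op (n + e))) y r = 0 := by
      haveI := (hR.1 (n + e)).1
      obtain ⟨c₁, z, hc₁, hz⟩ := WeakAss.exists_smul_eq_germ W.2 hy r
      refine ((FormalCd7.isUnit_germ hc₁).smul_eq_zero).1 ?_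
      rw [smul_comm, ← map_smul, hz, stalkLin_germ (ι.app (op (n + e))) hy z, ← WeakAss.germ_smul]
      exact (congrArg _ (ht (n + e) W a ha z)).trans (map_zero _)
    rw [hr] at hk
    have hk' : stalkLin (cokernel.π (α.app (op (n + e)))) y (av • stalkLin (qπ I H (n + e)) y h) = 0 :=
      (map_smul _ _ _).trans hk
    obtain ⟨x, hx⟩ := exists_cokernel_preimage (α.app (op (n + e))) y hk'
    have hm' := hchar n y x (av • m) (by
      rw [map_smul, map_smul]
      exact hx.symm)
    rw [← map_smul, stalkLin_comp, ← hm', ← stalkLin_comp (γ.app (op n)), cokernel.condition, stalkLin_zero]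
  have hMs : ProperSupp A (kernel φ) := properSupp_of_subset hM hHs (support_subset_of_mono (kernel.ι φ))
  obtain ⟨M, H', j, hj, hH's, -, hM', hiso⟩ := existence_tricky'' I K (properP A) (properP_epi A) (properP_biprod A)
    (fun _ M N hM hN _ _ hM1 _ ψ => existsUnique_hom_of_properSupp I hM hN (properSupp_of_properP hM hM1) ψ)
    (fun e G hG hk hG0 => exists_of_killed_support (K ^ e) (hsub e) hG hk (properSupp_of_properP (hG.1 0) hG0))
    hF (properP_of_properSupp hFs) γ hM (properP_of_properSupp hMs)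
    (fun T hT ψ hψ => hker T hT ψ (by rw [← hγ, ← Category.assoc, hψ, zero_comp]))
    hcok
  exact ⟨M, hM', properSupp_of_properP hM' (properP_mono A j hH's), hiso⟩

/-- Grothendieck existence for a principal ideal on separated schemes of finite type, with proper support. -/
theorem principalExistsSupport_of_separated [IsAdicComplete (Ideal.span {f}) A] (Y : Scheme.{u})
    (g : Y ⟶ Spec (CommRingCat.of A)) [IsSeparated g] [LocallyOfFiniteType g] [QuasiCompact g] :
    PrincipalExistsSupport f g := by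
  classical
  letI : Y.Over (Spec (CommRingCat.of A)) := ⟨g⟩
  haveI : IsLocallyNoetherian Y := LocallyOfFiniteType.isLocallyNoetherian g
  haveI : CompactSpace Y := QuasiCompact.compactSpace_of_compactSpace g
  haveI : AlgebraicGeometry.IsNoetherian Y := {}
  suffices ∀ (T : Closeds Y) (Z : Scheme.{u}) (i : Z ⟶ Y) [IsClosedImmersion i], Set.range i = T →
      PrincipalExistsSupport f (i ≫ g) by
    have h := this ⊤ Y (𝟙 Y) (Set.eq_univ_of_forall fun y => ⟨y, rfl⟩)
    rwa [Category.id_comp] at h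
  intro T
  induction T using WellFounded.induction (r := ((· < ·) : Closeds Y → Closeds Y → Prop)) wellFounded_lt with
  | _ T ih =>
  intro Z i _ hT
  letI : Z.Over (Spec (CommRingCat.of A)) := ⟨i ≫ g⟩
  haveI : IsSeparated (Z ↘ Spec (CommRingCat.of A)) := inferInstanceAs (IsSeparated (i ≫ g))
  haveI : LocallyOfFiniteType (Z ↘ Spec (CommRingCat.of A)) := inferInstanceAs (LocallyOfFiniteType (i ≫ g))
  haveI : QuasiCompact (Z ↘ Spec (CommRingCat.of A)) := inferInstanceAs (QuasiCompact (i ≫ g))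
  haveI : IsLocallyNoetherian Z := LocallyOfFiniteType.isLocallyNoetherian (Z ↘ Spec (CommRingCat.of A))
  haveI : CompactSpace Z := QuasiCompact.compactSpace_of_compactSpace (Z ↘ Spec (CommRingCat.of A))
  haveI : AlgebraicGeometry.IsNoetherian Z := {}
  intro F hF hFs
  by_cases hZ : IsEmpty Z
  · refine ⟨F.obj (op 0), hF.1 0, hFs, exists_completion_iso (fun _ => 0) (fun n => ?_) fun n => ?_⟩
    · haveI : Epi (0 : F.obj (op 0) ⟶ F.obj (op n)) := epi_of_stalk _ fun y => (hZ.false y).elim
      exact isQuot_of_stalk _ (hF.2.1 n) fun y => (hZ.false y).elim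
    · exact hom_ext_stalkLin fun y => (hZ.false y).elim
  rw [not_isEmpty_iff] at hZ
  obtain ⟨N, X, π, j, hj, hjb, hπ, -, -, -, U, hUd, hUiso, -⟩ :=
    Chow.chow_of_finite_components (Z ↘ Spec (CommRingCat.of A))
      NoetherianSpace.finite_irreducibleComponents
  haveI := hπ
  haveI := hj
  haveI := hUiso
  letI : X.Over (Spec (CommRingCat.of A)) := ⟨π ≫ (Z ↘ Spec (CommRingCat.of A))⟩
  haveI : LocallyOfFiniteType (X ↘ Spec (CommRingCat.of A)) :=
    inferInstanceAs (LocallyOfFiniteType (π ≫ (Z ↘ Spec (CommRingCat.of A))))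
  haveI : QuasiCompact (X ↘ Spec (CommRingCat.of A)) :=
    inferInstanceAs (QuasiCompact (π ≫ (Z ↘ Spec (CommRingCat.of A))))
  haveI : IsLocallyNoetherian X := LocallyOfFiniteType.isLocallyNoetherian (X ↘ Spec (CommRingCat.of A))
  haveI : CompactSpace X := QuasiCompact.compactSpace_of_compactSpace (X ↘ Spec (CommRingCat.of A))
  haveI : AlgebraicGeometry.IsNoetherian X := {}
  haveI := Chow.isProper_toBase N (Spec (CommRingCat.of A))
  haveI : QuasiCompact (j ≫ CohB1.ProjSpaceOver.toBase N (Spec (CommRingCat.of A))) := hjb ▸ inferInstance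
  haveI : QuasiCompact j := QuasiCompact.of_comp j (CohB1.ProjSpaceOver.toBase N (Spec (CommRingCat.of A)))
  haveI := Ample.ProjMap.isClosedImmersion_toProjSpace N A
  letI : j.image.Over (Spec (CommRingCat.of A)) :=
    ⟨j.imageι ≫ CohB1.ProjSpaceOver.toBase N (Spec (CommRingCat.of A))⟩
  haveI : IsProper (j.image ↘ Spec (CommRingCat.of A)) :=
    inferInstanceAs (IsProper (j.imageι ≫ CohB1.ProjSpaceOver.toBase N (Spec (CommRingCat.of A))))
  have hLP := Ample.isAmple_pullback_of_isAffineHom (j.imageι ≫ Ample.ProjMap.toProjSpace N A)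
    (Ample.isAmple_twistProjSpace_one N A)
  have hL := Ample.isAmple_pullback_of_isEmbedding j.toImage j.toImage.isOpenEmbedding.isEmbedding hLP
  have hX : SupportExists A X := fun I hI G hG hGs => by
    haveI := hI
    exact existence_of_openImmersion j.toImage (by
      show j.toImage ≫ j.imageι ≫ CohB1.ProjSpaceOver.toBase N (Spec (CommRingCat.of A)) = _
      rw [← Category.assoc, Scheme.Hom.toImage_imageι, hjb]; rfl) I
      (fun G hG => existence_of_isAmple hLP I G hG) hG hGs
  let Cl : Closeds Z := ⟨(U : Set Z)ᶜ, U.isOpen.isClosed_compl⟩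
  let K := Scheme.IdealSheafData.vanishingIdeal Cl
  have hsupp : (K.support : Set Z) = (U : Set Z)ᶜ := by
    rw [Scheme.IdealSheafData.coe_support_vanishingIdeal]
    rfl
  have hK : ∀ (W : Z.affineOpens), ∀ a ∈ K.ideal W, Z.basicOpen a ≤ U := fun W a ha y hy => by
    by_contra hyU
    have h1 : y ∈ K.support := hsupp.ge hyU
    rw [Scheme.IdealSheafData.mem_support_iff_of_mem (U := W) (Z.basicOpen_le a hy),
      Scheme.mem_zeroLocus_iff] at h1
    exact h1 a ha hy
  refine existence_step_support (Y := Z) π rfl hL hX K hK (fun e => ?_) hF hFs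
  rw [show (K ^ e).subschemeι ≫ (Z ↘ Spec (CommRingCat.of A)) = ((K ^ e).subschemeι ≫ i) ≫ g from
    (Category.assoc _ _ _).symm]
  have hcl : IsClosed (Set.range ((K ^ e).subschemeι ≫ i)) :=
    ((K ^ e).subschemeι ≫ i).isClosedEmbedding.isClosed_range
  refine ih ⟨_, hcl⟩ (lt_of_le_of_ne ?_ fun h => ?_) _ _ rfl
  · intro y hy
    obtain ⟨z, rfl⟩ := hy
    exact hT.le ⟨_, rfl⟩
  · rcases e with _ | e
    · have hne : (T : Set Y).Nonempty := hT ▸ Set.range_nonempty _
      obtain ⟨y, hy⟩ := hne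
      obtain ⟨z, -⟩ := ((SetLike.ext'_iff.1 h).ge hy : y ∈ Set.range ((K ^ 0).subschemeι ≫ i))
      have h1 : (K ^ 0).subschemeι z ∈ ((K ^ 0).support : Set Z) :=
        (Scheme.IdealSheafData.range_subschemeι _).le ⟨z, rfl⟩
      simp [Scheme.IdealSheafData.one_eq_top] at h1
    · obtain ⟨u, hu⟩ := hUd.nonempty
      obtain ⟨z, hz⟩ := ((SetLike.ext'_iff.1 h).ge (hT.le ⟨u, rfl⟩) :
        i u ∈ Set.range ((K ^ (e + 1)).subschemeι ≫ i))
      have h1 : (K ^ (e + 1)).subschemeι z = u := i.isClosedEmbedding.injective hz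
      have h2 : u ∈ ((K ^ (e + 1)).support : Set Z) :=
        (Scheme.IdealSheafData.range_subschemeι _).le ⟨z, h1⟩
      rw [Scheme.IdealSheafData.support_pow _ _ e.succ_ne_zero, hsupp] at h2
      exact h2 hu

/-- Grothendieck existence with proper support. -/
theorem existence_properSupport {X : Scheme.{u}} [X.Over (Spec (CommRingCat.of A))]
    [IsSeparated (X ↘ Spec (CommRingCat.of A))] [LocallyOfFiniteType (X ↘ Spec (CommRingCat.of A))]
    [QuasiCompact (X ↘ Spec (CommRingCat.of A))] : SupportExists A X := by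
  intro I hI G hG hGs
  haveI : IsLocallyNoetherian X := LocallyOfFiniteType.isLocallyNoetherian (X ↘ Spec (CommRingCat.of A))
  haveI : CompactSpace X := QuasiCompact.compactSpace_of_compactSpace (X ↘ Spec (CommRingCat.of A))
  haveI : AlgebraicGeometry.IsNoetherian X := {}
  obtain ⟨s, hs⟩ := IsNoetherian.noetherian I
  obtain ⟨M, hM, hMs, e⟩ := exists_of_principal (properP A) (fun M N h hN => ⟨_, hN.choose_spec.1, h.trans hN.choose_spec.2⟩)
    (fun J hJ M N hM hN hM1 _ ψ => by
      haveI := hJ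
      exact existsUnique_hom_of_properSupp J hM hN (properSupp_of_properP hM hM1) ψ)
    (fun f hf G hG hG0 => by
      haveI := hf
      obtain ⟨M, h1, h2, h3⟩ := principalExistsSupport_of_separated X (X ↘ Spec (CommRingCat.of A)) G hG
        (properSupp_of_properP (hG.1 0) hG0)
      exact ⟨M, h1, properP_of_properSupp h2, h3⟩)
    s I hs.symm hI G hG (properP_of_properSupp hGs)
  exact ⟨M, hM, properSupp_of_properP hM hMs, e⟩

end GrothLib.FormalExist7
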