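import Groth.Agent.Lib.FormalExist7.Proper
import Groth.Agent.Lib.ProperOver.Basic

/-!
# Extension by zero along open immersions of systems with closed support
-/

set_option autoImplicit false
set_option linter.style.haveILetI false
universe u

open CategoryTheory CategoryTheory.Limits AlgebraicGeometry Opposite TopologicalSpace

namespace GrothLib.FormalExist7

open GrothLib.FormalSys GrothLib.FormalFun GrothLib.QCoh GrothLib.FormalCd7

theorem isCoh_pullbackMod {X Y : Scheme.{u}} (f : X ⟶ Y) {M : Y.Modules} (hM : Coh.IsCoh M) :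
    Coh.IsCoh ((Scheme.Modules.pullback f).obj M) := by
  haveI := hM.1
  haveI := GrothLib.FittSheaf.isQuasicoherent_pullback f M
  exact ⟨this, (GrothLib.QCoh.isFiniteType_iff_moduleFinite _).2 fun V hV =>
    GrothLib.FittSheaf.moduleFinite_pullback f M hM.2 hV⟩

variable {A : Type u} [CommRing A] [IsNoetherianRing A] {X P : Scheme.{u}} [X.Over (Spec (CommRingCat.of A))]
  [P.Over (Spec (CommRingCat.of A))] [IsLocallyNoetherian X] [IsLocallyNoetherian P] (j : X ⟶ P)
  [IsOpenImmersion j] (hj : j ≫ (P ↘ Spec (CommRingCat.of A)) = X ↘ Spec (CommRingCat.of A))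

omit [IsNoetherianRing A] [X.Over (Spec (CommRingCat.of A))] [P.Over (Spec (CommRingCat.of A))]
  [IsLocallyNoetherian X] [IsLocallyNoetherian P] in
theorem exists_closed_support {M : X.Modules} (hM : Coh.IsCoh M) (hc : IsClosed (j '' CohB1.support M)) :
    ∃ (L : X.IdealSheafData), ClSub.KilledByIdeal L M ∧ IsClosedImmersion (L.subschemeι ≫ j) := by
  haveI := hM.1
  refine ⟨QCoh.annIdeal M hM.2, QCoh.killedByIdeal_annIdeal M hM.2, ?_⟩
  refine IsClosedImmersion.of_isPreimmersion _ ?_
  rw [Scheme.Hom.comp_base, TopCat.coe_comp, Set.range_comp, Scheme.IdealSheafData.range_subschemeι,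
    QCoh.coe_support_annIdeal]
  exact hc

omit [IsNoetherianRing A] [X.Over (Spec (CommRingCat.of A))] [P.Over (Spec (CommRingCat.of A))] in
theorem isCoh_push_open {M : X.Modules} (hM : Coh.IsCoh M) (hc : IsClosed (j '' CohB1.support M)) :
    Coh.IsCoh ((Scheme.Modules.pushforward j).obj M) := by
  obtain ⟨L, hk, _⟩ := exists_closed_support j hM hc
  haveI := isIso_toModIdeal L hM hk
  haveI : IsLocallyNoetherian L.subscheme := LocallyOfFiniteType.isLocallyNoetherian L.subschemeι
  have h : Coh.IsCoh ((Scheme.Modules.pullback L.subschemeι).obj M) := isCoh_pullbackMod L.subschemeι hM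
  exact QCoh.isCoh_of_iso ((Scheme.Modules.pushforwardComp L.subschemeι j).symm.app _ ≪≫
    (Scheme.Modules.pushforward j).mapIso (asIso ((toModIdeal L).app M)).symm)
    (_root_.GrothLib.K0Sub.isCoh_push (L.subschemeι ≫ j) h)

include hj in
theorem isQuot_push_open {J : Ideal A} {M N : X.Modules} {π : M ⟶ N} (hM : Coh.IsCoh M) (hN : Coh.IsCoh N)
    (hπ : IsQuot J π) (hc : IsClosed (j '' CohB1.support M)) :
    IsQuot J ((Scheme.Modules.pushforward j).map π) := by
  obtain ⟨L, hk, _⟩ := exists_closed_support j hM hc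
  haveI := hπ.epi
  have hk' := killedByIdeal_of_epi π hM hN hk
  haveI := isIso_toModIdeal L hM hk
  haveI := isIso_toModIdeal L hN hk'
  let i := L.subschemeι
  haveI : IsLocallyNoetherian L.subscheme := LocallyOfFiniteType.isLocallyNoetherian i
  letI : L.subscheme.Over (Spec (CommRingCat.of A)) := ⟨i ≫ (X ↘ Spec (CommRingCat.of A))⟩
  have h := isCoh_pullbackMod i hM
  have hq := FormalFn.isQuot_push (i ≫ j) (show (L.subscheme ↘ Spec (CommRingCat.of A)) = _ by
    rw [Category.assoc, hj]; rfl) h (isCoh_pullbackMod i hN) (isQuot_pullback i rfl hπ)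
    (_root_.GrothLib.K0Sub.isCoh_push (i ≫ j) h)
  let e : ∀ T : X.Modules, [IsIso ((toModIdeal L).app T)] → ((Scheme.Modules.pushforward j).obj T ≅
      (Scheme.Modules.pushforward (i ≫ j)).obj ((Scheme.Modules.pullback i).obj T)) := fun T _ =>
    (Scheme.Modules.pushforward j).mapIso (asIso ((toModIdeal L).app T)) ≪≫
      (Scheme.Modules.pushforwardComp i j).app _
  have hsq : (Scheme.Modules.pushforward j).map π =
      (e M).hom ≫ (Scheme.Modules.pushforward (i ≫ j)).map ((Scheme.Modules.pullback i).map π) ≫ (e N).inv := by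
    rw [← Category.assoc, Iso.eq_comp_inv]
    have h1 := (toModIdeal L).naturality π
    have h2 := (Scheme.Modules.pushforwardComp i j).hom.naturality ((Scheme.Modules.pullback i).map π)
    simp only [e, Iso.trans_hom, Functor.mapIso_hom, asIso_hom, Iso.app_hom, Category.assoc]
    have h1' : (Scheme.Modules.pushforward j).map π ≫ (Scheme.Modules.pushforward j).map ((toModIdeal L).app N) =
        (Scheme.Modules.pushforward j).map ((toModIdeal L).app M) ≫
          (Scheme.Modules.pushforward j).map ((modIdeal L).map π) :=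
      (Functor.map_comp _ _ _).symm.trans ((congrArg _ h1).trans (Functor.map_comp _ _ _))
    refine (reassoc_of% h1') _ |>.trans ?_
    exact congrArg (_ ≫ ·) h2
  rw [hsq]
  exact (hq.comp_isIso _).isIso_comp _

include hj in
/-- The levelwise direct image of a coherent formal module with closed support is one. -/
theorem isCohFormal_push_open {I : Ideal A} {G : ℕᵒᵖ ⥤ X.Modules} (hG : Formal.IsCohFormal I G)
    (hc : ∀ n : ℕ, IsClosed (j '' CohB1.support (G.obj (op n)))) :
    Formal.IsCohFormal I (G ⋙ Scheme.Modules.pushforward j) := by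
  refine ⟨fun n => isCoh_push_open j (hG.1 n) (hc n), fun n a ha => ?_, fun n =>
    isQuot_push_open j hj (hG.1 _) (hG.1 _) (hG.2.2 n) (hc _)⟩
  show Formal.smulMod A ((Scheme.Modules.pushforward j).obj (G.obj (op n))) a = 0
  rw [← FormalFn.push_map_smulMod j hj.symm, hG.2.1 n a ha]
  haveI := (Scheme.Modules.pullbackPushforwardAdjunction j).right_adjoint_additive
  exact Functor.map_zero _ _ _

omit [IsNoetherianRing A] [X.Over (Spec (CommRingCat.of A))] [P.Over (Spec (CommRingCat.of A))] in
theorem support_push_open_subset {M : X.Modules} (hM : Coh.IsCoh M) (hc : IsClosed (j '' CohB1.support M)) :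
    CohB1.support ((Scheme.Modules.pushforward j).obj M) ⊆ Set.range j := by
  obtain ⟨L, hk, _⟩ := exists_closed_support j hM hc
  haveI := isIso_toModIdeal L hM hk
  have e : (Scheme.Modules.pushforward j).obj M ≅ (Scheme.Modules.pushforward (L.subschemeι ≫ j)).obj
      ((Scheme.Modules.pullback L.subschemeι).obj M) :=
    (Scheme.Modules.pushforward j).mapIso (asIso ((toModIdeal L).app M)) ≪≫
      (Scheme.Modules.pushforwardComp L.subschemeι j).app _
  rw [support_eq_of_iso e]
  refine (support_pushforward_subset_range (L.subschemeι ≫ j) _).trans ?_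
  rintro _ ⟨z, rfl⟩
  exact ⟨_, rfl⟩

omit [IsNoetherianRing A] [X.Over (Spec (CommRingCat.of A))] [P.Over (Spec (CommRingCat.of A))]
  [IsLocallyNoetherian X] [IsLocallyNoetherian P] in
theorem isIso_counit_open (M : X.Modules) :
    IsIso ((Scheme.Modules.pullbackPushforwardAdjunction j).counit.app M) := by
  haveI : (Scheme.Modules.pushforward j).Full := inferInstance
  haveI : (Scheme.Modules.pushforward j).Faithful := inferInstance
  infer_instance

end GrothLib.FormalExist7
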