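import Groth.Agent.Lib.FormalExist7.IdealSys

/-!
# Algebraization of compatible systems of ideal sheaves with proper first term
-/

set_option autoImplicit false
set_option linter.style.haveILetI false
set_option linter.unusedSectionVars false
universe u

open CategoryTheory CategoryTheory.Limits AlgebraicGeometry Opposite TopologicalSpace

namespace GrothLib.FormalExist7

open GrothLib.FormalSys GrothLib.FormalFun GrothLib.QCoh GrothLib.FormalCd7

variable {A : Type u} [CommRing A] [IsNoetherianRing A] {X : Scheme.{u}} [X.Over (Spec (CommRingCat.of A))]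

/-- A coherent module with proper support vanishing modulo `I` vanishes. -/
theorem support_eq_empty_of_properSupp [IsNoetherian X] (I : Ideal A) [IsAdicComplete I A] {M : X.Modules}
    (hM : Coh.IsCoh M) (hs : ProperSupp A M) (h0 : CohB1.support (Formal.modPow I 1 M) = ∅) :
    CohB1.support M = ∅ := by
  by_contra hne
  obtain ⟨hZ, hp⟩ := hs
  obtain ⟨y, hyM, hy⟩ := hZ.exists_closed_singleton (Set.nonempty_iff_ne_empty.2 hne)
  let f := X ↘ Spec (CommRingCat.of A)
  let r := ProperOver.redι _ hZ
  haveI : IsProper (r ≫ f) := hp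
  obtain ⟨z, hz⟩ := (ProperOver.range_redι _ hZ).ge hyM
  have hzc : IsClosed ({z} : Set _) := by
    have : ({z} : Set _) = r ⁻¹' {y} := Set.ext fun w =>
      ⟨fun h => by rw [Set.mem_singleton_iff.1 h]; exact hz,
        fun h => r.isClosedEmbedding.injective ((Set.mem_singleton_iff.1 h).trans hz.symm)⟩
    rw [this]
    exact hy.preimage r.continuous
  have hc : IsClosed ({f y} : Set (Spec (CommRingCat.of A))) := by
    have := (r ≫ f).isClosedMap _ hzc
    rwa [Set.image_singleton, Scheme.Hom.comp_apply, hz] at this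
  have hmax : (f y).asIdeal.IsMaximal := (PrimeSpectrum.isClosed_singleton_iff_isMaximal _).1 hc
  have hI : I ≤ (f y).asIdeal := (IsAdicComplete.le_jacobson_bot I).trans (sInf_le ⟨bot_le, hmax⟩)
  haveI := stalk_subsingleton_of_notMem (M := Formal.modPow I 1 M) (x := y) (by rw [h0]; exact id)
  have hker : LinearMap.ker (stalkLin (Formal.modPowπ I 1 M) y) = ⊤ :=
    eq_top_iff.2 fun v _ => LinearMap.mem_ker.2 (Subsingleton.elim _ _)
  rw [ker_stalkLin_of_isQuot (IsQuot.modPowπ I 1 M), pow_one] at hker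
  haveI := QCoh.stalk_finite M hM y
  have hbot := Submodule.eq_bot_of_le_smul_of_le_jacobson_bot (I.map (toStalk A y)) ⊤ Module.Finite.fg_top
    hker.ge ((Ideal.map_le_iff_le_comap.2 fun a ha => Ideal.mem_comap.2 (toStalk_mem_maximalIdeal (hI ha))).trans
      (IsLocalRing.maximalIdeal_le_jacobson _))
  exact hyM (subsingleton_of_forall_eq 0 fun v => (Submodule.mem_bot _).1 (hbot ▸ Submodule.mem_top (x := v)))

variable [IsSeparated (X ↘ Spec (CommRingCat.of A))] [LocallyOfFiniteType (X ↘ Spec (CommRingCat.of A))]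
  [QuasiCompact (X ↘ Spec (CommRingCat.of A))]

/-- A compatible system of ideal sheaves whose first term has proper support comes from an ideal sheaf. -/
theorem exists_idealSheaf_of_system (I : Ideal A) [IsAdicComplete I A] (K : ℕ → X.IdealSheafData)
    (hK0 : ∀ n, baseIdeal X (I ^ (n + 1)) ≤ K n)
    (hK : ∀ n, K n = K (n + 1) ⊔ baseIdeal X (I ^ (n + 1)))
    (hp : ClSub.IsProperOver (X ↘ Spec (CommRingCat.of A)) ((K 0).support : Set X)) :
    ∃ W : X.IdealSheafData, IsProper (W.subschemeι ≫ (X ↘ Spec (CommRingCat.of A))) ∧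
      ∀ n, K n = W ⊔ baseIdeal X (I ^ (n + 1)) := by
  haveI : IsLocallyNoetherian X := LocallyOfFiniteType.isLocallyNoetherian (X ↘ Spec (CommRingCat.of A))
  haveI : CompactSpace X := QuasiCompact.compactSpace_of_compactSpace (X ↘ Spec (CommRingCat.of A))
  haveI : AlgebraicGeometry.IsNoetherian X := {}
  let O : X.Modules := Coh.structureModule X
  have hO : Coh.IsCoh O := HomSh.isCoh_structureModule X
  haveI := hO.1
  obtain ⟨G, hG, e, he⟩ := exists_formal_of_idealSystem I K hK0 hK hO
  have hGs : ProperSupp A (G.obj (op 0)) := by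
    refine ProperOver.IsProperOver.subset _ hp (isClosed_support_of_isCoh (hG.1 0)) ?_
    rw [support_eq_of_iso (e 0), ← Scheme.IdealSheafData.range_subschemeι]
    exact support_pushforward_subset_range (K 0).subschemeι _
  obtain ⟨M, hM, hMs, ⟨ζ⟩⟩ := existence_properSupport I inferInstance G hG hGs
  haveI := hM.1
  let t : ∀ n, O ⟶ G.obj (op n) := fun n => (toModIdeal (K n)).app O ≫ (e n).inv
  have ht : ∀ n, Epi (t n) := fun n => by
    haveI := epi_toModIdeal (K n) hO
    exact epi_comp _ _
  have htc : ∀ n, t (n + 1) ≫ G.map (homOfLE (Nat.le_succ n)).op = t n := fun n =>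
    (Category.assoc _ _ _).trans (he n)
  choose τ hτ using fun n => (isQuot_qπ I O n).exists_desc' (t n ≫ ζ.inv.app (op n))
    (IsQuot.modPowπ I (n + 1) M).killedBy
  have hτn : ∀ n, (Formal.completion I O).map (homOfLE (Nat.le_succ n)).op ≫ τ n =
      τ (n + 1) ≫ (Formal.completion I M).map (homOfLE (Nat.le_succ n)).op := fun n => by
    haveI := (isQuot_qπ I O (n + 1)).epi
    have h := qπ_trans I O (Nat.le_succ n)
    rw [← cancel_epi (qπ I O (n + 1)), ← Category.assoc, show qπ I O (n + 1) ≫
      (Formal.completion I O).map (homOfLE (Nat.le_succ n)).op = qπ I O n from h, hτ, reassoc_of% (hτ (n + 1)),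
      ← ζ.inv.naturality, ← Category.assoc, htc]
  obtain ⟨φ, hφ, -⟩ := existsUnique_hom_of_isProperOver I O M hO hM
    (ProperOver.IsProperOver.subset _ hMs ((isClosed_support_of_isCoh hO).inter (isClosed_support_of_isCoh hM))
      Set.inter_subset_right) (natTrans τ hτn)
  have hφ' : ∀ n, φ ≫ qπ I M n = t n ≫ ζ.inv.app (op n) := fun n => (hφ n).symm.trans (hτ n)
  -- `φ` is an epimorphism
  have hC : Coh.IsCoh (cokernel φ) := isCoh_cokernel φ hO hM
  haveI : Epi φ := by
    have h0 : CohB1.support (Formal.modPow I 1 (cokernel φ)) = ∅ := by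
      haveI := (isQuot_qπ I (cokernel φ) 0).epi
      haveI : Epi (φ ≫ qπ I M 0) := by
        rw [hφ']
        haveI := ht 0
        exact epi_comp _ _
      haveI : Epi (cokernel.π φ) := coequalizer.π_epi
      have h1 : (φ ≫ qπ I M 0) ≫ (cmap I (cokernel.π φ)).app (op 0) = 0 := by
        rw [Category.assoc, qπ_cmap, cokernel.condition_assoc, zero_comp]
      have h2 : cokernel.π φ ≫ qπ I (cokernel φ) 0 = 0 := by
        rw [← qπ_cmap, zero_of_epi_comp _ h1, comp_zero]
      have h3 : qπ I (cokernel φ) 0 = 0 := zero_of_epi_comp _ h2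
      refine Set.eq_empty_of_forall_notMem fun y hy => hy (subsingleton_of_forall_eq 0 fun v => ?_)
      obtain ⟨w, rfl⟩ := stalkLin_surjective (qπ I (cokernel φ) 0) y v
      exact (congrArg (fun g => stalkLin g y w) h3).trans (stalkLin_zero y w)
    haveI : Epi (cokernel.π φ) := coequalizer.π_epi
    have h := support_eq_empty_of_properSupp I hC (properSupp_of_subset hC hMs
      (support_subset_of_epi (cokernel.π φ))) h0
    refine Preadditive.epi_of_cokernel_zero (hom_ext_stalkLin fun y v => ?_)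
    haveI := stalk_subsingleton_of_notMem (M := cokernel φ) (x := y) (by rw [h]; exact id)
    exact Subsingleton.elim _ _
  let W := QCoh.annIdeal M hM.2
  refine ⟨W, ?_, fun n => Scheme.IdealSheafData.ext (funext fun U => ?_)⟩
  · refine ProperOver.isProper_of_isProperOver _ W.subschemeι ?_
    rw [Scheme.IdealSheafData.range_subschemeι, QCoh.coe_support_annIdeal]
    exact hMs
  rw [Scheme.IdealSheafData.ideal_sup, Pi.sup_apply, ideal_baseIdeal]
  have hsurj := app_surjective_of_epi φ hO hM U.2
  let one : Γ(O, U.1) := (1 : Γ(X, U.1))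
  have hone : ∀ r : Γ(X, U.1), r • one = (show Γ(O, U.1) from r) := fun r => mul_one r
  have hgen : ∀ r : Γ(X, U.1), φ.app U.1 r = r • φ.app U.1 one := fun r =>
    (congrArg (φ.app U.1) (hone r).symm).trans ((appLinear φ U.1).map_smul r one)
  have hann : ∀ r : Γ(X, U.1), φ.app U.1 r = 0 → r ∈ W.ideal U := fun r hr => by
    refine Module.mem_annihilator.2 fun m => ?_
    obtain ⟨s, rfl⟩ := hsurj m
    rw [hgen, smul_comm, ← hgen, hr, smul_zero]
  have hfac : (toModIdeal (K n)).app O = φ ≫ qπ I M n ≫ ζ.hom.app (op n) ≫ (e n).hom := by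
    rw [reassoc_of% (hφ' n), Iso.inv_hom_id_app_assoc]
    exact ((Category.assoc _ _ _).trans ((congrArg (_ ≫ ·) (e n).inv_hom_id).trans (Category.comp_id _))).symm
  have hKmem : ∀ r : Γ(X, U.1), r ∈ (K n).ideal U ↔ ((toModIdeal (K n)).app O).app U.1 r = 0 := fun r => by
    refine Iff.trans ?_ (toModIdeal_app_eq_zero_iff (K n) hO U (show Γ(O, U.1) from r)).symm
    refine ⟨fun h => ?_, fun h => ?_⟩
    · rw [← hone r]
      exact Submodule.smul_mem_smul h trivial
    · refine Submodule.smul_induction_on h (fun a ha x _ => ?_) fun a b ha hb => add_mem ha hb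
      exact Ideal.mul_mem_right (show Γ(X, U.1) from x) _ ha
  refine le_antisymm (fun r hr => ?_) (sup_le (fun r hr => (hKmem r).2 ?_) ?_)
  · have h0 := (hKmem r).1 hr
    rw [hfac] at h0
    have h1 : (qπ I M n).app U.1 (φ.app U.1 r) = 0 := by
      let iso := ζ.app (op n) ≪≫ e n
      have h2 : iso.hom.app U.1 ((qπ I M n).app U.1 (φ.app U.1 r)) = 0 := h0
      have h3 := congrArg (iso.inv.app U.1) h2
      rw [map_zero] at h3
      refine Eq.trans ?_ h3
      exact (congrArg (fun g : (Formal.completion I M).obj (op n) ⟶ _ => g.app U.1 ((qπ I M n).app U.1 (φ.app U.1 r)))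
        iso.hom_inv_id).symm
    have h4 : φ.app U.1 r ∈ ((I ^ (n + 1)).map (toSec A U.1)) • (⊤ : Submodule Γ(X, U.1) Γ(M, U.1)) := by
      refine mem_of_forall_germ_mem U.2 _ fun y hy => ?_
      rw [← ker_stalkLin_of_isQuot (isQuot_qπ I M n) y, LinearMap.mem_ker, stalkLin_germ (qπ I M n) hy, h1, map_zero]
    have h5 : ∃ s ∈ (I ^ (n + 1)).map (toSec A U.1), φ.app U.1 s = φ.app U.1 r := by
      refine Submodule.smul_induction_on (p := fun m => ∃ s ∈ (I ^ (n + 1)).map (toSec A U.1), φ.app U.1 s = m) h4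
        (fun a ha m _ => ?_) fun a b ha hb => ?_
      · obtain ⟨s, rfl⟩ := hsurj m
        exact ⟨a * (show Γ(X, U.1) from s), Ideal.mul_mem_right _ _ ha, (appLinear φ U.1).map_smul a s⟩
      · obtain ⟨s, hs, rfl⟩ := ha
        obtain ⟨s', hs', rfl⟩ := hb
        exact ⟨s + s', add_mem hs hs', map_add (φ.app U.1).hom s s'⟩
    obtain ⟨s, hs, hsr⟩ := h5
    rw [← sub_add_cancel r s]
    refine add_mem (Submodule.mem_sup_left (hann _ ?_)) (Submodule.mem_sup_right hs)
    exact (map_sub (φ.app U.1).hom r s).trans (sub_eq_zero.2 hsr.symm)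
  · have hr0 : φ.app U.1 r = 0 := (hgen r).trans (Module.mem_annihilator.1 hr _)
    rw [hfac]
    show (qπ I M n ≫ ζ.hom.app (op n) ≫ (e n).hom).app U.1 (φ.app U.1 r) = 0
    rw [hr0, map_zero]
  · rw [← ideal_baseIdeal]
    exact hK0 n U

end GrothLib.FormalExist7
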