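import Groth.Agent.Lib.FormalExist7.EasyLeft
import Groth.Agent.Lib.FormalExist7.UniformAR
import Groth.Agent.Lib.QCoh.DevissageRoots

/-!
# Systems receiving a completion with torsion kernel and cokernel algebraise
-/

set_option autoImplicit false
set_option linter.style.haveILetI false
set_option linter.unusedSectionVars false
universe u

open CategoryTheory CategoryTheory.Limits AlgebraicGeometry Opposite TopologicalSpace

namespace GrothLib.FormalExist7

open GrothLib.FormalSys GrothLib.FormalFun GrothLib.QCoh GrothLib.FormalCd7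

variable {A : Type u} [CommRing A] {X : Scheme.{u}} [X.Over (Spec (CommRingCat.of A))]

noncomputable local instance instHasFiniteBiproductsModules (Y : Scheme.{u}) : HasFiniteBiproducts Y.Modules :=
  HasFiniteBiproducts.of_hasFiniteProducts

/-- Finitely many elements of an ideal generate it in every stalk of a Noetherian scheme. -/
theorem exists_stalk_generators [IsNoetherian X] (J : Ideal A) :
    ∃ (k : ℕ) (b : Fin k → A), (∀ j, b j ∈ J) ∧
      ∀ (y : X) (a : A), a ∈ J → toStalk A y a ∈ Ideal.span (Set.range fun j => toStalk A y (b j)) := by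
  classical
  obtain ⟨t, ht⟩ := isCompact_univ.elim_finite_subcover (fun W : X.affineOpens => (W.1 : Set X))
    (fun W => W.1.2) fun x _ => by
      obtain ⟨_, ⟨Z, hZ, rfl⟩, hx, -⟩ :=
        X.isBasis_affineOpens.exists_subset_of_mem_open (Set.mem_univ x) isOpen_univ
      exact Set.mem_iUnion.2 ⟨⟨Z, hZ⟩, hx⟩
  have hW : ∀ W : X.affineOpens, ∃ s : Finset A, (s : Set A) ⊆ J ∧
      J.map (toSec A W.1) = Ideal.span (toSec A W.1 '' (s : Set A)) := fun W => by
    haveI : IsNoetherianRing Γ(X, W.1) := IsLocallyNoetherian.component_noetherian W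
    obtain ⟨s', hs', he⟩ := Submodule.fg_span_iff_fg_span_finset_subset (toSec A W.1 '' (J : Set A)) |>.1
      (IsNoetherian.noetherian (Ideal.span (toSec A W.1 '' (J : Set A))))
    obtain ⟨s, hs, rfl⟩ := Finset.subset_set_image_iff.1 hs'
    exact ⟨s, hs, by rw [Finset.coe_image] at he; exact he⟩
  choose s hs hse using hW
  let S := t.biUnion s
  refine ⟨S.card, fun j => (S.equivFin.symm j).1, fun j => ?_, fun y a ha => ?_⟩
  · obtain ⟨W, -, hW⟩ := Finset.mem_biUnion.1 (S.equivFin.symm j).2
    exact hs W hW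
  obtain ⟨W, hWt, hy⟩ := Set.mem_iUnion₂.1 (ht (Set.mem_univ y))
  have hy : y ∈ W.1 := hy
  have h1 : toSec A W.1 a ∈ Ideal.span (toSec A W.1 '' (s W : Set A)) := hse W ▸ Ideal.mem_map_of_mem _ ha
  have h2 := Ideal.mem_map_of_mem (X.presheaf.germ W.1 y hy).hom h1
  rw [Ideal.map_span] at h2
  refine Ideal.span_mono ?_ (germ_toSec hy a ▸ h2)
  rintro _ ⟨_, ⟨x, hx, rfl⟩, rfl⟩
  refine ⟨S.equivFin ⟨x, Finset.mem_biUnion.2 ⟨W, hWt, hx⟩⟩, ?_⟩
  simp only [Equiv.symm_apply_apply]
  exact (germ_toSec hy x).symm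

theorem biproduct_stalk_total {ι : Type} [Fintype ι] [DecidableEq ι] (M : ι → X.Modules) (y : X)
    (v : (⨁ M).presheaf.stalk y) :
    ∑ i, stalkLin (biproduct.ι M i) y (stalkLin (biproduct.π M i) y v) = v := by
  have h := congrArg (fun φ : (⨁ M) ⟶ ⨁ M => stalkLin φ y v) (biproduct.total (f := M))
  simp only [stalkLin_sum, stalkLin_id, stalkLin_comp] at h
  exact h

theorem biproduct_stalk_ext {ι : Type} [Fintype ι] [DecidableEq ι] (M : ι → X.Modules) (y : X)
    {v w : (⨁ M).presheaf.stalk y} (h : ∀ i, stalkLin (biproduct.π M i) y v = stalkLin (biproduct.π M i) y w) :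
    v = w := by
  rw [← biproduct_stalk_total M y v, ← biproduct_stalk_total M y w]
  simp only [h]

theorem exists_biproduct_stalk {ι : Type} [Fintype ι] [DecidableEq ι] (M : ι → X.Modules) (y : X)
    (g : ∀ i, (M i).presheaf.stalk y) : ∃ v, ∀ i, stalkLin (biproduct.π M i) y v = g i := by
  refine ⟨∑ i, stalkLin (biproduct.ι M i) y (g i), fun i => ?_⟩
  rw [map_sum, Finset.sum_eq_single i (fun j _ hj => ?_) (by simp)]
  · rw [← stalkLin_comp, biproduct.ι_π_self, stalkLin_id]
  · rw [← stalkLin_comp, biproduct.ι_π_ne _ hj, stalkLin_zero]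

theorem mem_smul_biproduct {ι : Type} [Fintype ι] [DecidableEq ι] (M : ι → X.Modules) (y : X)
    (J : Ideal (X.presheaf.stalk y)) {v : (⨁ M).presheaf.stalk y}
    (h : ∀ i, stalkLin (biproduct.π M i) y v ∈ J • (⊤ : Submodule (X.presheaf.stalk y) ((M i).presheaf.stalk y))) :
    v ∈ J • (⊤ : Submodule (X.presheaf.stalk y) ((⨁ M).presheaf.stalk y)) := by
  rw [← biproduct_stalk_total M y v]
  refine Submodule.sum_mem _ fun i _ => ?_
  have := Submodule.mem_map_of_mem (f := stalkLin (biproduct.ι M i) y) (h i)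
  rw [Submodule.map_smul''] at this
  exact Submodule.smul_mono le_rfl le_top this

theorem map_mem_smul {M N : X.Modules} (φ : M ⟶ N) (y : X) (J : Ideal (X.presheaf.stalk y))
    {v : M.presheaf.stalk y} (h : v ∈ J • (⊤ : Submodule (X.presheaf.stalk y) (M.presheaf.stalk y))) :
    stalkLin φ y v ∈ J • (⊤ : Submodule (X.presheaf.stalk y) (N.presheaf.stalk y)) := by
  have := Submodule.mem_map_of_mem (f := stalkLin φ y) h
  rw [Submodule.map_smul''] at this
  exact Submodule.smul_mono le_rfl le_top this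

section Construction

variable {k : ℕ} (b : Fin k → A) (G : X.Modules)

/-- `g ↦ (b_j g)`. -/
noncomputable def bMap : G ⟶ ⨁ fun _ : Fin k => G := biproduct.lift fun j => Formal.smulMod A G (b j)

/-- The image of `bMap`. -/
noncomputable abbrev bImg : X.Modules := Abelian.image (bMap b G)

/-- The projection onto the image. -/
noncomputable def bProj : G ⟶ bImg b G := Abelian.factorThruImage (bMap b G)

/-- The symmetry condition on tuples. -/
noncomputable def symCond : (⨁ fun _ : Fin k => bImg b G) ⟶ ⨁ fun _ : Fin k × Fin k => bImg b G :=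
  biproduct.lift fun q => biproduct.π (fun _ : Fin k => bImg b G) q.1 ≫ Formal.smulMod A (bImg b G) (b q.2) -
    biproduct.π (fun _ : Fin k => bImg b G) q.2 ≫ Formal.smulMod A (bImg b G) (b q.1)

/-- Symmetric tuples. -/
noncomputable abbrev symTuples : X.Modules := kernel (symCond b G)

/-- `g ↦ (b_j g)` into symmetric tuples. -/
noncomputable def toSym : G ⟶ symTuples b G :=
  kernel.lift _ (biproduct.lift fun j => Formal.smulMod A G (b j) ≫ bProj b G) (biproduct.hom_ext _ _ fun q => by
    rw [symCond, Category.assoc, biproduct.lift_π, Preadditive.comp_sub, biproduct.lift_π_assoc,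
      biproduct.lift_π_assoc, zero_comp, sub_eq_zero, Category.assoc, Category.assoc,
      ← smulMod_naturality (bProj b G), ← smulMod_naturality (bProj b G), ← Category.assoc, ← Category.assoc,
      ← smulMod_mul, ← smulMod_mul, mul_comm])

theorem toSym_ι : toSym b G ≫ kernel.ι _ = biproduct.lift fun j => Formal.smulMod A G (b j) ≫ bProj b G :=
  kernel.lift_ι _ _ _

theorem bMap_eq : bProj b G ≫ Abelian.image.ι (bMap b G) = bMap b G := Abelian.image.fac _

theorem smul_eq_zero_of_bProj_eq_zero (y : X) {g : G.presheaf.stalk y} (hg : stalkLin (bProj b G) y g = 0)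
    {J : Ideal A} (hb : ∀ a ∈ J, toStalk A y a ∈ Ideal.span (Set.range fun j => toStalk A y (b j))) {a : A}
    (ha : a ∈ J) : toStalk A y a • g = 0 := by
  have h : ∀ j, toStalk A y (b j) • g = 0 := fun j => by
    have h1 : stalkLin (bMap b G) y g = 0 := by rw [← bMap_eq, stalkLin_comp, hg, map_zero]
    have h2 := congrArg (stalkLin (biproduct.π (fun _ : Fin k => G) j) y) h1
    rw [← stalkLin_comp, bMap, biproduct.lift_π, stalkLin_smulMod, map_zero] at h2
    exact h2
  have hle : Ideal.span (Set.range fun j => toStalk A y (b j)) ≤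
      LinearMap.ker (LinearMap.toSpanSingleton (X.presheaf.stalk y) _ g) := Ideal.span_le.2 (by
    rintro _ ⟨j, rfl⟩; exact h j)
  exact hle (hb a ha)

theorem sym_comp (y : X) (h : (symTuples b G).presheaf.stalk y) (l j : Fin k) :
    toStalk A y (b l) • stalkLin (biproduct.π (fun _ : Fin k => bImg b G) j) y (stalkLin (kernel.ι _) y h) =
      toStalk A y (b j) • stalkLin (biproduct.π (fun _ : Fin k => bImg b G) l) y (stalkLin (kernel.ι _) y h) := by
  have h1 := congrArg (stalkLin (biproduct.π (fun _ : Fin k × Fin k => bImg b G) (j, l)) y)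
    (show stalkLin (symCond b G) y (stalkLin (kernel.ι _) y h) = 0 by
      rw [← stalkLin_comp, kernel.condition, stalkLin_zero])
  rw [← stalkLin_comp, map_zero] at h1
  simp only [symCond, biproduct.lift_π] at h1
  have h2 : ∀ {M N : X.Modules} (p q : M ⟶ N) v, stalkLin (p - q) y v = stalkLin p y v - stalkLin q y v :=
    fun p q v => by rw [eq_sub_iff_add_eq, ← stalkLin_add, sub_add_cancel]
  rw [h2, sub_eq_zero, stalkLin_comp, stalkLin_comp, stalkLin_smulMod, stalkLin_smulMod] at h1
  exact h1

/-- Multiples of symmetric tuples come from `G`. -/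
theorem exists_toSym_eq (y : X) {J : Ideal A}
    (hb : ∀ a ∈ J, toStalk A y a ∈ Ideal.span (Set.range fun j => toStalk A y (b j))) {a : A} (ha : a ∈ J)
    (h : (symTuples b G).presheaf.stalk y) :
    ∃ g, stalkLin (toSym b G) y g = toStalk A y a • h := by
  have hle : Ideal.span (Set.range fun j => toStalk A y (b j)) ≤
      (LinearMap.range (stalkLin (toSym b G) y)).comap (LinearMap.toSpanSingleton (X.presheaf.stalk y) _ h) :=
    Ideal.span_le.2 (by
      rintro _ ⟨l, rfl⟩
      haveI : Epi (bProj b G) := inferInstanceAs (Epi (Abelian.factorThruImage _))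
      obtain ⟨g, hg⟩ := stalkLin_surjective (bProj b G) y
        (stalkLin (biproduct.π (fun _ : Fin k => bImg b G) l) y (stalkLin (kernel.ι _) y h))
      refine ⟨g, stalkLin_injective (kernel.ι (symCond b G)) y (biproduct_stalk_ext _ y fun j => ?_)⟩
      rw [← stalkLin_comp, ← stalkLin_comp, reassoc_of% (toSym_ι b G), biproduct.lift_π, stalkLin_comp, stalkLin_smulMod, map_smul, hg,
        ← sym_comp b G y h l j, LinearMap.toSpanSingleton_apply, map_smul, map_smul])
  exact hle (hb a ha)

theorem smul_smul_eq_zero_of_toSym (y : X) {g : G.presheaf.stalk y} (hg : stalkLin (toSym b G) y g = 0)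
    {J : Ideal A} (hb : ∀ a ∈ J, toStalk A y a ∈ Ideal.span (Set.range fun j => toStalk A y (b j))) {a a' : A}
    (ha : a ∈ J) (ha' : a' ∈ J) : toStalk A y a' • toStalk A y a • g = 0 := by
  have h : ∀ j, toStalk A y a' • toStalk A y (b j) • g = 0 := fun j => by
    refine smul_eq_zero_of_bProj_eq_zero b G y ?_ hb ha'
    have h2 := congrArg (fun v => stalkLin (biproduct.π (fun _ : Fin k => bImg b G) j) y
      (stalkLin (kernel.ι (symCond b G)) y v)) hg
    simp only [map_zero] at h2
    rw [← stalkLin_comp, ← stalkLin_comp, reassoc_of% (toSym_ι b G), biproduct.lift_π, stalkLin_comp, stalkLin_smulMod] at h2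
    exact h2
  have hle : Ideal.span (Set.range fun j => toStalk A y (b j)) ≤
      LinearMap.ker (LinearMap.toSpanSingleton (X.presheaf.stalk y) _ (toStalk A y a' • g)) := Ideal.span_le.2 (by
    rintro _ ⟨j, rfl⟩
    show toStalk A y (b j) • toStalk A y a' • g = 0
    rw [smul_comm, h j])
  rw [smul_comm]
  exact hle (hb a ha)

end Construction

section Pre

variable (I : Ideal A) {k : ℕ} (b : Fin k → A) (G : X.Modules) (F : ℕᵒᵖ ⥤ X.Modules)
  (α : Formal.completion I G ⟶ F)

/-- The source of the cover of a level. -/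
noncomputable abbrev srcMod (M : ℕ) : X.Modules := (⨁ fun _ : Fin k => G) ⊞ (F.obj (op M) ⊞ symTuples b G)

/-- The conditions on the cover. -/
noncomputable def covCond (M r : ℕ) :
    srcMod b G F M ⟶ (⨁ fun _ : Fin k => F.obj (op M)) ⊞ Formal.modPow I r (⨁ fun _ : Fin k => bImg b G) :=
  biprod.lift
    (biproduct.lift fun j => biprod.fst ≫ biproduct.π (fun _ : Fin k => G) j ≫ qπ I G M ≫ α.app (op M) -
      biprod.snd ≫ biprod.fst ≫ Formal.smulMod A (F.obj (op M)) (b j))
    ((biprod.fst ≫ biproduct.map (fun _ : Fin k => bProj b G) - biprod.snd ≫ biprod.snd ≫ kernel.ι (symCond b G)) ≫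
      Formal.modPowπ I r _)

/-- The cover of a level. -/
noncomputable abbrev cov (M r : ℕ) : X.Modules := kernel (covCond I b G F α M r)

/-- Its map to the level. -/
noncomputable def covF (M r : ℕ) : cov I b G F α M r ⟶ F.obj (op M) := kernel.ι _ ≫ biprod.snd ≫ biprod.fst

/-- Its map to tuples of elements. -/
noncomputable def covG (M r : ℕ) : cov I b G F α M r ⟶ ⨁ fun _ : Fin k => G := kernel.ι _ ≫ biprod.fst

/-- Its map to symmetric tuples. -/
noncomputable def covH (M r : ℕ) : cov I b G F α M r ⟶ symTuples b G := kernel.ι _ ≫ biprod.snd ≫ biprod.snd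

theorem cov_rel₁ (M r : ℕ) (j : Fin k) :
    covG I b G F α M r ≫ biproduct.π (fun _ : Fin k => G) j ≫ qπ I G M ≫ α.app (op M) =
      covF I b G F α M r ≫ Formal.smulMod A (F.obj (op M)) (b j) := by
  have h : kernel.ι (covCond I b G F α M r) ≫ covCond I b G F α M r ≫ biprod.fst ≫
      biproduct.π (fun _ : Fin k => F.obj (op M)) j = 0 := by rw [kernel.condition_assoc, zero_comp]
  rw [covCond, biprod.lift_fst_assoc, biproduct.lift_π, Preadditive.comp_sub, sub_eq_zero] at h
  rw [covG, covF, Category.assoc, Category.assoc, Category.assoc]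
  exact h

theorem cov_rel₂ (M r : ℕ) :
    covG I b G F α M r ≫ biproduct.map (fun _ : Fin k => bProj b G) ≫ Formal.modPowπ I r _ =
      covH I b G F α M r ≫ kernel.ι (symCond b G) ≫ Formal.modPowπ I r _ := by
  have h : kernel.ι (covCond I b G F α M r) ≫ covCond I b G F α M r ≫ biprod.snd = 0 := by
    rw [kernel.condition_assoc, zero_comp]
  have hsnd : covCond I b G F α M r ≫ biprod.snd = (biprod.fst ≫ biproduct.map (fun _ : Fin k => bProj b G) -
      biprod.snd ≫ biprod.snd ≫ kernel.ι (symCond b G)) ≫ Formal.modPowπ I r _ := biprod.lift_snd _ _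
  rw [hsnd, Preadditive.sub_comp, Preadditive.comp_sub, sub_eq_zero] at h
  rw [covG, covH]
  simp only [Category.assoc] at h ⊢
  exact h

theorem exists_cov (M r : ℕ) (y : X) (g : (⨁ fun _ : Fin k => G).presheaf.stalk y)
    (f : (F.obj (op M)).presheaf.stalk y) (h : (symTuples b G).presheaf.stalk y)
    (h1 : ∀ j, stalkLin (α.app (op M)) y (stalkLin (qπ I G M) y (stalkLin (biproduct.π (fun _ : Fin k => G) j) y g)) =
      toStalk A y (b j) • f)
    (h2 : stalkLin (biproduct.map fun _ : Fin k => bProj b G) y g - stalkLin (kernel.ι (symCond b G)) y h ∈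
      (I ^ r).map (toStalk A y) • (⊤ : Submodule (X.presheaf.stalk y) _)) :
    ∃ e, stalkLin (covG I b G F α M r) y e = g ∧ stalkLin (covF I b G F α M r) y e = f ∧
      stalkLin (covH I b G F α M r) y e = h := by
  have hsub : ∀ {P Q : X.Modules} (p q : P ⟶ Q) v, stalkLin (p - q) y v = stalkLin p y v - stalkLin q y v :=
    fun p q v => by rw [eq_sub_iff_add_eq, ← stalkLin_add, sub_add_cancel]
  have hl : ∀ {P Q R : X.Modules} (p : P ⟶ Q) (q : P ⟶ R) v, stalkLin (biprod.lift p q) y v =
      stalkLin (biprod.inl : Q ⟶ Q ⊞ R) y (stalkLin p y v) + stalkLin (biprod.inr : R ⟶ Q ⊞ R) y (stalkLin q y v) :=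
    fun p q v => by rw [← stalkLin_comp, ← stalkLin_comp, ← stalkLin_add, ← biprod.lift_eq]
  let v : (srcMod b G F M).presheaf.stalk y :=
    stalkLin (biprod.inl : _ ⟶ srcMod b G F M) y g + stalkLin (biprod.inr : _ ⟶ srcMod b G F M) y
      (stalkLin (biprod.inl : _ ⟶ F.obj (op M) ⊞ symTuples b G) y f +
        stalkLin (biprod.inr : _ ⟶ F.obj (op M) ⊞ symTuples b G) y h)
  have hv1 : stalkLin (biprod.fst : srcMod b G F M ⟶ _) y v = g := by
    rw [map_add, ← stalkLin_comp, ← stalkLin_comp, biprod.inl_fst, biprod.inr_fst, stalkLin_id, stalkLin_zero, add_zero]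
  have hv0 : stalkLin (biprod.snd : srcMod b G F M ⟶ _) y v =
      stalkLin (biprod.inl : _ ⟶ F.obj (op M) ⊞ symTuples b G) y f +
        stalkLin (biprod.inr : _ ⟶ F.obj (op M) ⊞ symTuples b G) y h := by
    rw [map_add, ← stalkLin_comp, ← stalkLin_comp, biprod.inl_snd, biprod.inr_snd, stalkLin_id, stalkLin_zero, zero_add]
  have hv2 : stalkLin (biprod.snd ≫ biprod.fst : srcMod b G F M ⟶ F.obj (op M)) y v = f := by
    rw [stalkLin_comp, hv0, map_add, ← stalkLin_comp, ← stalkLin_comp, biprod.inl_fst, biprod.inr_fst, stalkLin_id,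
      stalkLin_zero, add_zero]
  have hv3 : stalkLin (biprod.snd ≫ biprod.snd : srcMod b G F M ⟶ symTuples b G) y v = h := by
    rw [stalkLin_comp, hv0, map_add, ← stalkLin_comp, ← stalkLin_comp, biprod.inl_snd, biprod.inr_snd, stalkLin_id,
      stalkLin_zero, zero_add]
  have hc : stalkLin (covCond I b G F α M r) y v = 0 := by
    have e1 : stalkLin (biproduct.lift fun j => (biprod.fst : srcMod b G F M ⟶ _) ≫
        biproduct.π (fun _ : Fin k => G) j ≫ qπ I G M ≫ α.app (op M) -
          biprod.snd ≫ biprod.fst ≫ Formal.smulMod A (F.obj (op M)) (b j)) y v = 0 := by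
      refine biproduct_stalk_ext _ y fun j => ?_
      rw [map_zero, ← stalkLin_comp, biproduct.lift_π, hsub, sub_eq_zero, stalkLin_comp biprod.fst, hv1, stalkLin_comp,
        stalkLin_comp, h1 j, ← Category.assoc, stalkLin_comp (biprod.snd ≫ biprod.fst), hv2, stalkLin_smulMod]
    have e2 : stalkLin (((biprod.fst : srcMod b G F M ⟶ _) ≫ biproduct.map (fun _ : Fin k => bProj b G) -
        biprod.snd ≫ biprod.snd ≫ kernel.ι (symCond b G)) ≫ Formal.modPowπ I r _) y v = 0 := by
      rw [stalkLin_comp, hsub, stalkLin_comp biprod.fst, hv1, ← Category.assoc,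
        stalkLin_comp (biprod.snd ≫ biprod.snd), hv3, ← LinearMap.mem_ker,
        ker_stalkLin_of_isQuot (IsQuot.modPowπ I r _)]
      exact h2
    rw [covCond, hl, e1, e2, map_zero, map_zero, add_zero]
  obtain ⟨e, he⟩ := exists_kernel_preimage _ y hc
  exact ⟨e, by rw [covG, stalkLin_comp, he, hv1], by rw [covF, stalkLin_comp, he, hv2],
    by rw [covH, stalkLin_comp, he, hv3]⟩

end Pre

theorem existence_easy_right [IsNoetherian X] (I : Ideal A) (G : X.Modules) (hG : Coh.IsCoh G)
    (F : ℕᵒᵖ ⥤ X.Modules) (hF : Formal.IsCohFormal I F) (α : Formal.completion I G ⟶ F)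
    (hα : Formal2.KerCokerKilledByIPow I α) :
    ∃ (F' : X.Modules) (a : G ⟶ F') (β : Formal.completion I F' ≅ F), Coh.IsCoh F' ∧
      Formal2.KerCokerKilledByIPowHom I a ∧
      ∀ n : ℕ, Formal.modPowπ I (n + 1) G ≫ α.app (op n) = a ≫ Formal.modPowπ I (n + 1) F' ≫ β.hom.app (op n) := by
  classical
  obtain ⟨t, ht⟩ := hα
  obtain ⟨k, b, hbJ, hb⟩ := exists_stalk_generators (X := X) (I ^ (t + 1))
  have hGk : Coh.IsCoh (⨁ fun _ : Fin k => G) := isCoh_biproduct_fin _ fun _ => hG
  have hW : Coh.IsCoh (bImg b G) := isCoh_kernel _ hGk (isCoh_cokernel _ hG hGk)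
  have hWk : Coh.IsCoh (⨁ fun _ : Fin k => bImg b G) := isCoh_biproduct_fin _ fun _ => hW
  have hWkk : Coh.IsCoh (⨁ fun _ : Fin k × Fin k => bImg b G) := isCoh_biproduct_fin _ fun _ => hW
  have hH : Coh.IsCoh (symTuples b G) := isCoh_kernel _ hWk hWkk
  obtain ⟨s₁, hs₁⟩ := exists_uniform_ar I hG hGk (bMap b G)
  obtain ⟨s₂, hs₂⟩ := exists_uniform_ar I hH hWk (kernel.ι (symCond b G))
  obtain ⟨s₃, hs₃⟩ := exists_uniform_ar I hWk hWkk (symCond b G)
  have hker : ∀ n y (g : G.presheaf.stalk y), stalkLin (α.app (op n)) y (stalkLin (qπ I G n) y g) = 0 →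
      ∀ a ∈ I ^ (t + 1), toStalk A y a • g ∈ (I ^ (n + 1)).map (toStalk A y) • (⊤ : Submodule (X.presheaf.stalk y) _) := by
    intro n y g hg a ha
    rw [← ker_stalkLin_of_isQuot (isQuot_qπ I G n), LinearMap.mem_ker, map_smul]
    obtain ⟨w, hw⟩ := exists_kernel_preimage _ y hg
    rw [← hw, ← map_smul, killedBy_stalk (ht n).1 y ha, map_zero]
  have hsmall : ∀ n y (g : G.presheaf.stalk y), s₁ ≤ n + 1 → stalkLin (α.app (op n)) y (stalkLin (qπ I G n) y g) = 0 →
      stalkLin (bProj b G) y g ∈ (I ^ (n + 1 - s₁)).map (toStalk A y) • (⊤ : Submodule (X.presheaf.stalk y) _) := by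
    intro n y g hn hg
    have h1 : stalkLin (bMap b G) y g ∈ (I ^ (n + 1)).map (toStalk A y) • (⊤ : Submodule (X.presheaf.stalk y) _) := by
      refine mem_smul_biproduct _ y _ fun j => ?_
      rw [← stalkLin_comp, bMap, biproduct.lift_π, stalkLin_smulMod]
      exact hker n y g hg _ (hbJ j)
    obtain ⟨g₀, hg₀, g₁, hg₁, rfl⟩ := Submodule.mem_sup.1 (hs₁ _ hn y g h1)
    rw [map_add, show stalkLin (bProj b G) y g₀ = 0 from stalkLin_injective (Abelian.image.ι (bMap b G)) y (by
      rw [← stalkLin_comp, bMap_eq, map_zero]; exact LinearMap.mem_ker.1 hg₀), zero_add]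
    exact map_mem_smul _ y _ hg₁
  obtain ⟨S, hS⟩ : ∃ S, S = s₁ + s₂ + s₃ := ⟨_, rfl⟩
  let r : ℕ → ℕ := fun n => n + S + 1 - s₁ - s₃
  have hcovsurj : ∀ n y, Function.Surjective (stalkLin (covF I b G F α (n + S) (r n)) y) := by
    intro n y f
    have hsel : ∀ j, ∃ g : G.presheaf.stalk y, stalkLin (α.app (op (n + S))) y (stalkLin (qπ I G (n + S)) y g) =
        toStalk A y (b j) • f := fun j => by
      obtain ⟨v, hv⟩ := exists_cokernel_preimage (α.app (op (n + S))) y (v := toStalk A y (b j) • f)
        (by rw [map_smul]; exact killedBy_stalk (ht _).2 y (hbJ j) _)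
      haveI := (isQuot_qπ I G (n + S)).epi
      obtain ⟨g, hg⟩ := stalkLin_surjective (qπ I G (n + S)) y v
      exact ⟨g, by rw [hg, hv]⟩
    choose g hg using hsel
    obtain ⟨gv, hgv⟩ := exists_biproduct_stalk (fun _ : Fin k => G) y g
    let w := stalkLin (biproduct.map fun _ : Fin k => bProj b G) y gv
    have hw : ∀ j, stalkLin (biproduct.π (fun _ : Fin k => bImg b G) j) y w = stalkLin (bProj b G) y (g j) := fun j => by
      rw [← stalkLin_comp, biproduct.map_π, stalkLin_comp, hgv]
    have hψ : stalkLin (symCond b G) y w ∈ (I ^ (n + S + 1 - s₁)).map (toStalk A y) • (⊤ : Submodule (X.presheaf.stalk y) _) := by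
      refine mem_smul_biproduct _ y _ fun q => ?_
      rw [← stalkLin_comp, symCond, biproduct.lift_π]
      have e : ∀ {P Q : X.Modules} (p p' : P ⟶ Q) v, stalkLin (p - p') y v = stalkLin p y v - stalkLin p' y v :=
        fun p p' v => by rw [eq_sub_iff_add_eq, ← stalkLin_add, sub_add_cancel]
      rw [e, stalkLin_comp, stalkLin_comp, stalkLin_smulMod, stalkLin_smulMod, hw, hw, ← map_smul, ← map_smul,
        ← map_sub]
      refine hsmall _ y _ (by omega) ?_
      rw [map_sub, map_sub, map_smul, map_smul, map_smul, map_smul, hg, hg, smul_comm, sub_self]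
    obtain ⟨w₀, hw₀, w₁, hw₁, hww⟩ := Submodule.mem_sup.1 (hs₃ _ (by omega) y w hψ)
    obtain ⟨h, hh⟩ := exists_kernel_preimage _ y (LinearMap.mem_ker.1 hw₀)
    obtain ⟨e, -, he, -⟩ := exists_cov I b G F α (n + S) (r n) y gv f h (fun j => by rw [hgv, hg]) (by
      show w - _ ∈ _
      rw [hh, ← hww, add_sub_cancel_left]
      exact hw₁)
    exact ⟨e, he⟩
  have hzero : ∀ n y (e : (cov I b G F α (n + S) (r n)).presheaf.stalk y),
      stalkLin (covF I b G F α (n + S) (r n)) y e = 0 →
        stalkLin (covH I b G F α (n + S) (r n) ≫ qπ I (symTuples b G) n) y e = 0 := by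
    intro n y e he
    rw [stalkLin_comp, ← LinearMap.mem_ker, ker_stalkLin_of_isQuot (isQuot_qπ I _ n)]
    have hg : stalkLin (biproduct.map fun _ : Fin k => bProj b G) y (stalkLin (covG I b G F α (n + S) (r n)) y e) ∈
        (I ^ (r n)).map (toStalk A y) • (⊤ : Submodule (X.presheaf.stalk y) _) := by
      refine mem_smul_biproduct _ y _ fun j => ?_
      rw [← stalkLin_comp, biproduct.map_π, stalkLin_comp]
      refine Submodule.smul_mono_left (Ideal.map_mono (Ideal.pow_le_pow_right ?_)) (hsmall (n + S) y _ (by omega) ?_)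
      · show n + S + 1 - s₁ - s₃ ≤ n + S + 1 - s₁
        omega
      · rw [← stalkLin_comp, ← stalkLin_comp, ← stalkLin_comp, cov_rel₁, stalkLin_comp,
          he, map_zero]
    have h2 : stalkLin (kernel.ι (symCond b G)) y (stalkLin (covH I b G F α (n + S) (r n)) y e) ∈
        (I ^ (r n)).map (toStalk A y) • (⊤ : Submodule (X.presheaf.stalk y) _) := by
      rw [← ker_stalkLin_of_isQuot (IsQuot.modPowπ I (r n) _), LinearMap.mem_ker] at hg ⊢
      rw [← stalkLin_comp, ← stalkLin_comp, ← cov_rel₂, stalkLin_comp, stalkLin_comp, hg]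
    obtain ⟨h₀, hh₀, h₁, hh₁, hh⟩ := Submodule.mem_sup.1 (hs₂ _ (show s₂ ≤ n + S + 1 - s₁ - s₃ by omega) y _ h2)
    rw [← hh, show h₀ = 0 from stalkLin_injective (kernel.ι (symCond b G)) y
      ((LinearMap.mem_ker.1 hh₀).trans (map_zero _).symm), zero_add]
    refine Submodule.smul_mono_left (Ideal.map_mono (Ideal.pow_le_pow_right ?_)) hh₁
    show n + 1 ≤ n + S + 1 - s₁ - s₃ - s₂
    omega
  haveI hepi : ∀ n, Epi (covF I b G F α (n + S) (r n)) := fun n => epi_of_stalk _ (hcovsurj n)
  have hγ' : ∀ n, ∃ γ : F.obj (op (n + S)) ⟶ (Formal.completion I (symTuples b G)).obj (op n),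
      covF I b G F α (n + S) (r n) ≫ γ = covH I b G F α (n + S) (r n) ≫ qπ I (symTuples b G) n := fun n => by
    have hz : kernel.ι (covF I b G F α (n + S) (r n)) ≫ covH I b G F α (n + S) (r n) ≫ qπ I (symTuples b G) n = 0 :=
      hom_ext_stalkLin fun y v => by
        rw [stalkLin_comp, stalkLin_zero]
        refine hzero n y _ ?_
        rw [← stalkLin_comp, kernel.condition, stalkLin_zero]
    exact ⟨(Abelian.epiIsCokernelOfKernel _ (kernelIsKernel (covF I b G F α (n + S) (r n)))).desc
        (CokernelCofork.ofπ _ hz),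
      (Abelian.epiIsCokernelOfKernel _ (kernelIsKernel (covF I b G F α (n + S) (r n)))).fac _ WalkingParallelPair.one⟩
  choose γ hγ using hγ'
  have hγs : ∀ n y (g : (⨁ fun _ : Fin k => G).presheaf.stalk y) (f : (F.obj (op (n + S))).presheaf.stalk y) h,
      (∀ j, stalkLin (α.app (op (n + S))) y (stalkLin (qπ I G (n + S)) y (stalkLin (biproduct.π (fun _ : Fin k => G) j) y g)) =
        toStalk A y (b j) • f) →
      (stalkLin (biproduct.map fun _ : Fin k => bProj b G) y g - stalkLin (kernel.ι (symCond b G)) y h ∈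
        (I ^ (r n)).map (toStalk A y) • (⊤ : Submodule (X.presheaf.stalk y) _)) →
      stalkLin (γ n) y f = stalkLin (qπ I (symTuples b G) n) y h := fun n y g f h h1 h2 => by
    obtain ⟨e, -, hef, heh⟩ := exists_cov I b G F α (n + S) (r n) y g f h h1 h2
    rw [← hef, ← stalkLin_comp, hγ, stalkLin_comp, heh]
  have hnat : ∀ n, trans F (show n + S ≤ n + 1 + S by omega) ≫ γ n =
      γ (n + 1) ≫ trans (Formal.completion I (symTuples b G)) (Nat.le_succ n) := fun n => hom_ext_stalkLin fun y f => by
    obtain ⟨e, rfl⟩ := hcovsurj (n + 1) y f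
    rw [stalkLin_comp, hγs n y (stalkLin (covG I b G F α (n + 1 + S) (r (n + 1))) y e) _
      (stalkLin (covH I b G F α (n + 1 + S) (r (n + 1))) y e) (fun j => ?_) ?_,
      ← stalkLin_comp, ← stalkLin_comp, reassoc_of% (hγ (n + 1)), qπ_trans]
    · refine Submodule.smul_mono_left (Ideal.map_mono (Ideal.pow_le_pow_right
        (show r n ≤ r (n + 1) by show n + S + 1 - s₁ - s₃ ≤ n + 1 + S + 1 - s₁ - s₃; omega))) ?_
      rw [← ker_stalkLin_of_isQuot (IsQuot.modPowπ I (r (n + 1)) _), LinearMap.mem_ker, map_sub, ← stalkLin_comp,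
        ← stalkLin_comp, ← stalkLin_comp, ← stalkLin_comp, cov_rel₂, sub_self]
    · rw [← qπ_trans I G (show n + S ≤ n + 1 + S by omega), stalkLin_comp (qπ I G _),
        ← stalkLin_comp _ (α.app (op (n + S))),
        show trans (Formal.completion I G) _ ≫ α.app (op (n + S)) = α.app (op (n + 1 + S)) ≫ trans F _ from α.naturality _,
        stalkLin_comp, ← map_smul]
      congr 1
      rw [← stalkLin_comp, ← stalkLin_comp, ← stalkLin_comp, cov_rel₁, stalkLin_comp,
        stalkLin_smulMod]
  have hm : Monotone fun n : ℕ => n + S := fun a c h => Nat.add_le_add_right h S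
  let π : (Monotone.functor hm).op ⋙ F ⟶ F :=
    { app := fun n => F.map (homOfLE (Nat.le_add_right n.unop S)).op
      naturality := fun n k f => by
        simp only [Functor.comp_map, ← F.map_comp]
        rfl }
  let γ' : (Monotone.functor hm).op ⋙ F ⟶ Formal.completion I (symTuples b G) := natTrans (fun n => γ n) fun n => hnat n
  obtain ⟨β₀, hβ₀, -⟩ := existsUnique_of_reindex hF (fun n => killedBy_modPow (n + 1) (symTuples b G)) hm
    (fun n => Nat.le_add_right n S) π (fun n => rfl) γ'
  have hβ : ∀ n, trans F (Nat.le_add_right n S) ≫ β₀.app (op n) = γ n := fun n =>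
    congrArg (fun z => z.app (op n)) hβ₀
  -- kernel and cokernel
  have hkerβ : ∀ n y (f : (F.obj (op n)).presheaf.stalk y), stalkLin (β₀.app (op n)) y f = 0 →
      ∀ a ∈ I ^ (t + 1), ∀ a' ∈ I ^ (t + 1), toStalk A y a' • toStalk A y a • f = 0 := by
    intro n y f hf a ha a' ha'
    haveI := (isQuot_map hF (Nat.le_add_right n S)).epi
    obtain ⟨f', rfl⟩ := stalkLin_surjective (trans F (Nat.le_add_right n S)) y f
    obtain ⟨e, rfl⟩ := hcovsurj n y f'
    rw [← stalkLin_comp _ (β₀.app (op n)), hβ, ← stalkLin_comp, hγ, stalkLin_comp, ← LinearMap.mem_ker,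
      ker_stalkLin_of_isQuot (isQuot_qπ I _ n)] at hf
    have hj : ∀ j, toStalk A y a' • toStalk A y (b j) •
        stalkLin (trans F (Nat.le_add_right n S)) y (stalkLin (covF I b G F α (n + S) (r n)) y e) = 0 := fun j => by
      set g := stalkLin (biproduct.π (fun _ : Fin k => G) j) y (stalkLin (covG I b G F α (n + S) (r n)) y e) with hgdef
      have h1 : stalkLin (bProj b G) y g ∈ (I ^ (n + 1)).map (toStalk A y) • (⊤ : Submodule (X.presheaf.stalk y) _) := by
        have h2 : stalkLin (covG I b G F α (n + S) (r n) ≫ biproduct.map fun _ : Fin k => bProj b G) y e ∈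
            (I ^ (n + 1)).map (toStalk A y) • (⊤ : Submodule (X.presheaf.stalk y) _) := by
          have h3 : stalkLin (covG I b G F α (n + S) (r n) ≫ biproduct.map fun _ : Fin k => bProj b G) y e -
              stalkLin (kernel.ι (symCond b G)) y (stalkLin (covH I b G F α (n + S) (r n)) y e) ∈
              (I ^ (r n)).map (toStalk A y) • (⊤ : Submodule (X.presheaf.stalk y) _) := by
            rw [← ker_stalkLin_of_isQuot (IsQuot.modPowπ I (r n) _), LinearMap.mem_ker, map_sub, ← stalkLin_comp,
              ← stalkLin_comp, ← stalkLin_comp, Category.assoc, cov_rel₂, sub_self]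
          have h4 := add_mem (Submodule.smul_mono_left (Ideal.map_mono (Ideal.pow_le_pow_right
            (show n + 1 ≤ r n by show n + 1 ≤ n + S + 1 - s₁ - s₃; omega))) h3)
            (map_mem_smul (kernel.ι (symCond b G)) y _ hf)
          rwa [sub_add_cancel] at h4
        have h5 := map_mem_smul (biproduct.π (fun _ : Fin k => bImg b G) j) y _ h2
        rwa [← stalkLin_comp, Category.assoc, biproduct.map_π, stalkLin_comp, stalkLin_comp, ← hgdef] at h5
      haveI : Epi (bProj b G) := inferInstanceAs (Epi (Abelian.factorThruImage _))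
      rw [← Submodule.map_top (stalkLin (bProj b G) y) |>.trans (LinearMap.range_eq_top.2
        (stalkLin_surjective (bProj b G) y)), ← Submodule.map_smul''] at h1
      obtain ⟨g', hg', hgg⟩ := h1
      have h6 : toStalk A y (b j) • stalkLin (trans F (Nat.le_add_right n S)) y (stalkLin (covF I b G F α (n + S) (r n)) y e) =
          stalkLin (α.app (op n)) y (stalkLin (qπ I G n) y g) := by
        rw [← map_smul, ← stalkLin_smulMod, ← stalkLin_comp (covF I b G F α (n + S) (r n)), ← cov_rel₁,
          stalkLin_comp, stalkLin_comp, stalkLin_comp, ← hgdef, ← stalkLin_comp,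
          show α.app (op (n + S)) ≫ trans F _ = trans (Formal.completion I G) _ ≫ α.app (op n) from (α.naturality _).symm,
          stalkLin_comp, ← stalkLin_comp (qπ I G (n + S)), qπ_trans]
      have h7 : toStalk A y a' • g ∈ LinearMap.ker (stalkLin (qπ I G n) y) := by
        rw [ker_stalkLin_of_isQuot (isQuot_qπ I G n), ← sub_add_cancel g g', smul_add,
          smul_eq_zero_of_bProj_eq_zero b G y (by rw [map_sub, hgg, sub_self]) (hb y) ha', zero_add]
        exact Submodule.smul_mem _ _ hg'
      rw [h6, ← map_smul, ← map_smul, LinearMap.mem_ker.1 h7, map_zero]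
    have hle : Ideal.span (Set.range fun j => toStalk A y (b j)) ≤ LinearMap.ker (LinearMap.toSpanSingleton
        (X.presheaf.stalk y) _ (toStalk A y a' • stalkLin (trans F (Nat.le_add_right n S)) y
          (stalkLin (covF I b G F α (n + S) (r n)) y e))) := Ideal.span_le.2 (by
      rintro _ ⟨j, rfl⟩
      simp only [SetLike.mem_coe, LinearMap.mem_ker, LinearMap.toSpanSingleton_apply]
      rw [smul_comm, hj])
    rw [smul_comm]
    exact hle (hb y a ha)
  have hsym : ∀ n y (g : G.presheaf.stalk y), stalkLin (β₀.app (op n)) y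
      (stalkLin (α.app (op n)) y (stalkLin (qπ I G n) y g)) =
        stalkLin (qπ I (symTuples b G) n) y (stalkLin (toSym b G) y g) := by
    intro n y g
    rw [← qπ_trans I G (Nat.le_add_right n S), stalkLin_comp, ← stalkLin_comp _ (α.app (op n)),
      show trans (Formal.completion I G) _ ≫ α.app (op n) = α.app (op (n + S)) ≫ trans F _ from α.naturality _,
      stalkLin_comp, ← stalkLin_comp _ (β₀.app (op n)), hβ]
    refine hγs n y (stalkLin (bMap b G) y g) _ _ (fun j => ?_) ?_
    · rw [← stalkLin_comp (bMap b G), bMap, biproduct.lift_π, stalkLin_smulMod, map_smul, map_smul]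
    · rw [← stalkLin_comp (bMap b G), ← stalkLin_comp (toSym b G), toSym_ι, bMap,
        biproduct.lift_map, sub_self]
      exact zero_mem _
  have hcokβ : ∀ n y (a : A), a ∈ I ^ (t + 1) → ∀ v, ∃ f, stalkLin (β₀.app (op n)) y f = toStalk A y a • v := by
    intro n y a ha v
    haveI := (isQuot_qπ I (symTuples b G) n).epi
    obtain ⟨h, rfl⟩ := stalkLin_surjective (qπ I (symTuples b G) n) y v
    obtain ⟨g, hg⟩ := exists_toSym_eq b G y (hb y) ha h
    exact ⟨_, by rw [hsym n y g, hg, map_smul]⟩
  have hβkc : Formal2.KerCokerKilledByIPow I β₀ := by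
    refine ⟨2 * t + 1, fun n => ⟨fun a ha => ?_, fun a ha => ?_⟩⟩
    · refine hom_ext_stalkLin fun y v => ?_
      rw [stalkLin_smulMod, stalkLin_zero]
      refine stalkLin_injective (kernel.ι (β₀.app (op n))) y ?_
      rw [map_smul, map_zero]
      have hv : stalkLin (β₀.app (op n)) y (stalkLin (kernel.ι (β₀.app (op n))) y v) = 0 := by
        rw [← stalkLin_comp, kernel.condition, stalkLin_zero]
      rw [show 2 * t + 1 + 1 = (t + 1) + (t + 1) by omega, pow_add] at ha
      refine Submodule.mul_induction_on ha (fun x hx z hz => ?_) fun x z hx hz => by rw [map_add, add_smul, hx, hz, add_zero]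
      rw [map_mul, mul_smul]
      exact hkerβ n y _ hv z hz x hx
    · refine hom_ext_stalkLin fun y v => ?_
      rw [stalkLin_smulMod, stalkLin_zero]
      obtain ⟨v, rfl⟩ := stalkLin_surjective (cokernel.π (β₀.app (op n))) y v
      obtain ⟨f, hf⟩ := hcokβ n y a (Ideal.pow_le_pow_right (by omega) ha) v
      rw [← map_smul, ← hf, ← stalkLin_comp, cokernel.condition, stalkLin_zero]
  obtain ⟨F', a', β, hF', ⟨t', hk', hc'⟩, -, hlift⟩ := existence_easy_left' I (symTuples b G) F β₀ hH hF hβkc
  obtain ⟨l, hla, hlπ⟩ := hlift G (toSym b G) (fun n => qπ I G n ≫ α.app (op n))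
    (fun q n h => by
      rw [Category.assoc, show α.app (op n) ≫ trans F h = trans (Formal.completion I G) h ≫ α.app (op q) from
        (α.naturality _).symm, ← Category.assoc, qπ_trans])
    (fun n => hom_ext_stalkLin fun y g => by
      rw [stalkLin_comp, stalkLin_comp, stalkLin_comp]
      exact hsym n y g)
  refine ⟨F', l, β.symm, hF', ⟨(t + 1) + (t + 1) + t', fun a ha => ?_, fun a ha => ?_⟩, fun n => (hlπ n).symm⟩
  · refine hom_ext_stalkLin fun y v => ?_
    rw [stalkLin_smulMod, stalkLin_zero]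
    refine stalkLin_injective (kernel.ι l) y ?_
    rw [map_smul, map_zero]
    have hv : stalkLin (toSym b G) y (stalkLin (kernel.ι l) y v) = 0 := by
      rw [← hla, stalkLin_comp, ← stalkLin_comp _ l, kernel.condition, stalkLin_zero, map_zero]
    have ha' : a ∈ I ^ ((t + 1) + (t + 1)) := Ideal.pow_le_pow_right (by omega) ha
    rw [pow_add] at ha'
    refine Submodule.mul_induction_on ha' (fun x hx z hz => ?_) fun x z hx hz => by rw [map_add, add_smul, hx, hz, add_zero]
    rw [map_mul, mul_smul]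
    exact smul_smul_eq_zero_of_toSym b G y hv (hb y) hz hx
  · refine hom_ext_stalkLin fun y v => ?_
    rw [stalkLin_smulMod, stalkLin_zero]
    obtain ⟨x, rfl⟩ := stalkLin_surjective (cokernel.π l) y v
    have ha' : a ∈ I ^ ((t' + 1) + (t + 1)) := Ideal.pow_le_pow_right (by omega) ha
    rw [pow_add] at ha'
    refine Submodule.mul_induction_on ha' (fun c hc d hd => ?_) fun x z hx hz => by rw [map_add, add_smul, hx, hz, add_zero]
    obtain ⟨g, hg⟩ := exists_toSym_eq b G y (hb y) hd (stalkLin a' y x)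
    rw [← hla, stalkLin_comp, ← map_smul] at hg
    obtain ⟨z, hz⟩ := exists_kernel_preimage a' y (v := toStalk A y d • x - stalkLin l y g)
      (by rw [map_sub, hg, sub_self])
    have h0 : toStalk A y c • (toStalk A y d • x - stalkLin l y g) = 0 := by
      rw [← hz, ← map_smul, killedBy_stalk hk' y hc, map_zero]
    rw [smul_sub, sub_eq_zero] at h0
    rw [map_mul, mul_smul, ← map_smul, ← map_smul, h0, map_smul, ← stalkLin_comp l, cokernel.condition, stalkLin_zero,
      smul_zero]

end GrothLib.FormalExist7
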