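import Groth.Agent.Lib.FormalExist7.Support
import Groth.Agent.Lib.K0Sub.Localization
import Groth.Prelude.Def_Algz
import Groth.Prelude.Def_Wider

/-!
# Restriction of completions to opens
-/

set_option autoImplicit false
set_option linter.style.haveILetI false
set_option linter.unusedSectionVars false
universe u

open CategoryTheory CategoryTheory.Limits AlgebraicGeometry Opposite TopologicalSpace

namespace GrothLib.FormalExist7

open GrothLib.FormalSys GrothLib.FormalFun GrothLib.QCoh GrothLib.FormalCd7

variable {A : Type u} [CommRing A] {X U : Scheme.{u}} [X.Over (Spec (CommRingCat.of A))]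
  [U.Over (Spec (CommRingCat.of A))] [IsLocallyNoetherian U] (j : U ⟶ X) [IsOpenImmersion j]
  (hj : j ≫ (X ↘ Spec (CommRingCat.of A)) = U ↘ Spec (CommRingCat.of A))

include hj in
/-- The completion of a restriction is the restriction of the completion. -/
theorem nonempty_completion_restrict (I : Ideal A) (M : X.Modules) :
    Nonempty (Formal.completion I ((Scheme.Modules.restrictFunctor j).obj M) ≅
      Formal.completion I M ⋙ Scheme.Modules.restrictFunctor j) := by
  let e := Scheme.Modules.restrictFunctorIsoPullback j
  refine exists_completion_iso (fun n => (Scheme.Modules.restrictFunctor j).map (qπ I M n)) (fun n => ?_) fun n => ?_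
  · have h := isQuot_pullback j hj (isQuot_qπ I M n)
    have h2 : (Scheme.Modules.restrictFunctor j).map (qπ I M n) =
        e.hom.app M ≫ (Scheme.Modules.pullback j).map (qπ I M n) ≫ e.inv.app _ := by
      rw [← Category.assoc, ← e.hom.naturality, Category.assoc, Iso.hom_inv_id_app, Category.comp_id]
    rw [h2]
    exact (h.comp_isIso _).isIso_comp _
  · exact (Functor.map_comp _ _ _).symm.trans (congrArg _ (qπ_trans I M (Nat.le_succ n)))

end GrothLib.FormalExist7
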