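import Groth.Agent.Lib.FormalCd7.Graded

/-!
# Artin–Rees for a surjective system of submodules of an adic system of finite modules
-/

set_option autoImplicit false
set_option linter.unusedSimpArgs false
universe u v

namespace GrothLib.FormalExist7

open GrothLib.ProEtDC7
open scoped Classical

/-- If the transition maps of the submodules are surjective, deep multiples in them are deep multiples of them. -/
theorem exists_system_ar {B : Type u} [CommRing B] [IsNoetherianRing B] {r : ℕ} (a : Fin r → B)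
    (M : ℕ → Type v) [∀ n, AddCommGroup (M n)] [∀ n, Module B (M n)]
    (g : ∀ {q n : ℕ}, q ≤ n → M n →ₗ[B] M q)
    (hrefl : ∀ n (x : M n), g le_rfl x = x)
    (hcomp : ∀ {p q n : ℕ} (hpq : p ≤ q) (hqn : q ≤ n) (x : M n), g hpq (g hqn x) = g (hpq.trans hqn) x)
    (hsurj : ∀ {q n : ℕ} (h : q ≤ n), Function.Surjective (g h))
    (hker : ∀ {q n : ℕ} (h : q ≤ n), LinearMap.ker (g h) =
      Ideal.span (Set.range a) ^ (q + 1) • (⊤ : Submodule B (M n)))
    [Module.Finite B (M 0)]
    (S : ∀ n, Submodule B (M n)) (hS : ∀ {q n : ℕ} (h : q ≤ n), (S n).map (g h) = S q) :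
    ∃ c : ℕ, ∀ (m p : ℕ) (v : M m), v ∈ S m → v ∈ Ideal.span (Set.range a) ^ p • (⊤ : Submodule B (M m)) →
      v ∈ Ideal.span (Set.range a) ^ (p - c) • S m := by
  classical
  set J := Ideal.span (Set.range a) with hJ
  have hkill : ∀ n, J ^ (n + 1) • (⊤ : Submodule B (M n)) = ⊥ := fun n => by
    rw [← hker (le_refl n)]
    exact LinearMap.ker_eq_bot.2 fun x y h => by rwa [hrefl, hrefl] at h
  obtain ⟨N, e, he⟩ := Module.Finite.exists_fin (R := B) (M := M 0)
  obtain ⟨E, hE0, hEs⟩ : ∃ E : ∀ n, Fin N → M n, E 0 = e ∧ ∀ n i, g (Nat.le_succ n) (E (n + 1) i) = E n i :=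
    ⟨fun n => Nat.rec (motive := fun n => Fin N → M n) e (fun n x i => (hsurj (Nat.le_succ n) (x i)).choose) n,
      rfl, fun n i => (hsurj (Nat.le_succ n) _).choose_spec⟩
  have hE : ∀ {q n : ℕ} (h : q ≤ n) (i : Fin N), g h (E n i) = E q i := by
    intro q n h i
    induction n, h using Nat.le_induction with
    | base => exact hrefl _ _
    | succ n hn ih => rw [← hcomp hn (Nat.le_succ n), hEs, ih]
  have hgen : ∀ q, Submodule.span B (Set.range (E q)) = ⊤ := fun q => by
    have key : ∀ k, Submodule.span B (Set.range (E q)) ⊔ J ^ k • ⊤ = ⊤ := fun k => by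
      induction k with
      | zero => simp
      | succ k ih =>
        have h1 : Submodule.span B (Set.range (E q)) ⊔ J • (⊤ : Submodule B (M q)) = ⊤ := by
          refine eq_top_iff.2 fun x _ => ?_
          obtain ⟨c, hc⟩ := (Submodule.mem_span_range_iff_exists_fun B).1
            (show g (Nat.zero_le q) x ∈ Submodule.span B (Set.range e) by rw [he]; trivial)
          have : x - ∑ i, c i • E q i ∈ J • (⊤ : Submodule B (M q)) := by
            have : x - ∑ i, c i • E q i ∈ LinearMap.ker (g (Nat.zero_le q)) := by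
              rw [LinearMap.mem_ker, map_sub, map_sum]
              simp only [map_smul, hE, hE0, hc, sub_self]
            rwa [hker, zero_add, pow_one] at this
          rw [← add_sub_cancel (∑ i, c i • E q i) x]
          exact Submodule.add_mem_sup (Submodule.sum_mem _ fun i _ =>
            Submodule.smul_mem _ _ (Submodule.subset_span ⟨i, rfl⟩)) this
        have h2 : J ^ k • (⊤ : Submodule B (M q)) ≤
            Submodule.span B (Set.range (E q)) ⊔ J ^ (k + 1) • (⊤ : Submodule B (M q)) :=
          calc J ^ k • (⊤ : Submodule B (M q))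
              = J ^ k • (Submodule.span B (Set.range (E q)) ⊔ J • (⊤ : Submodule B (M q))) := by rw [h1]
            _ = J ^ k • Submodule.span B (Set.range (E q)) ⊔ J ^ (k + 1) • (⊤ : Submodule B (M q)) := by
              rw [Submodule.smul_sup, pow_succ, Submodule.mul_smul]
            _ ≤ _ := sup_le_sup_right Submodule.smul_le_right _
        exact eq_top_iff.2 (ih.ge.trans (sup_le le_sup_left h2))
    have h3 := key (q + 1)
    rwa [hkill, sup_bot_eq] at h3
  let Val : ∀ (q : ℕ) (m : ℕ), (Fin N → (Fin r → ℕ) → B) → M m := fun q m P =>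
    ∑ i, ∑ ν ∈ layer r q, (mon a ν * P i ν) • E m i
  have hgVal : ∀ {p n : ℕ} (h : p ≤ n) (q : ℕ) (P : Fin N → (Fin r → ℕ) → B), g h (Val q n P) = Val q p P :=
    fun h q P => by simp [Val, hE h]
  have hsurjVal : ∀ q, ∀ w ∈ J ^ q • (⊤ : Submodule B (M q)), ∃ P, Val q q P = w := fun q w hw => by
    rw [hJ, ← span_mon_eq_pow, ← hgen q, Submodule.span_smul_span] at hw
    induction hw using Submodule.span_induction with
    | mem x hx =>
      obtain ⟨_, ⟨ν, hν, rfl⟩, _, ⟨i, rfl⟩, rfl⟩ := hx
      refine ⟨fun i' ν' => if i' = i ∧ ν' = ν then 1 else 0, ?_⟩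
      simp only [Val]
      rw [Finset.sum_eq_single i (fun j _ hj => Finset.sum_eq_zero fun ν' _ => by simp [hj]) (by simp),
        Finset.sum_eq_single ν (fun ν' _ hν' => by simp [hν']) (fun h => (h hν).elim)]
      simp
    | zero => exact ⟨0, by simp [Val]⟩
    | add x y _ _ hx hy =>
      obtain ⟨P, rfl⟩ := hx
      obtain ⟨Q, rfl⟩ := hy
      exact ⟨P + Q, by simp [Val, mul_add, add_smul, Finset.sum_add_distrib]⟩
    | smul b x _ hx =>
      obtain ⟨P, rfl⟩ := hx
      exact ⟨b • P, by simp [Val, Finset.smul_sum, smul_smul, mul_left_comm]⟩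
  let toF : (Fin r → ℕ) → (Fin r →₀ ℕ) := Finsupp.equivFunOnFinite.symm
  let toPoly : ℕ → (Fin N → (Fin r → ℕ) → B) → (Fin N → MvPolynomial (Fin r) B) := fun q P i =>
    ∑ ν ∈ layer r q, MvPolynomial.monomial (toF ν) (P i ν)
  let T : Set (Fin N → MvPolynomial (Fin r) B) :=
    {Q | ∃ (q : ℕ) (P : Fin N → (Fin r → ℕ) → B), Val q q P ∈ S q ∧ toPoly q P = Q}
  obtain ⟨F, hF, hspan⟩ := Submodule.fg_span_iff_fg_span_finset_subset T |>.1
    (IsNoetherian.noetherian (Submodule.span (MvPolynomial (Fin r) B) T))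
  let G : Fin F.card → (Fin N → MvPolynomial (Fin r) B) := fun l => (F.equivFin.symm l).1
  choose qs Ps hPs hG using fun l => hF (F.equivFin.symm l).2
  obtain ⟨c, hc⟩ : ∃ c, ∀ l, qs l ≤ c := ⟨Finset.univ.sup qs, fun l => Finset.le_sup (Finset.mem_univ l)⟩
  have diag : ∀ q P, Val q q P ∈ S q → Val q q P ∈ J ^ (q - c) • S q := by
    intro q P hPq
    have hmem : toPoly q P ∈ Submodule.span (MvPolynomial (Fin r) B) (Set.range G) := by
      have hr : Set.range G = (F : Set (Fin N → MvPolynomial (Fin r) B)) := Set.ext fun x =>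
        ⟨by rintro ⟨j, rfl⟩; exact (F.equivFin.symm j).2, fun hx => ⟨F.equivFin ⟨x, hx⟩, by simp [G]⟩⟩
      rw [hr, ← hspan]
      exact Submodule.subset_span ⟨q, P, hPq, rfl⟩
    obtain ⟨h, hh⟩ := (Submodule.mem_span_range_iff_exists_fun _).1 hmem
    have hcoef : ∀ i, ∀ ν ∈ layer r q, P i ν = ∑ l, ∑ σ ∈ layer r (qs l),
        if σ ≤ ν then Ps l i σ * (h l).coeff (toF (ν - σ)) else 0 := fun i ν hν => by
      have h1 : (toPoly q P i).coeff (toF ν) = P i ν := by
        rw [MvPolynomial.coeff_sum, Finset.sum_eq_single ν (fun σ _ hσ => ?_) (fun h => (h hν).elim)]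
        · simp
        · rw [MvPolynomial.coeff_monomial, if_neg fun h => hσ (Finsupp.equivFunOnFinite.symm.injective h)]
      rw [← h1, ← hh, Finset.sum_apply, MvPolynomial.coeff_sum]
      refine Finset.sum_congr rfl fun l _ => ?_
      rw [Pi.smul_apply, smul_eq_mul, mul_comm, show G l i = toPoly (qs l) (Ps l) i from (congrFun (hG l) i).symm,
        Finset.sum_mul, MvPolynomial.coeff_sum]
      refine Finset.sum_congr rfl fun σ _ => ?_
      rw [MvPolynomial.coeff_monomial_mul']
      have hle : toF σ ≤ toF ν ↔ σ ≤ ν :=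
        ⟨fun h i => by simpa [toF] using h i, fun h i => by simpa [toF] using h i⟩
      have hsub : toF ν - toF σ = toF (ν - σ) := by ext j; simp [toF]
      simp only [hle, hsub]
    have hVal : Val q q P = ∑ l, ∑ i, ∑ σ ∈ layer r (qs l), ∑ ν ∈ layer r q,
        if σ ≤ ν then (mon a ν * (Ps l i σ * (h l).coeff (toF (ν - σ)))) • E q i else 0 := by
      calc Val q q P
          = ∑ i, ∑ ν ∈ layer r q, ∑ l, ∑ σ ∈ layer r (qs l),
            if σ ≤ ν then (mon a ν * (Ps l i σ * (h l).coeff (toF (ν - σ)))) • E q i else 0 := by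
            refine Finset.sum_congr rfl fun i _ => Finset.sum_congr rfl fun ν hν => ?_
            simp only [hcoef i ν hν, Finset.mul_sum, Finset.sum_smul, mul_ite, mul_zero, ite_smul, zero_smul]
        _ = ∑ i, ∑ l, ∑ σ ∈ layer r (qs l), ∑ ν ∈ layer r q,
            if σ ≤ ν then (mon a ν * (Ps l i σ * (h l).coeff (toF (ν - σ)))) • E q i else 0 := by
            refine Finset.sum_congr rfl fun i _ => ?_
            rw [Finset.sum_comm]
            exact Finset.sum_congr rfl fun l _ => Finset.sum_comm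
        _ = _ := Finset.sum_comm
    rw [hVal]
    refine Submodule.sum_mem _ fun l _ => ?_
    by_cases hd : qs l ≤ q
    swap
    · refine Submodule.sum_mem _ fun i _ => Submodule.sum_mem _ fun σ hσ => Submodule.sum_mem _ fun ν hν => ?_
      rw [if_neg fun hle => hd ?_]
      · exact zero_mem _
      · have := wt_add (ν - σ) σ
        rw [sub_add_of_le hle, mem_layer.1 hν, mem_layer.1 hσ] at this
        omega
    obtain ⟨s, hs, hgs⟩ := (hS hd).ge (hPs l)
    have hX : ∀ b ∈ J ^ (q - qs l), b • Val (qs l) q (Ps l) = b • s := fun b hb => by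
      have h1 : Val (qs l) q (Ps l) - s ∈ LinearMap.ker (g hd) := by
        rw [LinearMap.mem_ker, map_sub, hgVal, hgs, sub_self]
      rw [hker] at h1
      have h2 := Submodule.smul_mem_smul hb h1
      rw [← Submodule.mul_smul, ← pow_add, show q - qs l + (qs l + 1) = q + 1 by omega, hkill, Submodule.mem_bot,
        smul_sub, sub_eq_zero] at h2
      exact h2
    let L : Finset (Fin r → ℕ) := layer r (q - qs l)
    have hsum : ∑ μ ∈ L, (mon a μ * (h l).coeff (toF μ)) • Val (qs l) q (Ps l) ∈ J ^ (q - c) • S q := by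
      refine Submodule.sum_mem _ fun μ hμ => ?_
      have hμJ : mon a μ ∈ J ^ (q - qs l) := by
        rw [hJ, ← span_mon_eq_pow]; exact Ideal.subset_span ⟨μ, hμ, rfl⟩
      rw [mul_comm, mul_smul, hX _ hμJ]
      exact Submodule.smul_mem _ _ (Submodule.smul_mem_smul
        (Ideal.pow_le_pow_right (Nat.sub_le_sub_left (hc l) q) hμJ) hs)
    convert hsum using 1
    simp only [Val, Finset.smul_sum]
    rw [Finset.sum_comm (s := L)]
    refine Finset.sum_congr rfl fun i _ => ?_
    rw [Finset.sum_comm (s := L)]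
    refine Finset.sum_congr rfl fun σ hσ => ?_
    rw [← Finset.sum_filter]
    refine Finset.sum_bij' (fun ν _ => ν - σ) (fun μ _ => μ + σ) (fun ν hν => ?_) (fun μ hμ => ?_)
      (fun ν hν => ?_) (fun μ _ => ?_) fun ν hν => ?_
    · obtain ⟨hν, hle⟩ := Finset.mem_filter.1 hν
      refine mem_layer.2 ?_
      have := wt_add (ν - σ) σ
      rw [sub_add_of_le hle, mem_layer.1 hν, mem_layer.1 hσ] at this
      omega
    · refine Finset.mem_filter.2 ⟨mem_layer.2 ?_, fun j => Nat.le_add_left _ _⟩
      rw [wt_add, mem_layer.1 hμ, mem_layer.1 hσ]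
      omega
    · exact sub_add_of_le (Finset.mem_filter.1 hν).2
    · exact add_sub_right _ _
    · obtain ⟨-, hle⟩ := Finset.mem_filter.1 hν
      rw [smul_smul]
      congr 1
      conv_lhs => rw [← sub_add_of_le hle, mon_add]
      rw [add_sub_right]
      ring
  refine ⟨c, fun m p v hv hvp => ?_⟩
  have key : ∀ k p (w : M m), w ∈ S m → w ∈ J ^ p • (⊤ : Submodule B (M m)) → m + 1 ≤ p + k →
      w ∈ J ^ (p - c) • S m := by
    intro k
    induction k with
    | zero =>
      intro p w _ hw hp
      have h0 := Submodule.smul_mono_left (N := (⊤ : Submodule B (M m))) (Ideal.pow_le_pow_right hp) hw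
      rw [hkill, Submodule.mem_bot] at h0
      rw [h0]; exact zero_mem _
    | succ k ih =>
      intro p w hwS hw hp
      by_cases hpm : p ≤ m
      swap
      · have h0 := Submodule.smul_mono_left (N := (⊤ : Submodule B (M m)))
          (Ideal.pow_le_pow_right (show m + 1 ≤ p by omega)) hw
        rw [hkill, Submodule.mem_bot] at h0
        rw [h0]; exact zero_mem _
      have h1 : g hpm w ∈ J ^ p • (⊤ : Submodule B (M p)) := by
        have := Submodule.mem_map_of_mem (f := g hpm) hw
        rw [Submodule.map_smul'', Submodule.map_top, LinearMap.range_eq_top.2 (hsurj hpm)] at this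
        exact this
      obtain ⟨P, hP⟩ := hsurjVal _ _ h1
      have h2 := diag p P (hP ▸ (hS hpm).le (Submodule.mem_map_of_mem hwS))
      rw [hP, ← hS hpm, ← Submodule.map_smul''] at h2
      obtain ⟨z, hz, hgz⟩ := h2
      have h3 : w - z ∈ J ^ (p + 1) • (⊤ : Submodule B (M m)) := by
        rw [← hker hpm, LinearMap.mem_ker, map_sub, hgz, sub_self]
      have hzS : z ∈ S m := Submodule.smul_le_right hz
      rw [← sub_add_cancel w z]
      exact add_mem (Submodule.smul_mono_left (Ideal.pow_le_pow_right (by omega))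
        (ih (p + 1) (w - z) (sub_mem hwS hzS) h3 (by omega))) hz
  exact key (m + 1) p v hv hvp (by omega)

end GrothLib.FormalExist7
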