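import Groth.Agent.Lib.FormalExist7.TrickyAux
import Groth.Agent.Lib.AdicExtra.Complete

/-!
# Existence for an arbitrary ideal from existence for principal ideals
-/

set_option autoImplicit false
set_option linter.style.haveILetI false
universe u

open CategoryTheory CategoryTheory.Limits AlgebraicGeometry Opposite TopologicalSpace

namespace GrothLib.FormalExist7

open GrothLib.FormalSys GrothLib.FormalFun GrothLib.QCoh GrothLib.FormalCd7

variable {A : Type u} [CommRing A] {X : Scheme.{u}} [X.Over (Spec (CommRingCat.of A))]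

theorem killedBy_sup {J L : Ideal A} {M : X.Modules} (h : Formal.KilledBy J M) (h' : Formal.KilledBy L M) :
    Formal.KilledBy (J ⊔ L) M := fun a ha => by
  obtain ⟨b, hb, c, hc, rfl⟩ := Submodule.mem_sup.1 ha
  rw [smulMod_add, h b hb, h' c hc, add_zero]

/-- On a module killed by `L` the quotient by `L ⊔ J` is the quotient by `J`. -/
theorem isQuot_of_sup {L J : Ideal A} {M N : X.Modules} {π : M ⟶ N} (hπ : IsQuot (L ⊔ J) π)
    (hM : Formal.KilledBy L M) : IsQuot J π := by
  haveI := hπ.epi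
  have hq := IsQuot.cokernelπ J M
  haveI := hq.epi
  exact IsQuot.mk' (fun a ha => hπ.comp_eq_zero a (Ideal.mem_sup_right ha))
    (hπ.exists_desc' (cokernel.π (Formal.smulFamily J M))
      (killedBy_sup (killedBy_of_epi (cokernel.π (Formal.smulFamily J M)) hM) hq.killedBy))

/-- On a module killed by `L` the quotient by `J` is the quotient by `L ⊔ J`. -/
theorem isQuot_sup {L J : Ideal A} {M N : X.Modules} {π : M ⟶ N} (hπ : IsQuot J π) (hM : Formal.KilledBy L M) :
    IsQuot (L ⊔ J) π := by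
  haveI := hπ.epi
  refine IsQuot.mk' (fun a ha => ?_) ?_
  · rw [smulMod_naturality, killedBy_sup (killedBy_of_epi π hM) hπ.killedBy a ha, comp_zero]
  · exact hπ.exists_desc' (cokernel.π (Formal.smulFamily (L ⊔ J) M))
      (killedBy_mono le_sup_right (IsQuot.cokernelπ (L ⊔ J) M).killedBy)

theorem sup_pow_le_sup (L J : Ideal A) (a b : ℕ) :
    (L ⊔ J) ^ (a + b + 1) ≤ L ^ (a + 1) ⊔ J ^ (b + 1) := by
  rw [← Ideal.add_eq_sup, add_pow, Ideal.sum_eq_sup]
  refine Finset.sup_le fun i hi => ?_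
  rw [Finset.mem_range] at hi
  have h1 : ∀ U V W : Ideal A, U * V * W ≤ U ∧ U * V * W ≤ V := fun U V W =>
    ⟨Ideal.mul_le_inf.trans (inf_le_left.trans (Ideal.mul_le_inf.trans inf_le_left)),
      Ideal.mul_le_inf.trans (inf_le_left.trans (Ideal.mul_le_inf.trans inf_le_right))⟩
  rcases le_or_gt (a + 1) i with h | h
  · exact ((h1 _ _ _).1.trans (Ideal.pow_le_pow_right h)).trans le_sup_left
  · exact ((h1 _ _ _).2.trans (Ideal.pow_le_pow_right (show b + 1 ≤ a + b + 1 - i by omega))).trans le_sup_right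

/-- All members of a formal system have the support of the bottom one. -/
theorem support_subset_bot [IsNoetherian X] {I : Ideal A} {G : ℕᵒᵖ ⥤ X.Modules} (hG : Formal.IsCohFormal I G)
    (n : ℕ) : CohB1.support (G.obj (op n)) ⊆ CohB1.support (G.obj (op 0)) := by
  intro y hy
  by_contra h0
  haveI := stalk_subsingleton_of_notMem h0
  apply hy
  have h1 : LinearMap.ker (stalkLin (trans G (Nat.zero_le n)) y) = ⊤ :=
    eq_top_iff.2 fun v _ => LinearMap.mem_ker.2 (Subsingleton.elim _ _)
  rw [ker_stalkLin_of_isQuot (isQuot_map hG (Nat.zero_le n)), zero_add, pow_one] at h1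
  have hpow : ∀ k, ((I.map (toStalk A y)) ^ k) • (⊤ : Submodule (X.presheaf.stalk y) _) =
      (⊤ : Submodule (X.presheaf.stalk y) ((G.obj (op n)).presheaf.stalk y)) := fun k => by
    induction k with
    | zero => rw [pow_zero, Ideal.one_eq_top, Submodule.top_smul]
    | succ k ih => rw [pow_succ, Submodule.mul_smul, h1, ih]
  have h2 := hpow (n + 1)
  rw [← Ideal.map_pow] at h2
  have h3 : (⊤ : Submodule (X.presheaf.stalk y) ((G.obj (op n)).presheaf.stalk y)) ≤ ⊥ :=
    h2.ge.trans (mem_range_of_mem_map_smul y ⊥ fun a ha z => killedBy_stalk (hG.2.1 n) y ha z)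
  exact subsingleton_of_forall_eq 0 fun v => (Submodule.mem_bot _).1 (h3 (Submodule.mem_top (x := v)))

/-- If completions of morphisms detect morphisms, they detect isomorphisms. -/
theorem isIso_of_cmap {I : Ideal A} {M N : X.Modules} (φ : M ⟶ N)
    (hNM : ∀ ψ : Formal.completion I N ⟶ Formal.completion I M, ∃ χ : N ⟶ M,
      ∀ n : ℕ, Formal.modPowπ I (n + 1) N ≫ ψ.app (op n) = χ ≫ Formal.modPowπ I (n + 1) M)
    (hMM : ∀ χ : M ⟶ M, (∀ n : ℕ, Formal.modPowπ I (n + 1) M = χ ≫ Formal.modPowπ I (n + 1) M) → χ = 𝟙 M)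
    (hNN : ∀ χ : N ⟶ N, (∀ n : ℕ, Formal.modPowπ I (n + 1) N = χ ≫ Formal.modPowπ I (n + 1) N) → χ = 𝟙 N)
    (h : ∀ n : ℕ, IsIso ((cmap I φ).app (op n))) : IsIso φ := by
  haveI : ∀ k, IsIso ((cmap I φ).app k) := fun k => h k.unop
  haveI := NatIso.isIso_of_isIso_app (cmap I φ)
  obtain ⟨χ, hχ⟩ := hNM (inv (cmap I φ))
  refine ⟨χ, hMM _ fun n => ?_, hNN _ fun n => ?_⟩
  · have h1 : φ ≫ χ ≫ qπ I M n = φ ≫ qπ I N n ≫ (inv (cmap I φ)).app (op n) := congrArg (φ ≫ ·) (hχ n).symm
    rw [← qπ_cmap_assoc, ← NatTrans.comp_app, IsIso.hom_inv_id, NatTrans.id_app, Category.comp_id] at h1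
    exact ((Category.assoc _ _ _).trans h1).symm
  · have h1 : χ ≫ qπ I M n ≫ (cmap I φ).app (op n) = qπ I N n ≫ (inv (cmap I φ)).app (op n) ≫ (cmap I φ).app (op n) :=
      ((Category.assoc _ _ _).symm.trans (congrArg (· ≫ _) (hχ n).symm)).trans (Category.assoc _ _ _)
    rw [qπ_cmap, ← NatTrans.comp_app, IsIso.inv_hom_id, NatTrans.id_app, Category.comp_id] at h1
    exact ((Category.assoc _ _ _).trans h1).symm

/-- Existence for all ideals of definition, given it for the principal ones and full faithfulness. -/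
theorem exists_of_principal [IsNoetherianRing A] [IsNoetherian X] (P : X.Modules → Prop)
    (hP : ∀ M N : X.Modules, CohB1.support M ⊆ CohB1.support N → P N → P M)
    (hff : ∀ (J : Ideal A), IsAdicComplete J A → ∀ (M N : X.Modules), Coh.IsCoh M → Coh.IsCoh N → P M → P N →
      ∀ ψ : Formal.completion J M ⟶ Formal.completion J N,
        ∃! φ : M ⟶ N, ∀ n : ℕ, Formal.modPowπ J (n + 1) M ≫ ψ.app (op n) = φ ≫ Formal.modPowπ J (n + 1) N)
    (hprin : ∀ f : A, IsAdicComplete (Ideal.span {f}) A → ∀ G : ℕᵒᵖ ⥤ X.Modules,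
      Formal.IsCohFormal (Ideal.span {f}) G → P (G.obj (op 0)) →
        ∃ M : X.Modules, Coh.IsCoh M ∧ P M ∧ Nonempty (Formal.completion (Ideal.span {f}) M ≅ G))
    (s : Finset A) : ∀ I : Ideal A, I = Ideal.span (s : Set A) → IsAdicComplete I A →
      ∀ F : ℕᵒᵖ ⥤ X.Modules, Formal.IsCohFormal I F → P (F.obj (op 0)) →
        ∃ M : X.Modules, Coh.IsCoh M ∧ P M ∧ Nonempty (Formal.completion I M ≅ F) := by
  classical
  induction s using Finset.induction_on with
  | empty =>
    intro I hI _ F hF hPF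
    obtain rfl : I = ⊥ := by simpa using hI
    have hk : ∀ n : ℕ, (⊥ : Ideal A) ^ (n + 1) = ⊥ := fun n => by
      rw [pow_succ, Ideal.mul_bot]
    have hiso : ∀ n : ℕ, IsIso (trans F (Nat.zero_le n)) := fun n =>
      (isQuot_map hF (Nat.zero_le n)).isIso_of_killedBy fun a ha => by
        rw [hk] at ha
        exact hF.2.1 n a (by rw [hk]; exact ha)
    refine ⟨F.obj (op 0), hF.1 0, hPF, exists_completion_iso (fun n => inv (trans F (Nat.zero_le n)))
      (fun n => ?_) fun n => ?_⟩
    · have h0 : IsQuot ((⊥ : Ideal A) ^ (n + 1)) (𝟙 (F.obj (op 0))) :=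
        IsQuot.id_of_killedBy fun a ha => by rw [hk] at ha; exact hF.2.1 0 a (by rw [hk]; exact ha)
      simpa using h0.comp_isIso (inv (trans F (Nat.zero_le n)))
    · rw [IsIso.inv_comp_eq, ← trans_comp F (Nat.zero_le n) (Nat.le_succ n), Category.assoc, IsIso.hom_inv_id]
      exact (Category.comp_id _).symm
  | insert f s' _ ih =>
    intro I hI hA F hF hPF
    let L : Ideal A := Ideal.span {f}
    let J : Ideal A := Ideal.span (s' : Set A)
    have hIs : I = L ⊔ J := by rw [hI, Finset.coe_insert, Ideal.span_insert]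
    have hLI : L ≤ I := hIs ▸ le_sup_left
    have hJI : J ≤ I := hIs ▸ le_sup_right
    haveI := hA
    have hAJ : IsAdicComplete J A := AdicExtra.isAdicComplete_of_le hJI (IsNoetherian.noetherian J)
    have hAL : IsAdicComplete L A := AdicExtra.isAdicComplete_of_le hLI (IsNoetherian.noetherian L)
    let T : ℕ → ℕ → Ideal A := fun k n => L ^ (k + 1) ⊔ J ^ (n + 1)
    have hT1 : ∀ k n, I ^ (k + n + 1) ≤ T k n := fun k n => hIs ▸ sup_pow_le_sup L J k n
    have hT2 : ∀ n, T n n ≤ I ^ (n + 1) := fun n => sup_le (Ideal.pow_right_mono hLI _) (Ideal.pow_right_mono hJI _)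
    have hTmono : ∀ {k k' n n' : ℕ}, k ≤ k' → n ≤ n' → T k' n' ≤ T k n := fun h h' =>
      sup_le_sup (Ideal.pow_le_pow_right (by omega)) (Ideal.pow_le_pow_right (by omega))
    let GO : ℕ → ℕ → X.Modules := fun k n => cokernel (Formal.smulFamily (T k n) (F.obj (op (k + n))))
    let gπ : ∀ k n, F.obj (op (k + n)) ⟶ GO k n := fun k n => cokernel.π (Formal.smulFamily (T k n) (F.obj (op (k + n))))
    have hgπ : ∀ k n, IsQuot (T k n) (gπ k n) := fun k n => IsQuot.cokernelπ _ _
    have hg : ∀ {k k' n n' : ℕ} (h : k ≤ k') (h' : n ≤ n'), ∃ g : GO k' n' ⟶ GO k n,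
        gπ k' n' ≫ g = trans F (Nat.add_le_add h h') ≫ gπ k n := fun {k k' n n'} h h' =>
      (hgπ k' n').exists_desc' _ (killedBy_mono (hTmono h h') (hgπ k n).killedBy)
    choose g hg using @hg
    have hgQ : ∀ {k k' n n' : ℕ} (h : k ≤ k') (h' : n ≤ n'), IsQuot (T k n) (g h h') := fun {k k' n n'} h h' =>
      (hgπ k' n').of_comp ((hg h h').symm ▸ (isQuot_map hF (Nat.add_le_add h h')).trans (hgπ k n) (hT1 k n))
    have hgcomp : ∀ {k k' k'' n n' n'' : ℕ} (h : k ≤ k') (h₂ : k' ≤ k'') (h' : n ≤ n') (h₂' : n' ≤ n''),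
        g h₂ h₂' ≫ g h h' = g (h.trans h₂) (h'.trans h₂') := fun {k k' k'' n n' n''} h h₂ h' h₂' => by
      haveI := (hgπ k'' n'').epi
      rw [← cancel_epi (gπ k'' n''), reassoc_of% (hg h₂ h₂'), hg h h', hg (h.trans h₂) (h'.trans h₂'), ← Category.assoc,
        trans_comp]
    let G : ℕ → ℕᵒᵖ ⥤ X.Modules := fun k =>
      { obj := fun n => GO k n.unop
        map := fun {n q} φ => g (le_refl k) (leOfHom φ.unop)
        map_id := fun n => by
          haveI := (hgπ k n.unop).epi
          rw [← cancel_epi (gπ k n.unop), hg, trans_self, Category.id_comp, Category.comp_id]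
        map_comp := fun {n q p} φ χ =>
          (hgcomp (le_refl k) (le_refl k) (leOfHom χ.unop) (leOfHom φ.unop)).symm }
    have hGL : ∀ k n, Formal.KilledBy (L ^ (k + 1)) (GO k n) := fun k n =>
      killedBy_mono le_sup_left (hgπ k n).killedBy
    have hG : ∀ k, Formal.IsCohFormal J (G k) := fun k =>
      ⟨fun n => FormalFn.isCoh_cokernel_smulFamily _ (hF.1 _),
        fun n => killedBy_mono le_sup_right (hgπ k n).killedBy,
        fun n => isQuot_of_sup (hgQ (le_refl k) (Nat.le_succ n)) (hGL k (n + 1))⟩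
    have hPG : ∀ k, P (GO k 0) := fun k => by
      haveI := (hgπ k 0).epi
      exact hP _ _ ((support_subset_of_epi (gπ k 0)).trans (support_subset_bot hF _)) hPF
    choose M hM hPM hζ using fun k => ih J rfl hAJ (G k) (hG k) (hPG k)
    let ζ : ∀ k, Formal.completion J (M k) ≅ G k := fun k => (hζ k).some
    have hζn : ∀ k n, IsQuot (J ^ (n + 1)) (qπ J (M k) n ≫ (ζ k).hom.app (op n)) := fun k n =>
      (isQuot_qπ J (M k) n).comp_isIso _
    -- the algebraisations form a system for `L`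
    let gN : ∀ {k k' : ℕ}, k ≤ k' → (G k' ⟶ G k) := fun {k k'} h =>
      { app := fun n => g h (le_refl n.unop)
        naturality := fun {n q} φ =>
          (hgcomp h (le_refl k') (le_refl q.unop) (leOfHom φ.unop)).trans
            (hgcomp (le_refl k) h (leOfHom φ.unop) (le_refl n.unop)).symm }
    choose m hm hmu using fun {k k' : ℕ} (h : k ≤ k') =>
      hff J hAJ (M k') (M k) (hM k') (hM k) (hPM k') (hPM k) ((ζ k').hom ≫ gN h ≫ (ζ k).inv)
    have hm' : ∀ {k k' : ℕ} (h : k ≤ k') (n : ℕ), m h ≫ qπ J (M k) n ≫ (ζ k).hom.app (op n) =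
        qπ J (M k') n ≫ (ζ k').hom.app (op n) ≫ g h (le_refl n) := fun {k k'} h n => by
      have h1 : qπ J (M k') n ≫ (ζ k').hom.app (op n) ≫ g h (le_refl n) ≫ (ζ k).inv.app (op n) =
        m h ≫ qπ J (M k) n := hm h n
      rw [← Category.assoc, ← h1]
      simp only [Category.assoc]
      rw [Iso.inv_hom_id_app]
      exact congrArg (fun t => qπ J (M k') n ≫ (ζ k').hom.app (op n) ≫ t) (Category.comp_id _)
    have hML : ∀ k, Formal.KilledBy (L ^ (k + 1)) (M k) := fun k a ha => by
      obtain ⟨_, -, hu⟩ := hff J hAJ (M k) (M k) (hM k) (hM k) (hPM k) (hPM k) 0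
      have hz : ∀ χ : M k ⟶ M k, (∀ n, χ ≫ qπ J (M k) n = 0) → χ = 0 := fun χ hχ => by
        refine (hu χ fun n => ?_).trans (hu 0 fun n => ?_).symm
        · show qπ J (M k) n ≫ 0 = χ ≫ qπ J (M k) n
          rw [comp_zero, hχ]
        · show qπ J (M k) n ≫ 0 = (0 : M k ⟶ M k) ≫ qπ J (M k) n
          rw [comp_zero, zero_comp]
      refine hz _ fun n => ?_
      rw [smulMod_naturality, ← cancel_mono ((ζ k).hom.app (op n)), zero_comp, Category.assoc, smulMod_naturality,
        hGL k n a ha, comp_zero, comp_zero]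
    let MF : ℕᵒᵖ ⥤ X.Modules :=
      { obj := fun k => M k.unop
        map := fun {k q} φ => m (leOfHom φ.unop)
        map_id := fun k => (hmu (le_refl k.unop) (𝟙 _) fun n => by
          show qπ J _ n ≫ (ζ k.unop).hom.app (op n) ≫ g (le_refl k.unop) (le_refl n) ≫ (ζ k.unop).inv.app (op n) =
            𝟙 _ ≫ qπ J _ n
          rw [show g (le_refl k.unop) (le_refl n) = 𝟙 _ from (G k.unop).map_id (op n), Category.id_comp,
            Category.id_comp, Iso.hom_inv_id_app]
          exact Category.comp_id _).symm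
        map_comp := fun {k q p} φ χ => (hmu _ (m (leOfHom φ.unop) ≫ m (leOfHom χ.unop)) fun n => by
          show qπ J _ n ≫ (ζ k.unop).hom.app (op n) ≫ g (leOfHom (φ ≫ χ).unop) (le_refl n) ≫
            (ζ p.unop).inv.app (op n) = (m (leOfHom φ.unop) ≫ m (leOfHom χ.unop)) ≫ qπ J _ n
          rw [← cancel_mono ((ζ p.unop).hom.app (op n))]
          simp only [Category.assoc]
          rw [Iso.inv_hom_id_app, hm', reassoc_of% (hm' (leOfHom φ.unop) n), hgcomp]
          exact congrArg (fun t => qπ J (M k.unop) n ≫ (ζ k.unop).hom.app (op n) ≫ t) (Category.comp_id _)).symm }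
    have hMF : Formal.IsCohFormal L MF := by
      refine ⟨hM, hML, fun k => ?_⟩
      show IsQuot (L ^ (k + 1)) (m (Nat.le_succ k))
      have hq := IsQuot.modPowπ L (k + 1) (M (k + 1))
      obtain ⟨φ, hφ⟩ := hq.exists_desc' (m (Nat.le_succ k)) (hML k)
      let N := Formal.modPow L (k + 1) (M (k + 1))
      have hN : Coh.IsCoh N := isCoh_modPow L (k + 1) (hM (k + 1))
      have hPN : P N := by
        haveI := hq.epi
        exact hP _ _ (support_subset_of_epi (Formal.modPowπ L (k + 1) (M (k + 1)))) (hPM (k + 1))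
      have key : ∀ n : ℕ, IsIso ((cmap J φ).app (op n)) := fun n => by
        have h1 : IsQuot (T k n) (Formal.modPowπ L (k + 1) (M (k + 1)) ≫ qπ J N n) :=
          hq.trans (isQuot_sup (isQuot_qπ J N n) (killedBy_modPow (k + 1) _)) le_sup_left
        have h2 : IsQuot (T k n) (qπ J (M (k + 1)) n ≫ (ζ (k + 1)).hom.app (op n) ≫ g (Nat.le_succ k) (le_refl n)) := by
          rw [← Category.assoc]
          exact (hζn (k + 1) n).trans (hgQ (Nat.le_succ k) (le_refl n)) le_sup_right
        have h3 : IsQuot (T k n) (m (Nat.le_succ k) ≫ qπ J (M k) n) := by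
          have h := h2.comp_isIso ((ζ k).inv.app (op n))
          rwa [← hm', Category.assoc, Category.assoc, Iso.hom_inv_id_app, show
            qπ J (M k) n ≫ 𝟙 _ = qπ J (M k) n from Category.comp_id _] at h
        obtain ⟨e, he⟩ := h1.exists_iso h3
        haveI := h1.epi
        have : (cmap J φ).app (op n) = e.hom := by
          rw [← cancel_epi (Formal.modPowπ L (k + 1) (M (k + 1)) ≫ qπ J N n), he, Category.assoc, qπ_cmap,
            reassoc_of% hφ]
        rw [this]
        infer_instance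
      have hid : ∀ R : X.Modules, Coh.IsCoh R → P R → ∀ χ : R ⟶ R,
          (∀ n : ℕ, Formal.modPowπ J (n + 1) R = χ ≫ Formal.modPowπ J (n + 1) R) → χ = 𝟙 R := fun R hR hPR χ hχ => by
        obtain ⟨_, -, hu⟩ := hff J hAJ R R hR hR hPR hPR (𝟙 _)
        refine (hu χ fun n => ?_).trans (hu (𝟙 R) fun n => ?_).symm
        · exact (Category.comp_id _).trans (hχ n)
        · exact (Category.comp_id _).trans (Category.id_comp _).symm
      haveI : IsIso φ := isIso_of_cmap φ (fun ψ => (hff J hAJ (M k) N (hM k) hN (hPM k) hPN ψ).exists)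
        (hid N hN hPN) (hid (M k) (hM k) (hPM k)) key
      rw [← hφ]
      exact hq.comp_isIso φ
    obtain ⟨M', hM', hPM', ⟨ξ⟩⟩ := hprin f hAL MF hMF (hPM 0)
    -- the reductions of the algebraisation are the original system
    have hθ : ∀ n, ∃ θ : GO n n ⟶ F.obj (op n), gπ n n ≫ θ = trans F (Nat.le_add_left n n) := fun n =>
      (hgπ n n).exists_desc' _ (killedBy_mono (hT2 n) (hF.2.1 n))
    choose θ hθ using hθ
    have hθQ : ∀ n, IsQuot (I ^ (n + 1)) (θ n) := fun n =>
      (hgπ n n).of_comp ((hθ n).symm ▸ isQuot_map hF (Nat.le_add_left n n))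
    let lam : ∀ k, M' ⟶ M k := fun k => qπ L M' k ≫ ξ.hom.app (op k)
    refine ⟨M', hM', hPM', exists_completion_iso
      (fun n => lam n ≫ qπ J (M n) n ≫ (ζ n).hom.app (op n) ≫ θ n) (fun n => ?_) fun n => ?_⟩
    · rw [← Category.assoc (qπ J (M n) n)]
      exact ((isQuot_qπ L M' n).comp_isIso (ξ.hom.app (op n))).trans
        ((isQuot_sup (hζn n n) (hML n)).trans (hθQ n) (hT2 n))
        ((Ideal.pow_right_mono hLI _).trans le_rfl)
    · have hlam : lam (n + 1) ≫ m (Nat.le_succ n) = lam n := by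
        show (qπ L M' (n + 1) ≫ ξ.hom.app (op (n + 1))) ≫ MF.map (homOfLE (Nat.le_succ n)).op = _
        rw [Category.assoc, ← ξ.hom.naturality, ← Category.assoc]
        exact congrArg (· ≫ ξ.hom.app (op n)) (qπ_trans L M' (Nat.le_succ n))
      haveI := (hgπ (n + 1) (n + 1)).epi
      have hθn : θ (n + 1) ≫ F.map (homOfLE (Nat.le_succ n)).op = g (Nat.le_succ n) (Nat.le_succ n) ≫ θ n := by
        rw [← cancel_epi (gπ (n + 1) (n + 1)), reassoc_of% hθ, reassoc_of% (hg (Nat.le_succ n) (Nat.le_succ n)), hθ]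
        exact (FormalCd7.trans_comp F _ _).trans (FormalCd7.trans_comp F _ _).symm
      show (lam (n + 1) ≫ qπ J (M (n + 1)) (n + 1) ≫ (ζ (n + 1)).hom.app (op (n + 1)) ≫ θ (n + 1)) ≫ _ =
        lam n ≫ qπ J (M n) n ≫ (ζ n).hom.app (op n) ≫ θ n
      rw [← hlam]
      simp only [Category.assoc]
      have e : qπ J (M (n + 1)) n ≫ (ζ (n + 1)).hom.app (op n) =
          qπ J (M (n + 1)) (n + 1) ≫ (ζ (n + 1)).hom.app (op (n + 1)) ≫ g (le_refl (n + 1)) (Nat.le_succ n) := by
        rw [← qπ_trans J (M (n + 1)) (Nat.le_succ n), Category.assoc]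
        exact congrArg (qπ J (M (n + 1)) (n + 1) ≫ ·) ((ζ (n + 1)).hom.naturality _)
      rw [reassoc_of% (hm' (Nat.le_succ n) n), hθn, reassoc_of% e, reassoc_of% hgcomp]

end GrothLib.FormalExist7
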