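import Mathlib.AlgebraicGeometry.Morphisms.Proper
import Mathlib.AlgebraicGeometry.Pullbacks
import Mathlib.RingTheory.TensorProduct.Basic

/-!
# Points over a completed affine open of the target of a proper morphism
-/

set_option autoImplicit false
set_option linter.style.haveILetI false
universe u

open CategoryTheory CategoryTheory.Limits AlgebraicGeometry Opposite TopologicalSpace
open scoped TensorProduct

noncomputable section

namespace GrothLib.FormalExist7

/-- For a proper morphism which is an isomorphism over an open set containing `D(g)`, and a prime `p` of an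
algebra over an affine open not containing `g`, there is a chart whose base change has a retraction to the
local ring at `p` sending `1 - r` to units for `r` in an ideal inside the Jacobson radical. -/
theorem exists_chart_retraction {X Y : Scheme.{u}} (π : X ⟶ Y) [IsProper π] {U : Y.Opens} [IsIso (π ∣_ U)]
    {W : Y.Opens} (hW : IsAffineOpen W) (g : Γ(Y, W)) (hg : Y.basicOpen g ≤ U) {C : Type u} [CommRing C]
    [Algebra Γ(Y, W) C] (J : Ideal C) (hJ : J ≤ (⊥ : Ideal C).jacobson) (p : Ideal C) [p.IsPrime]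
    (hgp : algebraMap Γ(Y, W) C g ∉ p) :
    ∃ (V : X.Opens) (e : V ≤ π ⁻¹ᵁ W), IsAffineOpen V ∧
      letI : Algebra Γ(Y, W) Γ(X, V) := (π.appLE W V e).hom.toAlgebra
      ∃ σ : Γ(X, V) ⊗[Γ(Y, W)] C →+* Localization.AtPrime p,
        (∀ x : C, σ (Algebra.TensorProduct.includeRight x) = algebraMap C _ x) ∧
        ∀ r ∈ J.map (Algebra.TensorProduct.includeRight : C →ₐ[Γ(Y, W)] Γ(X, V) ⊗[Γ(Y, W)] C).toRingHom,
          IsUnit (σ (1 - r)) := by
  let S := Localization.AtPrime p
  let ψ : Γ(Y, W) ⟶ CommRingCat.of C := CommRingCat.ofHom (algebraMap Γ(Y, W) C)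
  let ι : CommRingCat.of C ⟶ CommRingCat.of S := CommRingCat.ofHom (algebraMap C S)
  let jW : Spec (CommRingCat.of C) ⟶ Y := Spec.map ψ ≫ hW.fromSpec
  -- the section over the local scheme
  have hoU : Set.range (Spec.map ι ≫ jW) ⊆ Set.range U.ι := by
    rintro _ ⟨x, rfl⟩
    rw [Scheme.Opens.range_ι]
    refine hg ?_
    show Spec.map ι x ∈ Spec.map ψ ⁻¹ᵁ (hW.fromSpec ⁻¹ᵁ Y.basicOpen g)
    rw [hW.fromSpec_preimage_basicOpen]
    show algebraMap Γ(Y, W) C g ∉ (Spec.map ι x).asIdeal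
    intro hx
    apply x.isPrime.ne_top
    refine x.asIdeal.eq_top_of_isUnit_mem (x := algebraMap C S (algebraMap Γ(Y, W) C g)) hx ?_
    exact IsLocalization.map_units (M := p.primeCompl) S ⟨_, hgp⟩
  let s : Spec (CommRingCat.of S) ⟶ X :=
    IsOpenImmersion.lift U.ι (Spec.map ι ≫ jW) hoU ≫ inv (π ∣_ U) ≫ (π ⁻¹ᵁ U).ι
  have hs : s ≫ π = Spec.map ι ≫ jW := by
    simp only [s, Category.assoc]
    rw [← morphismRestrict_ι, IsIso.inv_hom_id_assoc, IsOpenImmersion.lift_fac]
  let l : Spec (CommRingCat.of S) ⟶ pullback π jW := pullback.lift s (Spec.map ι) hs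
  -- a specialisation over the closed set of `J`
  let x₀ : Spec (CommRingCat.of S) := IsLocalRing.closedPoint S
  let P : Spec (CommRingCat.of C) := ⟨p, inferInstance⟩
  obtain ⟨m, hm, hpm⟩ := p.exists_le_maximal (Ideal.IsPrime.ne_top inferInstance)
  let M : Spec (CommRingCat.of C) := ⟨m, hm.isPrime⟩
  have hlsnd : ∀ x, pullback.snd π jW (l x) = Spec.map ι x := fun x =>
    congrArg (fun φ : Spec (CommRingCat.of S) ⟶ Spec (CommRingCat.of C) => φ x) (pullback.lift_snd _ _ hs)
  have hx₀ : Spec.map ι x₀ = P := by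
    refine PrimeSpectrum.ext ?_
    show Ideal.comap (algebraMap C S) (IsLocalRing.maximalIdeal S) = p
    exact IsLocalization.AtPrime.comap_maximalIdeal S p
  have hcl : M ∈ pullback.snd π jW '' closure {l x₀} := by
    have h1 : IsClosed (pullback.snd π jW '' closure {l x₀}) :=
      (pullback.snd π jW).isClosedMap _ isClosed_closure
    have h2 : P ∈ pullback.snd π jW '' closure {l x₀} :=
      ⟨l x₀, subset_closure rfl, (hlsnd x₀).trans hx₀⟩
    exact ((PrimeSpectrum.le_iff_specializes P M).1 hpm).mem_closed h1 h2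
  obtain ⟨q, hq, hqM⟩ := hcl
  have hspec : l x₀ ⤳ q := specializes_iff_mem_closure.2 hq
  -- the chart
  have hqW : pullback.fst π jW q ∈ π ⁻¹ᵁ W := by
    show π (pullback.fst π jW q) ∈ W
    have h1 : π (pullback.fst π jW q) = jW (pullback.snd π jW q) :=
      congrArg (fun φ : pullback π jW ⟶ Y => φ q) pullback.condition
    rw [h1]
    exact hW.range_fromSpec.le ⟨_, rfl⟩
  obtain ⟨V, hV, hqV, hVW⟩ := exists_isAffineOpen_mem_and_subset hqW
  let ZV : (pullback π jW).Opens := pullback.fst π jW ⁻¹ᵁ V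
  have hqZ : q ∈ ZV := hqV
  have hl₀ : l x₀ ∈ ZV := hspec.mem_open ZV.isOpen hqZ
  have hlZ : (⊤ : (Spec (CommRingCat.of S)).Opens) ≤ l ⁻¹ᵁ ZV := fun x _ =>
    (((IsLocalRing.specializes_closedPoint x).map l.continuous).mem_open ZV.isOpen hl₀)
  refine ⟨V, hVW, hV, ?_⟩
  letI : Algebra Γ(Y, W) Γ(X, V) := (π.appLE W V hVW).hom.toAlgebra
  let fV : Γ(X, V) ⟶ Γ(pullback π jW, ZV) := (pullback.fst π jW).appLE V ZV le_rfl
  let fC : CommRingCat.of C ⟶ Γ(pullback π jW, ZV) :=
    (Scheme.ΓSpecIso (CommRingCat.of C)).inv ≫ (pullback.snd π jW).appLE ⊤ ZV le_top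
  have htop : (⊤ : (Spec (CommRingCat.of C)).Opens) ≤ jW ⁻¹ᵁ W := fun x _ => hW.range_fromSpec.le ⟨_, rfl⟩
  have hjW : jW.appLE W ⊤ htop = ψ ≫ (Scheme.ΓSpecIso (CommRingCat.of C)).inv := by
    rw [Scheme.Hom.appLE, Scheme.Hom.comp_app, hW.fromSpec_app_self, Scheme.ΓSpecIso_inv_naturality]
    simp only [Category.assoc, Scheme.Hom.app_eq_appLE, Scheme.Hom.map_appLE, Scheme.Hom.appLE_map]
    rfl
  have hcompat : π.appLE W V hVW ≫ fV = ψ ≫ fC := by
    have h1 : π.appLE W V hVW ≫ fV = (pullback.fst π jW ≫ π).appLE W ZV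
        (fun z hz => hVW hz) := Scheme.Hom.appLE_comp_appLE _ _ _ _ _ _ _
    have h2 : jW.appLE W ⊤ htop ≫ (pullback.snd π jW).appLE ⊤ ZV le_top =
        (pullback.snd π jW ≫ jW).appLE W ZV (fun z _ => htop (Opens.mem_top _)) :=
      Scheme.Hom.appLE_comp_appLE _ _ _ _ _ _ _
    rw [h1]
    simp only [pullback.condition]
    rw [← h2, hjW, Category.assoc]
  letI : Algebra Γ(Y, W) Γ(pullback π jW, ZV) := (ψ ≫ fC).hom.toAlgebra
  let aV : Γ(X, V) →ₐ[Γ(Y, W)] Γ(pullback π jW, ZV) :=
    { fV.hom with commutes' := fun b => ConcreteCategory.congr_hom hcompat b }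
  let aC : C →ₐ[Γ(Y, W)] Γ(pullback π jW, ZV) := { fC.hom with commutes' := fun b => rfl }
  let θ : Γ(X, V) ⊗[Γ(Y, W)] C →ₐ[Γ(Y, W)] Γ(pullback π jW, ZV) :=
    Algebra.TensorProduct.lift aV aC fun _ _ => mul_comm _ _
  let ev : Γ(pullback π jW, ZV) →+* S :=
    (l.appLE ZV ⊤ hlZ ≫ (Scheme.ΓSpecIso (CommRingCat.of S)).hom).hom
  refine ⟨ev.comp θ.toRingHom, fun x => ?_, fun r hr => ?_⟩
  · have h1 : fC ≫ l.appLE ZV ⊤ hlZ ≫ (Scheme.ΓSpecIso (CommRingCat.of S)).hom = ι := by
      have h2 : (pullback.snd π jW).appLE ⊤ ZV le_top ≫ l.appLE ZV ⊤ hlZ =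
          (l ≫ pullback.snd π jW).appLE ⊤ ⊤ le_top := Scheme.Hom.appLE_comp_appLE _ _ _ _ _ _ _
      simp only [fC, Category.assoc]
      rw [← Category.assoc ((pullback.snd π jW).appLE ⊤ ZV le_top), h2]
      simp only [show l ≫ pullback.snd π jW = Spec.map ι from pullback.lift_snd _ _ hs]
      rw [show (Spec.map ι).appLE ⊤ ⊤ le_top = (Spec.map ι).appTop from (Scheme.Hom.app_eq_appLE _).symm,
        Scheme.ΓSpecIso_naturality, Iso.inv_hom_id_assoc]
    show ev (θ ((1 : Γ(X, V)) ⊗ₜ x)) = _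
    rw [Algebra.TensorProduct.lift_tmul, map_one, one_mul]
    exact ConcreteCategory.congr_hom h1 x
  · -- `r` vanishes at the specialisation, so `1 - r` is invertible at the closed point
    have hr0 : q ∉ (pullback π jW).basicOpen (θ r) := by
      have hsub : J.map (Algebra.TensorProduct.includeRight : C →ₐ[Γ(Y, W)] Γ(X, V) ⊗[Γ(Y, W)] C).toRingHom ≤
          RingHom.ker (((pullback π jW).evaluation ZV q hqZ).hom.comp θ.toRingHom) := by
        refine Ideal.map_le_iff_le_comap.2 fun b hb => ?_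
        rw [Ideal.mem_comap, RingHom.mem_ker]
        show (pullback π jW).evaluation ZV q hqZ (θ ((1 : Γ(X, V)) ⊗ₜ b)) = 0
        rw [Algebra.TensorProduct.lift_tmul, map_one, one_mul]
        by_contra h
        have h1 := ((pullback π jW).evaluation_ne_zero_iff_mem_basicOpen q hqZ (fC b)).1 h
        have h2 : (pullback π jW).basicOpen (fC b) =
            ZV ⊓ pullback.snd π jW ⁻¹ᵁ PrimeSpectrum.basicOpen (show C from b) := by
          show (pullback π jW).basicOpen (((pullback.snd π jW).appLE ⊤ ZV le_top)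
            ((Scheme.ΓSpecIso (CommRingCat.of C)).inv b)) = _
          rw [Scheme.basicOpen_appLE, basicOpen_eq_of_affine']
          simp
        rw [h2] at h1
        have h3 : b ∉ (pullback.snd π jW q).asIdeal := h1.2
        rw [hqM] at h3
        refine h3 ?_
        have h4 := hJ hb
        rw [Ideal.jacobson, Submodule.mem_sInf] at h4
        exact h4 m ⟨bot_le, hm⟩
      intro h
      exact ((pullback π jW).evaluation_ne_zero_iff_mem_basicOpen q hqZ _).2 h (RingHom.mem_ker.1 (hsub hr))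
    have hr1 : q ∈ (pullback π jW).basicOpen (θ (1 - r)) := by
      rw [← (pullback π jW).evaluation_ne_zero_iff_mem_basicOpen q hqZ, map_sub, map_one, map_sub, map_one,
        not_not.1 fun h => hr0 (((pullback π jW).evaluation_ne_zero_iff_mem_basicOpen q hqZ _).1 h), sub_zero]
      exact one_ne_zero
    have hl1 : l x₀ ∈ (pullback π jW).basicOpen (θ (1 - r)) := hspec.mem_open (Opens.isOpen _) hr1
    have hx1 : x₀ ∈ (Spec (CommRingCat.of S)).basicOpen (l.appLE ZV ⊤ hlZ (θ (1 - r))) := by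
      rw [Scheme.basicOpen_appLE]
      exact ⟨Opens.mem_top _, hl1⟩
    rw [basicOpen_eq_of_affine'] at hx1
    exact not_not.1 fun h => hx1 ((IsLocalRing.mem_maximalIdeal _).2 h)

end GrothLib.FormalExist7
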