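import Groth.Agent.Lib.FormalExist7.KerPoint
import Groth.Agent.Lib.FormalExist7.LimitModule
import Groth.Agent.Lib.FormalExist7.SystemAR
import Groth.Agent.Lib.QCoh.SchSupport
import Groth.Agent.Lib.QCoh.PullbackSections
import Mathlib.RingTheory.Filtration
import Mathlib.LinearAlgebra.TensorProduct.RightExactness
import Mathlib.Algebra.Module.LocalizedModule.Basic

/-!
# Uniform bound for the kernel of pullback and pushforward on a formal system
-/

set_option autoImplicit false
set_option linter.style.haveILetI false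
universe u

open CategoryTheory CategoryTheory.Limits AlgebraicGeometry Opposite TopologicalSpace
open scoped TensorProduct

namespace GrothLib.FormalExist7

open GrothLib.FormalSys GrothLib.FormalFun GrothLib.QCoh GrothLib.FormalCd7

/-- An element killed in every level of a base change is killed by a power of `g`. -/
theorem exists_pow_smul_eq_zero {X Y : Scheme.{u}} (π : X ⟶ Y) [IsProper π] {U : Y.Opens} [IsIso (π ∣_ U)]
    {W : Y.Opens} (hW : IsAffineOpen W) [IsNoetherianRing Γ(Y, W)] (g : Γ(Y, W)) (hg : Y.basicOpen g ≤ U)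
    (J : Ideal Γ(Y, W)) (M : ℕ → Type u) [∀ n, AddCommGroup (M n)] [∀ n, Module Γ(Y, W) (M n)]
    {L : Type u} [AddCommGroup L] [Module Γ(Y, W) L] [Module (AdicCompletion J Γ(Y, W)) L]
    [IsScalarTower Γ(Y, W) (AdicCompletion J Γ(Y, W)) L] [Module.Finite (AdicCompletion J Γ(Y, W)) L]
    (φ : ∀ n, L →ₗ[Γ(Y, W)] M n) (hφs : ∀ n, Function.Surjective (φ n))
    (hφk : ∀ n, LinearMap.ker (φ n) = J ^ (n + 1) • (⊤ : Submodule Γ(Y, W) L)) (x : L)
    (hx : ∀ (V : X.Opens) (e : V ≤ π ⁻¹ᵁ W), IsAffineOpen V →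
      letI : Algebra Γ(Y, W) Γ(X, V) := (π.appLE W V e).hom.toAlgebra
      ∀ n, (1 : Γ(X, V)) ⊗ₜ[Γ(Y, W)] φ n x = 0) :
    ∃ k : ℕ, g ^ k • x = 0 := by
  classical
  let B := Γ(Y, W)
  let C := AdicCompletion J B
  let JC : Ideal C := J.map (algebraMap B C)
  haveI : IsAdicComplete JC C := AdicCompletion.isAdicComplete_self J J.fg_of_isNoetherianRing
  let a : Ideal C := LinearMap.ker (LinearMap.toSpanSingleton C L x)
  suffices h : algebraMap B C g ∈ a.radical by
    obtain ⟨k, hk⟩ := h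
    refine ⟨k, ?_⟩
    rw [← IsScalarTower.algebraMap_smul C (g ^ k) x, map_pow]
    exact hk
  rw [Ideal.radical_eq_sInf, Ideal.mem_sInf]
  rintro p ⟨hap, hp⟩
  by_contra hgp
  haveI := hp
  obtain ⟨V, e, hV, σ, hσ, hunit⟩ :=
    exists_chart_retraction π hW g hg JC (IsAdicComplete.le_jacobson_bot JC) p hgp
  letI : Algebra B Γ(X, V) := (π.appLE W V e).hom.toAlgebra
  haveI : Algebra.FiniteType B Γ(X, V) := by
    have h := Scheme.Hom.finiteType_appLE π hW hV e
    rwa [RingHom.FiniteType] at h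
  let D := C ⊗[B] Γ(X, V)
  haveI : Algebra.FiniteType C D := Algebra.FiniteType.baseChange C
  haveI : IsNoetherianRing D := Algebra.FiniteType.isNoetherianRing C D
  let τ : D →+* Localization.AtPrime p :=
    σ.comp (Algebra.TensorProduct.comm B C Γ(X, V)).toRingEquiv.toRingHom
  have hτC : ∀ c : C, τ (algebraMap C D c) = algebraMap C _ c := fun c => by
    show σ ((Algebra.TensorProduct.comm B C Γ(X, V)) (c ⊗ₜ (1 : Γ(X, V)))) = _
    rw [Algebra.TensorProduct.comm_tmul]
    exact hσ c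
  have hτ1 : ∀ r ∈ JC.map (algebraMap C D), IsUnit (τ (1 - r)) := fun r hr => by
    show IsUnit (σ ((Algebra.TensorProduct.comm B C Γ(X, V)) (1 - r)))
    rw [map_sub, map_one]
    refine hunit _ ?_
    have h1 := Ideal.mem_map_of_mem (Algebra.TensorProduct.comm B C Γ(X, V)).toRingEquiv.toRingHom hr
    rw [Ideal.map_map] at h1
    refine (le_of_eq (congrArg (fun f => Ideal.map f JC) ?_)) h1
    ext c
    show (Algebra.TensorProduct.comm B C Γ(X, V)) (c ⊗ₜ (1 : Γ(X, V))) = (1 : Γ(X, V)) ⊗ₜ c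
    rw [Algebra.TensorProduct.comm_tmul]
  let P := D ⊗[C] L
  let y : P := (1 : D) ⊗ₜ x
  -- `y` lies in every power of the ideal
  let JD : Ideal D := JC.map (algebraMap C D)
  have hy : ∀ i : ℕ, y ∈ JD ^ i • (⊤ : Submodule D P) := by
    intro i
    rcases i with _ | n
    · simp
    let N : Submodule D P := JD ^ (n + 1) • ⊤
    let ρ : Γ(X, V) →+* D := Algebra.TensorProduct.includeRight.toRingHom
    let β : Γ(X, V) →ₗ[B] L →ₗ[B] P ⧸ N := LinearMap.mk₂ B
      (fun v l => N.mkQ (ρ v ⊗ₜ l))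
      (fun v v' l => by rw [map_add, TensorProduct.add_tmul, map_add])
      (fun b v l => by
        rw [← LinearMap.map_smul_of_tower]
        congr 1
        rw [← algebraMap_smul C b (ρ v ⊗ₜ[C] l), TensorProduct.smul_tmul', algebraMap_smul]
        exact congrArg (· ⊗ₜ[C] l) (map_smul (Algebra.TensorProduct.includeRight : Γ(X, V) →ₐ[B] D) b v))
      (fun v l l' => by rw [TensorProduct.tmul_add, map_add])
      (fun b v l => by
        rw [← LinearMap.map_smul_of_tower, ← algebraMap_smul C b l, ← algebraMap_smul C b (ρ v ⊗ₜ[C] l),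
          TensorProduct.tmul_smul])
    have hker : (TensorProduct.lift β) ((1 : Γ(X, V)) ⊗ₜ x) = 0 := by
      have hex : Function.Exact (LinearMap.ker (φ n)).subtype (φ n) := LinearMap.exact_subtype_ker_map (φ n)
      obtain ⟨z, hz⟩ := ((lTensor_exact Γ(X, V) hex (hφs n)) ((1 : Γ(X, V)) ⊗ₜ x)).1
        (by rw [LinearMap.lTensor_tmul]; exact hx V e hV n)
      rw [← hz]
      clear hz
      induction z using TensorProduct.induction_on with
      | zero => simp
      | add u w hu hw => rw [map_add, map_add, hu, hw, add_zero]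
      | tmul v l =>
        rw [LinearMap.lTensor_tmul, TensorProduct.lift.tmul]
        show N.mkQ (ρ v ⊗ₜ (l : L)) = 0
        rw [Submodule.mkQ_apply, Submodule.Quotient.mk_eq_zero]
        have hl : (l : L) ∈ J ^ (n + 1) • (⊤ : Submodule B L) := hφk n ▸ l.2
        generalize (l : L) = lv at hl ⊢
        refine Submodule.smul_induction_on hl (fun b hb w _ => ?_) fun a b ha hb => ?_
        · rw [← algebraMap_smul C b w, TensorProduct.tmul_smul, ← algebraMap_smul D (algebraMap B C b)]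
          refine Submodule.smul_mem_smul ?_ trivial
          rw [← Ideal.map_pow, ← Ideal.map_pow]
          exact Ideal.mem_map_of_mem _ (Ideal.mem_map_of_mem _ hb)
        · rw [TensorProduct.tmul_add]; exact add_mem ha hb
    rw [TensorProduct.lift.tmul] at hker
    have h1 : N.mkQ (ρ 1 ⊗ₜ x) = 0 := hker
    rw [map_one, Submodule.mkQ_apply, Submodule.Quotient.mk_eq_zero] at h1
    exact h1
  obtain ⟨r, hr⟩ := (JD.mem_iInf_smul_pow_eq_bot_iff y).1 (Submodule.mem_iInf _ |>.2 hy)
  -- evaluate in the local ring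
  let S := Localization.AtPrime p
  let Lp := LocalizedModule p.primeCompl L
  let Λ : P →ₗ[C] Lp := TensorProduct.lift (LinearMap.mk₂ C
    (fun (d : D) (l : L) => (τ d : S) • (LocalizedModule.mkLinearMap p.primeCompl L l))
    (fun d d' l => by rw [map_add, add_smul])
    (fun c d l => by rw [show c • d = algebraMap C D c * d from Algebra.smul_def c d, map_mul, hτC, mul_smul, algebraMap_smul])
    (fun d l l' => by rw [map_add, smul_add])
    (fun c d l => by rw [map_smul, smul_comm]))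
  have hΛ : ∀ d : D, Λ (d • y) = τ d • LocalizedModule.mkLinearMap p.primeCompl L x := fun d => by
    show Λ (d • ((1 : D) ⊗ₜ x)) = _
    rw [TensorProduct.smul_tmul', smul_eq_mul, mul_one, TensorProduct.lift.tmul]
    rfl
  have h0 : τ (1 - r.1) • LocalizedModule.mkLinearMap p.primeCompl L x = 0 := by
    rw [← hΛ]
    refine (congrArg Λ ((sub_smul (1 : D) r.1 y).trans ?_)).trans (map_zero Λ)
    rw [one_smul, hr, sub_self]
  have h1 : LocalizedModule.mk x (1 : p.primeCompl) = 0 := ((hτ1 r.1 r.2).smul_eq_zero).1 h0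
  obtain ⟨s, hs⟩ := LocalizedModule.mk_eq.1 (h1.trans (LocalizedModule.zero_mk (S := p.primeCompl) 1).symm)
  refine s.2 (hap ?_)
  show (s : C) • x = 0
  simpa [Submonoid.smul_def] using hs

variable {A : Type u} [CommRing A] {X Y : Scheme.{u}} [Y.Over (Spec (CommRingCat.of A))]

/-- A formal system mapping into the kernel of the unit of pullback and pushforward has image killed by a uniform
power of an ideal sheaf whose nonvanishing locus is where the morphism is an isomorphism. -/
theorem exists_uniform_kill [IsNoetherian Y] (π : X ⟶ Y) [IsProper π] {U : Y.Opens} [IsIso (π ∣_ U)]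
    (K : Y.IdealSheafData) (hK : ∀ (W : Y.affineOpens), ∀ g ∈ K.ideal W, Y.basicOpen g ≤ U) {I : Ideal A}
    {F T : ℕᵒᵖ ⥤ Y.Modules} (hF : Formal.IsCohFormal I F) (hT : Formal.IsCohFormal I T) (ψ : T ⟶ F)
    (hψ : ∀ n, ψ.app (op n) ≫ (Scheme.Modules.pullbackPushforwardAdjunction π).unit.app (F.obj (op n)) = 0) :
    ∃ t : ℕ, ∀ (n : ℕ) (W : Y.affineOpens) (a : Γ(Y, W.1)), a ∈ (K ^ t).ideal W →
      ∀ z : Γ(T.obj (op n), W.1), a • (ψ.app (op n)).app W.1 z = 0 := by
  classical
  have hloc : ∀ W : Y.affineOpens, ∃ t : ℕ, ∀ (n : ℕ), ∀ a ∈ K.ideal W ^ t, ∀ z : Γ(T.obj (op n), W.1),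
      a • (ψ.app (op n)).app W.1 z = 0 := by
    intro W
    haveI : IsNoetherianRing Γ(Y, W.1) := IsLocallyNoetherian.component_noetherian W
    let J : Ideal Γ(Y, W.1) := I.map (toSec A W.1)
    have hsys : ∀ {G : ℕᵒᵖ ⥤ Y.Modules}, Formal.IsCohFormal I G → ∀ n,
        Function.Surjective (secTrans G W.1 (Nat.le_succ n)) ∧
        LinearMap.ker (secTrans G W.1 (Nat.le_succ n)) =
          J ^ (n + 1) • (⊤ : Submodule Γ(Y, W.1) Γ(G.obj (op (n + 1)), W.1)) := fun {G} hG n =>
      ⟨(FormalFn.app_isQuot (hG.1 (n + 1)) (isQuot_map hG (Nat.le_succ n)) W.2).1, Submodule.ext fun z => by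
        rw [LinearMap.mem_ker, secTrans_eq_zero_iff hG W.2 (Nat.le_succ n), Ideal.map_pow]⟩
    haveI := (haveI := (hF.1 0).1; QCoh.moduleFinite_of_isFiniteType (F.obj (op 0)) (hF.1 0).2 W.2)
    haveI := (haveI := (hT.1 0).1; QCoh.moduleFinite_of_isFiniteType (T.obj (op 0)) (hT.1 0).2 W.2)
    obtain ⟨L, iL₁, iL₂, iL₃, iL₄, hLfin, φ, hφc, hφi, hφl, hφs, hφk⟩ :=
      exists_limit J (fun n => Γ(F.obj (op n), W.1)) (fun n => secTrans F W.1 (Nat.le_succ n))
        (fun n => (hsys hF n).1) (fun n => (hsys hF n).2)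
    obtain ⟨LT, iT₁, iT₂, iT₃, iT₄, -, φT, hφTc, -, -, hφTs, -⟩ :=
      exists_limit J (fun n => Γ(T.obj (op n), W.1)) (fun n => secTrans T W.1 (Nat.le_succ n))
        (fun n => (hsys hT n).1) (fun n => (hsys hT n).2)
    let C := AdicCompletion J Γ(Y, W.1)
    let A₀ : Ideal Γ(Y, W.1) :=
      { carrier := {a | ∀ (n : ℕ) (z : Γ(T.obj (op n), W.1)), a • (ψ.app (op n)).app W.1 z = 0}
        add_mem' := fun ha hb n z => by rw [add_smul, ha n z, hb n z, add_zero]
        zero_mem' := fun n z => zero_smul _ _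
        smul_mem' := fun r a ha n z => by rw [smul_eq_mul, mul_smul, ha n z, smul_zero] }
    suffices h : K.ideal W ≤ A₀.radical by
      obtain ⟨t, ht⟩ := Ideal.exists_pow_le_of_le_radical_of_fg h (IsNoetherian.noetherian _)
      exact ⟨t, fun n a ha z => ht ha n z⟩
    intro g hg
    -- bounded torsion in the limit
    let Z : ℕ →o Submodule C L :=
      ⟨fun k => LinearMap.ker (LinearMap.lsmul C L (algebraMap Γ(Y, W.1) C g ^ k)),
        monotone_nat_of_le_succ fun k s hs => by
          simp only [LinearMap.mem_ker, LinearMap.lsmul_apply] at hs ⊢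
          rw [pow_succ', mul_smul, hs, smul_zero]⟩
    obtain ⟨N, hN⟩ := monotone_stabilizes_iff_noetherian.2
      (isNoetherian_of_isNoetherianRing_of_finite C L) Z
    refine ⟨N, fun n z => ?_⟩
    obtain ⟨t, rfl⟩ := hφTs n z
    obtain ⟨x, hx⟩ := hφl (fun m => (ψ.app (op m)).app W.1 (φT m t)) fun m => by
      show secTrans F W.1 (Nat.le_succ m) ((ψ.app (op (m + 1))).app W.1 (φT (m + 1) t)) = _
      rw [← hφTc m t]
      exact congrArg (fun φ : T.obj (op (m + 1)) ⟶ F.obj (op m) => φ.app W.1 (φT (m + 1) t))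
        (ψ.naturality (homOfLE (Nat.le_succ m)).op).symm
    obtain ⟨k, hk⟩ := exists_pow_smul_eq_zero π W.2 g (hK W g hg) J (fun m => Γ(F.obj (op m), W.1))
      φ hφs hφk x fun V e hV m => by
        letI : Algebra Γ(Y, W.1) Γ(X, V) := (π.appLE W.1 V e).hom.toAlgebra
        haveI := (hF.1 m).1
        refine (QCoh.bijective_sectionsMap π (F.obj (op m)) e rfl W.2 hV).1 ?_
        rw [map_zero, QCoh.sectionsMap_tmul, one_smul, hx m]
        show ((Scheme.Modules.pullback π).obj (F.obj (op m))).presheaf.map (homOfLE e).op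
          (((ψ.app (op m)) ≫ (Scheme.Modules.pullbackPushforwardAdjunction π).unit.app (F.obj (op m))).app W.1
            (φT m t)) = 0
        rw [hψ]
        exact map_zero _
    have hmem : x ∈ Z (max N k) := Z.mono (le_max_right N k) (show x ∈ Z k by
      show (algebraMap Γ(Y, W.1) C g ^ k) • x = 0
      rw [← map_pow, IsScalarTower.algebraMap_smul]
      exact hk)
    rw [← hN _ (le_max_left N k)] at hmem
    have hg0 : g ^ N • x = 0 := by
      rw [← IsScalarTower.algebraMap_smul C (g ^ N) x, map_pow]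
      exact hmem
    rw [← hx n, ← map_smul, hg0, map_zero]
  choose tW htW using hloc
  obtain ⟨cov, hcov⟩ := isCompact_univ.elim_finite_subcover (fun W : Y.affineOpens => (W.1 : Set Y))
    (fun W => W.1.2) fun x _ => by
      obtain ⟨_, ⟨Z, hZ, rfl⟩, hx, -⟩ :=
        Y.isBasis_affineOpens.exists_subset_of_mem_open (Set.mem_univ x) isOpen_univ
      exact Set.mem_iUnion.2 ⟨⟨Z, hZ⟩, hx⟩
  refine ⟨cov.sup tW, fun n W a ha z => ?_⟩
  let P := Abelian.image (ψ.app (op n))
  have hP : Coh.IsCoh P := isCoh_kernel _ (hF.1 n) (isCoh_cokernel _ (hT.1 n) (hF.1 n))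
  haveI := hP.1
  have hle : K ^ cov.sup tW ≤ annIdeal P hP.2 := by
    refine Scheme.IdealSheafData.le_of_iSup_eq_top (fun V : cov => V.1) (top_le_iff.1 fun y _ => ?_) fun V => ?_
    · obtain ⟨V, hV, hy⟩ := Set.mem_iUnion₂.1 (hcov (Set.mem_univ y))
      exact Opens.mem_iSup.2 ⟨⟨V, hV⟩, hy⟩
    intro b hb
    rw [annIdeal_ideal, Module.mem_annihilator]
    intro w
    obtain ⟨z', rfl⟩ := app_surjective_of_epi (Abelian.factorThruImage (ψ.app (op n))) (hT.1 n) hP V.1.2 w
    refine Cohom.app_injective_of_mono (Abelian.image.ι (ψ.app (op n))) V.1.1 ?_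
    rw [map_zero, Scheme.Modules.Hom.app_smul]
    have hb' : b ∈ K.ideal V.1 ^ tW V.1 := by
      rw [Scheme.IdealSheafData.ideal_pow, Pi.pow_apply] at hb
      exact Ideal.pow_le_pow_right (Finset.le_sup V.2) hb
    refine Eq.trans (congrArg (b • ·) ?_) (htW V.1 n b hb' z')
    exact congrArg (fun φ : T.obj (op n) ⟶ F.obj (op n) => φ.app V.1.1 z') (Abelian.image.fac (ψ.app (op n)))
  have h1 : a • (Abelian.factorThruImage (ψ.app (op n))).app W.1 z = 0 :=
    killedByIdeal_annIdeal P hP.2 W a (hle W ha) _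
  have h2 := congrArg ((Abelian.image.ι (ψ.app (op n))).app W.1) h1
  rw [map_zero, Scheme.Modules.Hom.app_smul] at h2
  refine Eq.trans (congrArg (a • ·) ?_) h2
  exact (congrArg (fun φ : T.obj (op n) ⟶ F.obj (op n) => φ.app W.1 z) (Abelian.image.fac (ψ.app (op n)))).symm

end GrothLib.FormalExist7
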