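import Groth.Agent.Lib.FormalExist7.TrickyAux
import Groth.Agent.Lib.FormalExist7.Kernel
import Groth.Agent.Lib.FormalExist7.UniformAR

/-!
# Completion commutes with kernels
-/

set_option autoImplicit false
set_option linter.style.haveILetI false
universe u

open CategoryTheory CategoryTheory.Limits AlgebraicGeometry Opposite TopologicalSpace

namespace GrothLib.FormalExist7

open GrothLib.FormalSys GrothLib.FormalFun GrothLib.QCoh GrothLib.FormalCd7

variable {A : Type u} [CommRing A] {X : Scheme.{u}} [X.Over (Spec (CommRingCat.of A))]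

theorem stalkLin_trans_comp (G : ℕᵒᵖ ⥤ X.Modules) {p q n : ℕ} (h : p ≤ q) (h' : q ≤ n) (y : X)
    (v : (G.obj (op n)).presheaf.stalk y) :
    stalkLin (trans G h) y (stalkLin (trans G h') y v) = stalkLin (trans G (h.trans h')) y v := by
  rw [← stalkLin_comp (trans G h') (trans G h), trans_comp]

theorem stalkLin_qπ_trans (I : Ideal A) (M : X.Modules) {q n : ℕ} (h : q ≤ n) (y : X) (v : M.presheaf.stalk y) :
    stalkLin (trans (Formal.completion I M) h) y (stalkLin (qπ I M n) y v) = stalkLin (qπ I M q) y v := by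
  rw [← stalkLin_comp (qπ I M n)]
  exact congrArg (fun φ => stalkLin φ y v) (qπ_trans I M h)

theorem stalkLin_natural {F G : ℕᵒᵖ ⥤ X.Modules} (α : F ⟶ G) {q n : ℕ} (h : q ≤ n) (y : X)
    (v : (F.obj (op n)).presheaf.stalk y) :
    stalkLin (α.app (op q)) y (stalkLin (trans F h) y v) = stalkLin (trans G h) y (stalkLin (α.app (op n)) y v) := by
  rw [← stalkLin_comp, ← stalkLin_comp, α.naturality]

/-- A map into a completion killed by the completion of a morphism factors through the completion of the kernel,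
in a way described on representatives a fixed number of levels up. -/
theorem exists_kernel_factor [IsNoetherian X] {I : Ideal A} {F : ℕᵒᵖ ⥤ X.Modules} (hF : Formal.IsCohFormal I F)
    {M N : X.Modules} (hM : Coh.IsCoh M) (hN : Coh.IsCoh N) (φ : M ⟶ N) (α : F ⟶ Formal.completion I M)
    (h : α ≫ cmap I φ = 0) :
    ∃ (γ : F ⟶ Formal.completion I (kernel φ)) (e : ℕ), γ ≫ cmap I (kernel.ι φ) = α ∧
      ∀ (n : ℕ) (y : X) (x : (F.obj (op (n + e))).presheaf.stalk y) (m : (kernel φ).presheaf.stalk y),
        stalkLin (qπ I M (n + e)) y (stalkLin (kernel.ι φ) y m) = stalkLin (α.app (op (n + e))) y x →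
        stalkLin (γ.app (op n)) y (stalkLin (trans F (Nat.le_add_right n e)) y x) =
          stalkLin (qπ I (kernel φ) n) y m := by
  have hK : Coh.IsCoh (kernel φ) := isCoh_kernel φ hM hN
  obtain ⟨e, he⟩ := exists_uniform_ar I hK hM (kernel.ι φ)
  obtain ⟨d, hd⟩ := exists_uniform_ar I hM hN φ
  have hKc : ∀ n, Formal.KilledBy (I ^ (n + 1)) ((Formal.completion I (kernel φ)).obj (op n)) := fun n =>
    (isQuot_qπ I (kernel φ) n).killedBy
  let u : ∀ n, kernel φ ⟶ (Formal.completion I M).obj (op (n + e)) := fun n => kernel.ι φ ≫ qπ I M (n + e)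
  let β : ∀ n, F.obj (op (n + e + d)) ⟶ (Formal.completion I M).obj (op (n + e)) := fun n =>
    α.app (op (n + e + d)) ≫ trans (Formal.completion I M) (Nat.le_add_right (n + e) d)
  have hlift : ∀ (n : ℕ) (y : X) (x : (F.obj (op (n + e + d))).presheaf.stalk y),
      ∃ m : (kernel φ).presheaf.stalk y, stalkLin (u n) y m = stalkLin (β n) y x := by
    intro n y x
    haveI := (isQuot_qπ I M (n + e + d)).epi
    obtain ⟨g, hg⟩ := stalkLin_surjective (qπ I M (n + e + d)) y (stalkLin (α.app (op (n + e + d))) y x)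
    have h1 : stalkLin φ y g ∈ LinearMap.ker (stalkLin (qπ I N (n + e + d)) y) := by
      rw [LinearMap.mem_ker, ← stalkLin_comp, ← qπ_cmap, stalkLin_comp, hg, ← stalkLin_comp,
        show α.app (op (n + e + d)) ≫ (cmap I φ).app (op (n + e + d)) = 0 from
          congrArg (fun z => z.app (op (n + e + d))) h, stalkLin_zero]
    rw [ker_stalkLin_of_isQuot (isQuot_qπ I N _)] at h1
    obtain ⟨k, hk, z, hz, rfl⟩ := Submodule.mem_sup.1 (hd (n + e + d + 1) (by omega) y g h1)
    obtain ⟨m, rfl⟩ := exists_kernel_preimage φ y (LinearMap.mem_ker.1 hk)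
    refine ⟨m, ?_⟩
    rw [stalkLin_comp, stalkLin_comp, ← hg, stalkLin_qπ_trans, map_add,
      show stalkLin (qπ I M (n + e)) y z = 0 from LinearMap.mem_ker.1 (by
        rw [ker_stalkLin_of_isQuot (isQuot_qπ I M (n + e))]
        exact Submodule.smul_mono_left (Ideal.map_mono (Ideal.pow_le_pow_right (by omega))) hz), add_zero]
  have hβ : ∀ n, β n ≫ cokernel.π (u n) = 0 := fun n => hom_ext_stalkLin fun y x => by
    obtain ⟨m, hm⟩ := hlift n y x
    rw [stalkLin_comp, ← hm, ← stalkLin_comp, cokernel.condition, stalkLin_zero, stalkLin_zero]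
  have hdesc : ∀ n, kernel.ι (Abelian.factorThruImage (u n)) ≫ qπ I (kernel φ) n = 0 := fun n =>
    hom_ext_stalkLin fun y v => by
      have h1 : stalkLin (kernel.ι φ) y (stalkLin (kernel.ι (Abelian.factorThruImage (u n))) y v) ∈
          LinearMap.ker (stalkLin (qπ I M (n + e)) y) := by
        rw [LinearMap.mem_ker, ← stalkLin_comp (kernel.ι φ), ← stalkLin_comp (kernel.ι (Abelian.factorThruImage (u n)))]
        show stalkLin (kernel.ι (Abelian.factorThruImage (u n)) ≫ u n) y v = 0
        conv_lhs => rw [stalkLin_comp]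
        rw [show stalkLin (u n) y (stalkLin (kernel.ι (Abelian.factorThruImage (u n))) y v) =
            stalkLin (Abelian.image.ι (u n)) y (stalkLin (Abelian.factorThruImage (u n)) y
              (stalkLin (kernel.ι (Abelian.factorThruImage (u n))) y v)) by
          rw [← stalkLin_comp (Abelian.factorThruImage (u n)), Abelian.image.fac]]
        rw [← stalkLin_comp (kernel.ι (Abelian.factorThruImage (u n))), kernel.condition, stalkLin_zero, map_zero]
      rw [ker_stalkLin_of_isQuot (isQuot_qπ I M (n + e))] at h1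
      obtain ⟨k, hk, z, hz, hkz⟩ := Submodule.mem_sup.1 (he (n + e + 1) (by omega) y _ h1)
      rw [show k = 0 from stalkLin_injective (kernel.ι φ) y ((LinearMap.mem_ker.1 hk).trans (map_zero _).symm),
        zero_add] at hkz
      rw [stalkLin_comp, stalkLin_zero, ← hkz, ← LinearMap.mem_ker, ker_stalkLin_of_isQuot (isQuot_qπ I (kernel φ) n)]
      exact Submodule.smul_mono_left (Ideal.map_mono (Ideal.pow_le_pow_right (by omega))) hz
  let ξ : ∀ n, F.obj (op (n + e + d)) ⟶ (Formal.completion I (kernel φ)).obj (op n) := fun n =>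
    kernel.lift _ (β n) (hβ n) ≫ Abelian.epiDesc (Abelian.factorThruImage (u n)) (qπ I (kernel φ) n) (hdesc n)
  have hξ : ∀ (n : ℕ) (y : X) (x : (F.obj (op (n + e + d))).presheaf.stalk y) (m : (kernel φ).presheaf.stalk y),
      stalkLin (u n) y m = stalkLin (β n) y x → stalkLin (ξ n) y x = stalkLin (qπ I (kernel φ) n) y m := by
    intro n y x m hm
    have h1 : stalkLin (kernel.lift _ (β n) (hβ n)) y x = stalkLin (Abelian.factorThruImage (u n)) y m :=
      stalkLin_injective (Abelian.image.ι (u n)) y (by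
        rw [← stalkLin_comp (Abelian.factorThruImage (u n)), Abelian.image.fac, hm,
          ← stalkLin_comp (kernel.lift _ (β n) (hβ n))]
        exact congrArg (fun t => stalkLin t y x) (kernel.lift_ι _ _ _))
    rw [stalkLin_comp, h1, ← stalkLin_comp, Abelian.comp_epiDesc]
  choose γ₀ hγ₀ using fun n =>
    (isQuot_map hF (show n ≤ n + e + d by omega)).exists_desc' (ξ n) (hKc n)
  have hchar : ∀ (n : ℕ) (y : X) (x : (F.obj (op (n + e))).presheaf.stalk y) (m : (kernel φ).presheaf.stalk y),
      stalkLin (qπ I M (n + e)) y (stalkLin (kernel.ι φ) y m) = stalkLin (α.app (op (n + e))) y x →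
      stalkLin (γ₀ n) y (stalkLin (trans F (Nat.le_add_right n e)) y x) = stalkLin (qπ I (kernel φ) n) y m := by
    intro n y x m hm
    haveI := (isQuot_map hF (Nat.le_add_right (n + e) d)).epi
    obtain ⟨x', rfl⟩ := stalkLin_surjective (trans F (Nat.le_add_right (n + e) d)) y x
    rw [stalkLin_trans_comp, ← stalkLin_comp, hγ₀]
    refine hξ n y x' m ?_
    rw [stalkLin_comp, hm, stalkLin_natural α, ← stalkLin_comp]
  have hrep : ∀ (n : ℕ) (y : X) (x : (F.obj (op n)).presheaf.stalk y),
      ∃ (x' : (F.obj (op (n + e))).presheaf.stalk y) (m : (kernel φ).presheaf.stalk y),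
        stalkLin (trans F (Nat.le_add_right n e)) y x' = x ∧
        stalkLin (qπ I M (n + e)) y (stalkLin (kernel.ι φ) y m) = stalkLin (α.app (op (n + e))) y x' := by
    intro n y x
    haveI := (isQuot_map hF (show n ≤ n + e + d by omega)).epi
    obtain ⟨x'', rfl⟩ := stalkLin_surjective (trans F (show n ≤ n + e + d by omega)) y x
    obtain ⟨m, hm⟩ := hlift n y x''
    refine ⟨stalkLin (trans F (Nat.le_add_right (n + e) d)) y x'', m, stalkLin_trans_comp _ _ _ y _, ?_⟩
    rw [stalkLin_natural α, ← stalkLin_comp (kernel.ι φ), hm, stalkLin_comp]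
  let γ : F ⟶ Formal.completion I (kernel φ) := natTrans γ₀ fun n => hom_ext_stalkLin fun y x => by
    obtain ⟨x', m, rfl, hm⟩ := hrep (n + 1) y x
    rw [stalkLin_comp, stalkLin_comp, hchar (n + 1) y x' m hm]
    have h2 : stalkLin (trans F (Nat.le_succ n)) y (stalkLin (trans F (Nat.le_add_right (n + 1) e)) y x') =
        stalkLin (trans F (Nat.le_add_right n e)) y
          (stalkLin (trans F (show n + e ≤ n + 1 + e by omega)) y x') := by
      rw [stalkLin_trans_comp, stalkLin_trans_comp]
    have h3 : stalkLin (qπ I M (n + e)) y (stalkLin (kernel.ι φ) y m) =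
        stalkLin (α.app (op (n + e))) y (stalkLin (trans F (show n + e ≤ n + 1 + e by omega)) y x') := by
      rw [stalkLin_natural α, ← hm, stalkLin_qπ_trans]
    exact (congrArg (stalkLin (γ₀ n) y) h2).trans ((hchar n y _ m h3).trans
      (stalkLin_qπ_trans I (kernel φ) (Nat.le_succ n) y m).symm)
  refine ⟨γ, e, ?_, hchar⟩
  ext k : 2
  obtain ⟨n, rfl⟩ : ∃ n, k = op n := ⟨k.unop, rfl⟩
  refine hom_ext_stalkLin fun y x => ?_
  obtain ⟨x', m, rfl, hm⟩ := hrep n y x
  show stalkLin (γ₀ n ≫ (cmap I (kernel.ι φ)).app (op n)) y _ = _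
  rw [stalkLin_comp, hchar n y x' m hm, ← stalkLin_comp, qπ_cmap, stalkLin_comp, stalkLin_natural α, ← hm,
    stalkLin_qπ_trans]

end GrothLib.FormalExist7
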