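import Groth.Agent.Lib.FormalExist7.Levels

/-!
# Algebraization of morphisms
-/

set_option autoImplicit false
set_option linter.style.haveILetI false
set_option linter.unusedSectionVars false
universe u

open CategoryTheory CategoryTheory.Limits AlgebraicGeometry Opposite TopologicalSpace

namespace GrothLib.FormalExist7

variable {A : Type u} [CommRing A] [IsNoetherianRing A] (I : Ideal A) [IsAdicComplete I A]

/-- A proper morphism over `A` through which all thickenings factor as base changes is an isomorphism. -/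
theorem isIso_of_thick {X W : Scheme.{u}} (f : X ⟶ Spec (CommRingCat.of A)) [IsProper f] (q : W ⟶ X) [IsProper q]
    (w : ∀ n, CohB1.thick f I n ⟶ W)
    (hw : ∀ n, IsPullback (w n) (𝟙 _) q (CohB1.thickι f I n)) : IsIso q := by
  have hq : ∀ n, w n ≫ q = CohB1.thickι f I n := fun n => (hw n).w.trans (Category.id_comp _)
  let p₁ := pullback.fst q q
  let p₂ := pullback.snd q q
  let fP := p₁ ≫ q ≫ f
  haveI : IsProper fP := inferInstanceAs (IsProper (pullback.fst q q ≫ q ≫ f))
  have hp : p₁ = p₂ := by
    refine eq_of_forall_thick I fP (q ≫ f) p₁ p₂ rfl ?_ fun n => ?_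
    · rw [← Category.assoc, ← pullback.condition, Category.assoc]
    let j := CohB1.thickι fP I n
    let u : CohB1.thick fP I n ⟶ CohB1.thick f I n :=
      pullback.map fP (CohB1.specQuot I n) f (CohB1.specQuot I n) (p₁ ≫ q) (𝟙 _) (𝟙 _)
        (by simp [fP]) (by simp)
    have hu : u ≫ CohB1.thickι f I n = j ≫ p₁ ≫ q := pullback.lift_fst _ _ _
    have h₁ : (j ≫ p₁) ≫ q = u ≫ CohB1.thickι f I n := (Category.assoc _ _ _).trans hu.symm
    have h₂ : (j ≫ p₂) ≫ q = u ≫ CohB1.thickι f I n := by
      rw [hu, Category.assoc]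
      exact congrArg (j ≫ ·) pullback.condition.symm
    have e₁ := (hw n).lift_fst (j ≫ p₁) u h₁
    have e₂ := (hw n).lift_fst (j ≫ p₂) u h₂
    have f₁ : (hw n).lift (j ≫ p₁) u h₁ = u := (Category.comp_id _).symm.trans ((hw n).lift_snd _ _ _)
    have f₂ : (hw n).lift (j ≫ p₂) u h₂ = u := (Category.comp_id _).symm.trans ((hw n).lift_snd _ _ _)
    rw [f₁] at e₁
    rw [f₂] at e₂
    exact e₁.symm.trans e₂
  haveI : Mono q := ⟨fun a b hab => by
    exact (pullback.lift_fst a b hab).symm.trans
      ((congrArg (pullback.lift a b hab ≫ ·) hp).trans (pullback.lift_snd a b hab))⟩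
  haveI : IsClosedImmersion q := (IsClosedImmersion.iff_isProper_and_mono q).2 ⟨inferInstance, inferInstance⟩
  letI : X.Over (Spec (CommRingCat.of A)) := ⟨f⟩
  haveI : IsProper (X ↘ Spec (CommRingCat.of A)) := ‹IsProper f›
  haveI := SerreVanish.isNoetherian_of_proper (X := X) A
  have hle : ∀ n, q.ker ≤ baseIdeal X (I ^ (n + 1)) := fun n => by
    refine (Scheme.Hom.le_ker_comp (w n) q).trans ?_
    rw [hq, ker_thickι]
    exact le_rfl
  have hbot : q.ker = ⊥ := by
    refine eq_bot_of_vanishOpens (Opens.ext ?_)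
    show (vanishOpens q.ker : Set X) = Set.univ
    by_contra hne
    obtain ⟨y, hy, hyc⟩ := (vanishOpens q.ker).isOpen.isClosed_compl.exists_closed_singleton
      (Set.nonempty_compl.2 hne)
    obtain ⟨U, hyU, hU⟩ := exists_ideal_eq_bot q.ker I
      (le_asIdeal_of_closed_singleton I (isProperOver_of_isClosed (Z := Set.univ) isClosed_univ) (Set.mem_univ y) hyc)
      fun n => GrothLib.DivPart.stalkIdeal_mono (hle n) y
    exact hy (le_vanishOpens_of_ideal_eq_bot hU hyU)
  exact IsClosedImmersion.isIso_of_ker_eq q (𝟙 X) q (Category.comp_id _)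
    (hbot.trans (Scheme.Hom.ker_eq_bot_of_isIso (𝟙 X)).symm)

/-- A compatible system of morphisms between the thickenings comes from a morphism. -/
theorem exists_hom_of_thick {X Y : Scheme.{u}} (f : X ⟶ Spec (CommRingCat.of A))
    (h : Y ⟶ Spec (CommRingCat.of A)) [IsProper f] [IsSeparated h] [LocallyOfFiniteType h]
    [QuasiCompact h] (g : (n : ℕ) → (CohB1.thick f I n ⟶ CohB1.thick h I n))
    (hg₁ : ∀ n, g n ≫ CohB1.thickToBase h I n = CohB1.thickToBase f I n)
    (hg₂ : ∀ n, CohB1.thickTrans f I n ≫ g (n + 1) = g n ≫ CohB1.thickTrans h I n) :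
    ∃ φ : X ⟶ Y, φ ≫ h = f ∧ ∀ n, CohB1.thickι f I n ≫ φ = g n ≫ CohB1.thickι h I n := by
  let fP := pullback.fst f h ≫ f
  haveI : LocallyOfFiniteType fP := inferInstanceAs (LocallyOfFiniteType (pullback.fst f h ≫ f))
  haveI : IsSeparated fP := inferInstanceAs (IsSeparated (pullback.fst f h ≫ f))
  haveI : QuasiCompact fP := inferInstanceAs (QuasiCompact (pullback.fst f h ≫ f))
  haveI := isClosedImmersion_specQuot I
  have hcond : ∀ n, CohB1.thickι f I n ≫ f = (g n ≫ CohB1.thickι h I n) ≫ h := fun n => by
    rw [Category.assoc, show CohB1.thickι h I n ≫ h = CohB1.thickToBase h I n ≫ CohB1.specQuot I n from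
      pullback.condition, ← Category.assoc, hg₁]
    exact pullback.condition
  let z : ∀ n, CohB1.thick f I n ⟶ CohB1.thick fP I n := fun n =>
    pullback.lift (pullback.lift (CohB1.thickι f I n) (g n ≫ CohB1.thickι h I n) (hcond n)) (CohB1.thickToBase f I n)
      (by rw [← Category.assoc, pullback.lift_fst]; exact pullback.condition)
  have hzι : ∀ n, z n ≫ CohB1.thickι fP I n = pullback.lift (CohB1.thickι f I n) (g n ≫ CohB1.thickι h I n) (hcond n) :=
    fun n => pullback.lift_fst _ _ _
  have hzf : ∀ n, z n ≫ CohB1.thickι fP I n ≫ pullback.fst f h = CohB1.thickι f I n := fun n => by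
    rw [reassoc_of% (hzι n), pullback.lift_fst]
  have hz : ∀ n, IsClosedImmersion (z n) := fun n => by
    haveI : IsClosedImmersion (z n ≫ CohB1.thickι fP I n ≫ pullback.fst f h) := by
      rw [hzf]; exact isClosedImmersion_thickι f I n
    haveI := isClosedImmersion_thickι fP I n
    exact IsClosedImmersion.of_comp (z n) (CohB1.thickι fP I n ≫ pullback.fst f h)
  haveI := isClosedImmersion_thickι fP I
  haveI := isClosedImmersion_thickι f I
  have hnat : ∀ n, CohB1.thickTrans f I n ≫ z (n + 1) = z n ≫ CohB1.thickTrans fP I n := fun n => by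
    rw [← cancel_mono (CohB1.thickι fP I (n + 1)), Category.assoc, Category.assoc, thickTrans_thickι, hzι, hzι]
    apply pullback.hom_ext
    · rw [Category.assoc, pullback.lift_fst, pullback.lift_fst, thickTrans_thickι]
    · rw [Category.assoc, pullback.lift_snd, pullback.lift_snd, ← Category.assoc, hg₂, Category.assoc,
        thickTrans_thickι]
  have ht : ∀ n, IsPullback (CohB1.thickTrans f I n) (z n) (z (n + 1)) (CohB1.thickTrans fP I n) := fun n => by
    haveI : Mono (z n) := inferInstance
    refine IsPullback.of_isLimit' ⟨hnat n⟩ ?_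
    have hc : ∀ s : PullbackCone (z (n + 1)) (CohB1.thickTrans fP I n),
        (s.fst ≫ CohB1.thickι f I (n + 1)) ≫ f = (s.snd ≫ CohB1.thickToBase fP I n) ≫ CohB1.specQuot I n := fun s => by
      rw [← hzf (n + 1), ← Category.assoc, ← Category.assoc, s.condition]
      rw [Category.assoc s.snd, thickTrans_thickι, Category.assoc, Category.assoc, Category.assoc]
      exact congrArg (s.snd ≫ ·) pullback.condition
    refine PullbackCone.IsLimit.mk _ (fun s => pullback.lift (s.fst ≫ CohB1.thickι f I (n + 1))
      (s.snd ≫ CohB1.thickToBase fP I n) (hc s)) (fun s => ?_) (fun s => ?_) (fun s m _ hm₂ => ?_)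
    · rw [← cancel_mono (CohB1.thickι f I (n + 1)), Category.assoc, thickTrans_thickι]
      exact pullback.lift_fst _ _ _
    · haveI : Mono (CohB1.thickTrans fP I n) :=
        mono_of_mono_fac (thickTrans_thickι fP I n)
      rw [← cancel_mono (CohB1.thickTrans fP I n), Category.assoc, ← hnat, ← s.condition, ← Category.assoc]
      congr 1
      rw [← cancel_mono (CohB1.thickι f I (n + 1)), Category.assoc, thickTrans_thickι]
      exact pullback.lift_fst _ _ _
    · rw [← cancel_mono (z n), hm₂]
      haveI : Mono (CohB1.thickTrans fP I n) := mono_of_mono_fac (thickTrans_thickι fP I n)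
      rw [← cancel_mono (CohB1.thickTrans fP I n), Category.assoc, ← hnat, ← s.condition, ← Category.assoc]
      congr 1
      rw [← cancel_mono (CohB1.thickι f I (n + 1)), Category.assoc, thickTrans_thickι]
      exact (pullback.lift_fst _ _ _).symm
  have hp : IsProper (z 0 ≫ CohB1.thickToBase fP I 0) := by
    rw [show z 0 ≫ CohB1.thickToBase fP I 0 = CohB1.thickToBase f I 0 from pullback.lift_snd _ _ _]
    exact inferInstanceAs (IsProper (pullback.snd f (CohB1.specQuot I 0)))
  obtain ⟨W, i, w, _, hip, -, hpb⟩ := exists_closed_algebraization fP I z (CohB1.thickTrans f I) hz ht hp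
  let q := i ≫ pullback.fst f h
  haveI : IsProper (q ≫ f) := by rw [Category.assoc]; exact hip
  haveI : IsProper q := IsProper.of_comp q f
  have hwq : ∀ n, w n ≫ q = CohB1.thickι f I n := fun n => by
    rw [← Category.assoc, (hpb n).w, Category.assoc, hzf]
  haveI : IsIso q := isIso_of_thick I f q w fun n => by
    refine IsPullback.of_isLimit' ⟨(hwq n).trans (Category.id_comp _).symm⟩ ?_
    refine PullbackCone.IsLimit.mk _ (fun s => s.snd) (fun s => ?_) (fun s => Category.comp_id _)
      (fun s m _ hm₂ => (Category.comp_id m).symm.trans hm₂)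
    -- the point of `W` is determined by its image in `X`
    have hP : ∀ (T : Scheme.{u}) (a : T ⟶ W) (b : T ⟶ CohB1.thick f I n),
        a ≫ q = b ≫ CohB1.thickι f I n → a = b ≫ w n := fun T a b hab => by
      have hb : (a ≫ i) ≫ fP = (b ≫ CohB1.thickToBase f I n) ≫ CohB1.specQuot I n := by
        rw [show (a ≫ i) ≫ fP = (a ≫ q) ≫ f by simp only [fP, q, Category.assoc], hab, Category.assoc, Category.assoc]
        exact congrArg (b ≫ ·) pullback.condition
      let b' : T ⟶ CohB1.thick fP I n := pullback.lift (a ≫ i) (b ≫ CohB1.thickToBase f I n) hb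
      have hc : a ≫ i = b' ≫ CohB1.thickι fP I n := (pullback.lift_fst _ _ _).symm
      let m := (hpb n).lift a b' hc
      have h1 : m ≫ w n = a := (hpb n).lift_fst _ _ _
      have h2 : m = b := by
        rw [← cancel_mono (CohB1.thickι f I n), ← hwq, ← Category.assoc, h1, hab]
        rw [hwq]
      rw [← h1, h2]
    exact (hP _ s.fst s.snd s.condition).symm
  refine ⟨inv q ≫ i ≫ pullback.snd f h, ?_, fun n => ?_⟩
  · simp only [Category.assoc, ← pullback.condition]
    rw [show i ≫ pullback.fst f h ≫ f = q ≫ f from (Category.assoc _ _ _).symm, IsIso.inv_hom_id_assoc]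
  · rw [← hwq, Category.assoc, IsIso.hom_inv_id_assoc, reassoc_of% (hpb n).w, reassoc_of% (hzι n), pullback.lift_snd]

end GrothLib.FormalExist7
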