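import Groth.Agent.Lib.FormalExist7.Ample
import Groth.Agent.Lib.FormalExist7.PushTwist
import Groth.Agent.Lib.FormalExist7.KerUniform
import Groth.Agent.Lib.FormalExist7.KernelFactor
import Groth.Agent.Lib.FormalExist7.Tricky
import Groth.Agent.Lib.Ample.ProjAmple
import Groth.Agent.Lib.Ample.RelAmple
import Groth.Agent.Lib.ProjSp.OverAffine
import Groth.Agent.Lib.Chow.Projective
import Groth.Agent.Lib.K0Sub.Dev

/-!
# Grothendieck existence on proper schemes
-/

set_option autoImplicit false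
set_option linter.style.haveILetI false
universe u

open CategoryTheory CategoryTheory.Limits AlgebraicGeometry Opposite TopologicalSpace

namespace GrothLib.FormalExist7

open GrothLib.FormalSys GrothLib.FormalFun GrothLib.QCoh GrothLib.FormalCd7
open GrothLib.Ample (Cocycle)

variable {A : Type u} [CommRing A] [IsNoetherianRing A]

/-- Existence for a principal ideal on a scheme over `A`. -/
def PrincipalExists (f : A) {Z : Scheme.{u}} (g : Z ⟶ Spec (CommRingCat.of A)) : Prop :=
  letI : Z.Over (Spec (CommRingCat.of A)) := ⟨g⟩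
  ∀ G : ℕᵒᵖ ⥤ Z.Modules, Formal.IsCohFormal (Ideal.span {f}) G →
    ∃ M : Z.Modules, Coh.IsCoh M ∧ Nonempty (Formal.completion (Ideal.span {f}) M ≅ G)

variable {f : A} {Y : Scheme.{u}} [Y.Over (Spec (CommRingCat.of A))] [IsProper (Y ↘ Spec (CommRingCat.of A))]

/-- Systems killed by an ideal sheaf algebraise if systems on its subscheme do. -/
theorem exists_of_killed [IsNoetherian Y] (L : Y.IdealSheafData)
    (hL : PrincipalExists f (L.subschemeι ≫ (Y ↘ Spec (CommRingCat.of A)))) {G : ℕᵒᵖ ⥤ Y.Modules}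
    (hG : Formal.IsCohFormal (Ideal.span {f}) G) (hk : ∀ n : ℕ, ClSub.KilledByIdeal L (G.obj (op n))) :
    ∃ M : Y.Modules, Coh.IsCoh M ∧ ClSub.KilledByIdeal L M ∧
      Nonempty (Formal.completion (Ideal.span {f}) M ≅ G) := by
  let i := L.subschemeι
  letI : L.subscheme.Over (Spec (CommRingCat.of A)) := ⟨i ≫ (Y ↘ Spec (CommRingCat.of A))⟩
  have hi : (L.subscheme ↘ Spec (CommRingCat.of A)) = i ≫ (Y ↘ Spec (CommRingCat.of A)) := rfl
  haveI : IsLocallyNoetherian L.subscheme := LocallyOfFiniteType.isLocallyNoetherian i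
  obtain ⟨MZ, hMZ, ⟨ζ⟩⟩ := hL _ (isCohFormal_pullback i hi.symm hG)
  have hP : Coh.IsCoh ((Scheme.Modules.pushforward i).obj MZ) := _root_.GrothLib.K0Sub.isCoh_push i hMZ
  haveI := fun n => isIso_toModIdeal L (hG.1 n) (hk n)
  let q : ∀ n, MZ ⟶ (Scheme.Modules.pullback i).obj (G.obj (op n)) := fun n =>
    qπ (Ideal.span {f}) MZ n ≫ ζ.hom.app (op n)
  refine ⟨_, hP, ?_, exists_completion_iso
    (fun n => (Scheme.Modules.pushforward i).map (q n) ≫ inv ((toModIdeal L).app (G.obj (op n)))) (fun n => ?_) fun n => ?_⟩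
  · have h := K0Sub.killedByIdeal_push i MZ
    rw [Scheme.IdealSheafData.ker_subschemeι] at h
    exact h
  · exact (FormalFn.isQuot_push i hi hMZ ((isCohFormal_pullback i hi.symm hG).1 n)
      ((isQuot_qπ _ MZ n).comp_isIso _) hP).comp_isIso _
  · have h1 : q (n + 1) ≫ (Scheme.Modules.pullback i).map (G.map (homOfLE (Nat.le_succ n)).op) = q n := by
      show (qπ (Ideal.span {f}) MZ (n + 1) ≫ ζ.hom.app (op (n + 1))) ≫
        (G ⋙ Scheme.Modules.pullback i).map (homOfLE (Nat.le_succ n)).op = _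
      rw [Category.assoc, ← ζ.hom.naturality, ← Category.assoc, qπ_trans]
    have h2 := (toModIdeal L).naturality (G.map (homOfLE (Nat.le_succ n)).op)
    rw [Category.assoc, ← cancel_mono ((toModIdeal L).app (G.obj (op n)))]
    simp only [Category.assoc, IsIso.inv_hom_id, Category.comp_id]
    rw [show G.map (homOfLE (Nat.le_succ n)).op ≫ (toModIdeal L).app (G.obj (op n)) =
      (toModIdeal L).app (G.obj (op (n + 1))) ≫ (modIdeal L).map (G.map (homOfLE (Nat.le_succ n)).op) from h2,
      IsIso.inv_hom_id_assoc]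
    show (Scheme.Modules.pushforward i).map _ ≫ (Scheme.Modules.pushforward i).map _ = _
    rw [← Functor.map_comp, h1]

/-- A coherent formal module on a proper scheme maps to a completion, with formal submodules of the kernel killed
by powers of an ideal sheaf defining the complement of an open over which a projective modification is an
isomorphism. -/
theorem exists_injection [IsAdicComplete (Ideal.span {f}) A] [IsNoetherian Y] {X : Scheme.{u}}
    [X.Over (Spec (CommRingCat.of A))] [IsProper (X ↘ Spec (CommRingCat.of A))] (π : X ⟶ Y)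
    (hπ : π ≫ (Y ↘ Spec (CommRingCat.of A)) = X ↘ Spec (CommRingCat.of A)) [IsProper π]
    {L : X.Modules} (hL : CohB1.IsAmple L) {U : Y.Opens} [IsIso (π ∣_ U)] (K : Y.IdealSheafData)
    (hK : ∀ (W : Y.affineOpens), ∀ g ∈ K.ideal W, Y.basicOpen g ≤ U) {F : ℕᵒᵖ ⥤ Y.Modules}
    (hF : Formal.IsCohFormal (Ideal.span {f}) F) :
    ∃ (H : Y.Modules) (_ : Coh.IsCoh H) (α : F ⟶ Formal.completion (Ideal.span {f}) H),
      ∀ T : ℕᵒᵖ ⥤ Y.Modules, Formal.IsCohFormal (Ideal.span {f}) T → ∀ ψ : T ⟶ F, ψ ≫ α = 0 →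
        ∃ t : ℕ, ∀ (n : ℕ) (W : Y.affineOpens) (a : Γ(Y, W.1)), a ∈ (K ^ t).ideal W →
          ∀ z : Γ(T.obj (op n), W.1), a • (ψ.app (op n)).app W.1 z = 0 := by
  haveI := SerreVanish.isNoetherian_of_proper (X := X) A
  obtain ⟨c, ⟨e⟩⟩ := Ample.exists_cocycle hL.1
  have hc := ((c.isAmple_iff e).1 hL).2
  obtain ⟨M, hM, ⟨η⟩⟩ := existence_of_isAmple hL (Ideal.span {f}) _ (isCohFormal_pullback π hπ hF)
  obtain ⟨H, hH, α, hα, -⟩ := exists_alpha π hπ hc hF hM η
  refine ⟨H, hH, α, fun T hT ψ hψ => exists_uniform_kill π K hK hF hT ψ fun n => ?_⟩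
  have h0 : ψ.app (op n) ≫ α.app (op n) = 0 := congrArg (fun z => z.app (op n)) hψ
  rw [← kernel.lift_ι (α.app (op n)) (ψ.app (op n)) h0, Category.assoc, hα n, comp_zero]

/-- The inductive step: existence on a proper scheme follows from existence on the closed subschemes supported
in the complement of an open over which a projective modification is an isomorphism. -/
theorem existence_step [IsAdicComplete (Ideal.span {f}) A] [IsNoetherian Y] {X : Scheme.{u}}
    [X.Over (Spec (CommRingCat.of A))] [IsProper (X ↘ Spec (CommRingCat.of A))] (π : X ⟶ Y)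
    (hπ : π ≫ (Y ↘ Spec (CommRingCat.of A)) = X ↘ Spec (CommRingCat.of A)) [IsProper π]
    {L : X.Modules} (hL : CohB1.IsAmple L) {U : Y.Opens} [IsIso (π ∣_ U)] (K : Y.IdealSheafData)
    (hK : ∀ (W : Y.affineOpens), ∀ g ∈ K.ideal W, Y.basicOpen g ≤ U)
    (hsub : ∀ e : ℕ, PrincipalExists f ((K ^ e).subschemeι ≫ (Y ↘ Spec (CommRingCat.of A))))
    {F : ℕᵒᵖ ⥤ Y.Modules} (hF : Formal.IsCohFormal (Ideal.span {f}) F) :
    ∃ M : Y.Modules, Coh.IsCoh M ∧ Nonempty (Formal.completion (Ideal.span {f}) M ≅ F) := by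
  classical
  let I : Ideal A := Ideal.span {f}
  obtain ⟨H, hH, α, hker⟩ := exists_injection π hπ hL K hK hF
  have hHf := isCohFormal_completion I hH
  have hC := isCohFormal_cokSys hF hHf α
  obtain ⟨H₂, hH₂, α₂, hker₂⟩ := exists_injection π hπ hL K hK hC
  obtain ⟨φ, hφ, -⟩ := existsUnique_hom_of_proper I H H₂ hH hH₂ (cokSysπ α ≫ α₂)
  have hcm : cmap I φ = cokSysπ α ≫ α₂ := by
    ext k : 2
    obtain ⟨n, rfl⟩ : ∃ n, k = op n := ⟨k.unop, rfl⟩
    haveI := (isQuot_qπ I H n).epi
    rw [← cancel_epi (qπ I H n), qπ_cmap]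
    exact (hφ n).symm
  have h0 : α ≫ cmap I φ = 0 := by
    rw [hcm]
    ext k : 2
    show α.app k ≫ cokernel.π (α.app k) ≫ α₂.app k = 0
    rw [cokernel.condition_assoc, zero_comp]
  obtain ⟨γ, e, hγ, hchar⟩ := exists_kernel_factor hF hH hH₂ φ α h0
  have hM : Coh.IsCoh (kernel φ) := isCoh_kernel φ hH hH₂
  obtain ⟨R, hR, ι, hια, -, d, πR, hπR, hπι⟩ := exists_formal_kernel hC (isCohFormal_completion I hH₂) α₂
  obtain ⟨t, ht⟩ := hker₂ R hR ι hια
  have hcok : ∃ t' : ℕ, ∀ n : ℕ, ClSub.KilledByIdeal (K ^ t') (cokernel (γ.app (op n))) := by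
    refine ⟨t, fun n W a ha => ?_⟩
    suffices h : ∀ w : Γ(cokernel (γ.app (op n)), W.1), a • w = 0 from h
    intro w
    -- the cokernel is killed by `K ^ t`
    have hMn := isCoh_modPow I (n + 1) hM
    haveI := (isCoh_cokernel (γ.app (op n)) (hF.1 n) hMn).1
    refine section_eq_zero_of_germ fun y hy => ?_
    rw [WeakAss.germ_smul]
    haveI : Epi (cokernel.π (γ.app (op n))) := coequalizer.π_epi
    haveI := (isQuot_qπ I (kernel φ) n).epi
    obtain ⟨m, hm⟩ := stalkLin_surjective (qπ I (kernel φ) n ≫ cokernel.π (γ.app (op n))) y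
      ((cokernel (γ.app (op n))).presheaf.germ W.1 y hy w)
    rw [← hm]
    let av := Y.presheaf.germ W.1 y hy a
    let N := n + e + d
    let h : H.presheaf.stalk y := stalkLin (kernel.ι φ) y m
    let cN : (cokernel (α.app (op N))).presheaf.stalk y :=
      stalkLin (cokernel.π (α.app (op N))) y (stalkLin (qπ I H N) y h)
    have hc0 : stalkLin (α₂.app (op N)) y cN = 0 := by
      have h1 : stalkLin (qπ I H N ≫ (cokSysπ α ≫ α₂).app (op N)) y h = 0 := by
        rw [← hcm, qπ_cmap, stalkLin_comp, ← stalkLin_comp (kernel.ι φ), kernel.condition, stalkLin_zero, map_zero]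
      rw [stalkLin_comp] at h1
      refine Eq.trans ?_ h1
      show _ = stalkLin (cokernel.π (α.app (op N)) ≫ α₂.app (op N)) y _
      rw [stalkLin_comp]
      rfl
    obtain ⟨κ, hκ⟩ := exists_kernel_preimage (α₂.app (op N)) y hc0
    let r := stalkLin (πR (n + e)) y κ
    have hr : stalkLin (ι.app (op (n + e))) y r =
        stalkLin (cokernel.π (α.app (op (n + e)))) y (stalkLin (qπ I H (n + e)) y h) := by
      rw [← stalkLin_comp (πR (n + e)), hπι, stalkLin_comp, hκ,
        ← stalkLin_qπ_trans I H (Nat.le_add_right (n + e) d) y h]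
      exact (stalkLin_natural (cokSysπ α) (Nat.le_add_right (n + e) d) y _).symm
    have hk : av • stalkLin (ι.app (op (n + e))) y r = 0 := by
      haveI := (hR.1 (n + e)).1
      obtain ⟨c₁, z, hc₁, hz⟩ := WeakAss.exists_smul_eq_germ W.2 hy r
      refine ((FormalCd7.isUnit_germ hc₁).smul_eq_zero).1 ?_
      rw [smul_comm, ← map_smul, hz, stalkLin_germ (ι.app (op (n + e))) hy z, ← WeakAss.germ_smul]
      exact (congrArg _ (ht (n + e) W a ha z)).trans (map_zero _)
    rw [hr] at hk
    have hk' : stalkLin (cokernel.π (α.app (op (n + e)))) y (av • stalkLin (qπ I H (n + e)) y h) = 0 :=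
      (map_smul _ _ _).trans hk
    obtain ⟨x, hx⟩ := exists_cokernel_preimage (α.app (op (n + e))) y hk'
    have hm' := hchar n y x (av • m) (by
      rw [map_smul, map_smul]
      exact hx.symm)
    rw [← map_smul, stalkLin_comp, ← hm', ← stalkLin_comp (γ.app (op n)), cokernel.condition, stalkLin_zero]
  obtain ⟨M, -, -, -, -, -, hM', hiso⟩ := existence_tricky'' I K (fun _ => True) (fun _ _ _ => trivial)
    (fun _ _ => trivial)
    (fun _ M N hM hN _ _ _ _ ψ => existsUnique_hom_of_proper I M N hM hN ψ)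
    (fun e G hG hk _ => (exists_of_killed (K ^ e) (hsub e) hG hk).imp fun M h => ⟨h.1, h.2.1, trivial, h.2.2⟩)
    hF trivial γ hM trivial
    (fun T hT ψ hψ => hker T hT ψ (by rw [← hγ, ← Category.assoc, hψ, zero_comp]))
    hcok
  exact ⟨M, hM', hiso⟩

/-- Grothendieck existence for a principal ideal on proper schemes, by Noetherian induction. -/
theorem principalExists_of_proper [IsAdicComplete (Ideal.span {f}) A] (Y : Scheme.{u})
    (g : Y ⟶ Spec (CommRingCat.of A)) [IsProper g] : PrincipalExists f g := by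
  classical
  letI : Y.Over (Spec (CommRingCat.of A)) := ⟨g⟩
  haveI : IsProper (Y ↘ Spec (CommRingCat.of A)) := inferInstanceAs (IsProper g)
  haveI := SerreVanish.isNoetherian_of_proper (X := Y) A
  suffices ∀ (T : Closeds Y) (Z : Scheme.{u}) (i : Z ⟶ Y) [IsClosedImmersion i], Set.range i = T →
      PrincipalExists f (i ≫ g) by
    have h := this ⊤ Y (𝟙 Y) (Set.eq_univ_of_forall fun y => ⟨y, rfl⟩)
    rwa [Category.id_comp] at h
  intro T
  induction T using WellFounded.induction (r := ((· < ·) : Closeds Y → Closeds Y → Prop)) wellFounded_lt with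
  | _ T ih =>
  intro Z i _ hT
  letI : Z.Over (Spec (CommRingCat.of A)) := ⟨i ≫ g⟩
  haveI : IsProper (Z ↘ Spec (CommRingCat.of A)) := inferInstanceAs (IsProper (i ≫ g))
  haveI := SerreVanish.isNoetherian_of_proper (X := Z) A
  intro F hF
  by_cases hZ : IsEmpty Z
  · refine ⟨F.obj (op 0), hF.1 0, exists_completion_iso (fun _ => 0) (fun n => ?_) fun n => ?_⟩
    · haveI : Epi (0 : F.obj (op 0) ⟶ F.obj (op n)) := epi_of_stalk _ fun y => (hZ.false y).elim
      exact isQuot_of_stalk _ (hF.2.1 n) fun y => (hZ.false y).elim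
    · exact hom_ext_stalkLin fun y => (hZ.false y).elim
  rw [not_isEmpty_iff] at hZ
  obtain ⟨N, X, π, j, hj, hjb, hπ, -, -, -, U, hUd, hUiso, -⟩ :=
    Chow.chow_of_finite_components (Z ↘ Spec (CommRingCat.of A))
      NoetherianSpace.finite_irreducibleComponents
  haveI := hπ
  haveI := hj
  haveI := hUiso
  letI : X.Over (Spec (CommRingCat.of A)) := ⟨π ≫ (Z ↘ Spec (CommRingCat.of A))⟩
  haveI : IsProper (X ↘ Spec (CommRingCat.of A)) :=
    inferInstanceAs (IsProper (π ≫ (Z ↘ Spec (CommRingCat.of A))))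
  haveI := Chow.isProper_toBase N (Spec (CommRingCat.of A))
  haveI : IsProper (j ≫ CohB1.ProjSpaceOver.toBase N (Spec (CommRingCat.of A))) := hjb ▸ inferInstance
  haveI : IsProper j := IsProper.of_comp j (CohB1.ProjSpaceOver.toBase N (Spec (CommRingCat.of A)))
  haveI := Chow.isClosedImmersion_of_isImmersion_of_isProper j
  haveI := Ample.ProjMap.isClosedImmersion_toProjSpace N A
  have hL := Ample.isAmple_pullback_of_isAffineHom (j ≫ Ample.ProjMap.toProjSpace N A)
    (Ample.isAmple_twistProjSpace_one N A)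
  let Cl : Closeds Z := ⟨(U : Set Z)ᶜ, U.isOpen.isClosed_compl⟩
  let K := Scheme.IdealSheafData.vanishingIdeal Cl
  have hsupp : (K.support : Set Z) = (U : Set Z)ᶜ := by
    rw [Scheme.IdealSheafData.coe_support_vanishingIdeal]
    rfl
  have hK : ∀ (W : Z.affineOpens), ∀ a ∈ K.ideal W, Z.basicOpen a ≤ U := fun W a ha y hy => by
    by_contra hyU
    have h1 : y ∈ K.support := hsupp.ge hyU
    rw [Scheme.IdealSheafData.mem_support_iff_of_mem (U := W) (Z.basicOpen_le a hy),
      Scheme.mem_zeroLocus_iff] at h1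
    exact h1 a ha hy
  refine existence_step (Y := Z) π rfl hL K hK (fun e => ?_) hF
  rw [show (K ^ e).subschemeι ≫ (Z ↘ Spec (CommRingCat.of A)) = ((K ^ e).subschemeι ≫ i) ≫ g from
    (Category.assoc _ _ _).symm]
  have hcl : IsClosed (Set.range ((K ^ e).subschemeι ≫ i)) :=
    ((K ^ e).subschemeι ≫ i).isClosedEmbedding.isClosed_range
  refine ih ⟨_, hcl⟩ (lt_of_le_of_ne ?_ fun h => ?_) _ _ rfl
  · intro y hy
    obtain ⟨z, rfl⟩ := hy
    exact hT.le ⟨_, rfl⟩
  · rcases e with _ | e
    · have hne : (T : Set Y).Nonempty := hT ▸ Set.range_nonempty _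
      obtain ⟨y, hy⟩ := hne
      obtain ⟨z, -⟩ := ((SetLike.ext'_iff.1 h).ge hy : y ∈ Set.range ((K ^ 0).subschemeι ≫ i))
      have h1 : (K ^ 0).subschemeι z ∈ ((K ^ 0).support : Set Z) :=
        (Scheme.IdealSheafData.range_subschemeι _).le ⟨z, rfl⟩
      simp [Scheme.IdealSheafData.one_eq_top] at h1
    · obtain ⟨u, hu⟩ := hUd.nonempty
      obtain ⟨z, hz⟩ := ((SetLike.ext'_iff.1 h).ge (hT.le ⟨u, rfl⟩) :
        i u ∈ Set.range ((K ^ (e + 1)).subschemeι ≫ i))
      have h1 : (K ^ (e + 1)).subschemeι z = u := i.isClosedEmbedding.injective hz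
      have h2 : u ∈ ((K ^ (e + 1)).support : Set Z) :=
        (Scheme.IdealSheafData.range_subschemeι _).le ⟨z, h1⟩
      rw [Scheme.IdealSheafData.support_pow _ _ e.succ_ne_zero, hsupp] at h2
      exact h2 hu

omit [Y.Over (Spec (CommRingCat.of A))] [IsProper (Y ↘ Spec (CommRingCat.of A))] in
/-- Grothendieck existence for proper schemes. -/
theorem existence_of_proper {X : Scheme.{u}} [X.Over (Spec (CommRingCat.of A))]
    [IsProper (X ↘ Spec (CommRingCat.of A))] (I : Ideal A) [IsAdicComplete I A] (G : ℕᵒᵖ ⥤ X.Modules)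
    (hG : Formal.IsCohFormal I G) :
    ∃ M : X.Modules, Coh.IsCoh M ∧ Nonempty (Formal.completion I M ≅ G) :=
  existence_of_principal (X := X) (fun f hf G hG => by
    haveI := hf
    exact principalExists_of_proper X (X ↘ Spec (CommRingCat.of A)) G hG) I G hG

end GrothLib.FormalExist7
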