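import Groth.Agent.Lib.SerreVanish.Main
import Groth.Agent.Lib.Ample.RelAmple
import Groth.Agent.Lib.InvExt.Transfer
import Groth.Agent.Lib.Cohom.Compare
import Groth.Agent.Lib.Cohom.RpushModules

/-!
# Serre vanishing on preimages of affine opens
-/

set_option autoImplicit false
set_option linter.style.haveILetI false
universe u

open CategoryTheory CategoryTheory.Limits AlgebraicGeometry Opposite TopologicalSpace

noncomputable section

namespace GrothLib.FormalExist7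

open GrothLib.InvExt (mres)
open GrothLib.Ample (Cocycle res)

variable {X : Scheme.{u}} (c : Cocycle X) (U : X.Opens)

theorem image_inf_preimage (V : U.toScheme.Opens) (W : X.Opens) : U.ι ''ᵁ (V ⊓ U.ι ⁻¹ᵁ W) = U.ι ''ᵁ V ⊓ W := by
  refine le_antisymm (le_inf (U.ι.image_mono inf_le_left) ((U.ι.image_mono inf_le_right).trans ?_)) ?_
  · rw [U.ι.image_preimage_eq_opensRange_inf]
    exact inf_le_right
  · rintro x ⟨⟨v, hv, rfl⟩, hW⟩
    exact ⟨v, ⟨hv, hW⟩, rfl⟩

theorem comap_G_opens (i j : c.ι) {V : U.toScheme.Opens} (hi : V ≤ U.ι ⁻¹ᵁ c.D i) (hj : V ≤ U.ι ⁻¹ᵁ c.D j)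
    (hi' : U.ι ''ᵁ V ≤ c.D i) (hj' : U.ι ''ᵁ V ≤ c.D j) :
    (show Γ(X, U.ι ''ᵁ V) from (c.comap U.ι).G i j hi hj) = c.G i j hi' hj' := by
  rw [Ample.Cocycle.comap_G, Scheme.Opens.ι_appLE]
  rfl

/-- Restriction of a twist to an open, on sections. -/
def restrTwistApp (M : X.Modules) (n : ℕ) {V : U.toScheme.Opens} (a : c.msect M n (U.ι ''ᵁ V)) :
    (c.comap U.ι).msect (M.restrict U.ι) n V :=
  ⟨fun i => show Γ(M, U.ι ''ᵁ (V ⊓ U.ι ⁻¹ᵁ c.D i)) from mres M (image_inf_preimage U V (c.D i)).le (a.1 i),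
    fun i j W hi hj => by
      have hi' : U.ι ''ᵁ W ≤ U.ι ''ᵁ V ⊓ c.D i := (U.ι.image_mono hi).trans (image_inf_preimage U V (c.D i)).le
      have hj' : U.ι ''ᵁ W ≤ U.ι ''ᵁ V ⊓ c.D j := (U.ι.image_mono hj).trans (image_inf_preimage U V (c.D j)).le
      rw [InvExt.restrict_smul, Scheme.Opens.ι_appIso]
      show mres M (U.ι.image_mono hi) (mres M _ (a.1 i)) =
        (show Γ(X, U.ι ''ᵁ W) from (c.comap U.ι).G i j _ _ ^ n) • mres M (U.ι.image_mono hj) (mres M _ (a.1 j))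
      rw [InvExt.mres_mres, InvExt.mres_mres, c.msect_spec a i j hi' hj']
      congr 1
      exact (congrArg (· ^ n) (comap_G_opens c U i j (hi.trans inf_le_right) (hj.trans inf_le_right)
        (hi'.trans inf_le_right) (hj'.trans inf_le_right))).symm⟩

theorem restrTwistApp_apply (M : X.Modules) (n : ℕ) {V : U.toScheme.Opens} (a : c.msect M n (U.ι ''ᵁ V)) (i : c.ι) :
    (show Γ(M, U.ι ''ᵁ (V ⊓ U.ι ⁻¹ᵁ c.D i)) from (restrTwistApp c U M n a).1 i) =
      mres M (image_inf_preimage U V (c.D i)).le (a.1 i) := rfl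

/-- Restriction of a twist to an open. -/
def restrTwistHom (M : X.Modules) (n : ℕ) :
    (c.modTwist M n).restrict U.ι ⟶ (c.comap U.ι).modTwist (M.restrict U.ι) n :=
  ⟨{
    app := fun V => ModuleCat.ofHom
      (X := (((c.modTwist M n).restrict U.ι).val.obj V : Type u))
      (Y := (((c.comap U.ι).modTwist (M.restrict U.ι) n).val.obj V : Type u))
      { toFun := fun (a : c.msect M n (U.ι ''ᵁ V.unop)) => restrTwistApp c U M n a
        map_add' := fun (a b : c.msect M n (U.ι ''ᵁ V.unop)) =>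
          (c.comap U.ι).msect_ext fun i => map_add (M.presheaf.map _).hom _ _
        map_smul' := fun (r : Γ(U.toScheme, V.unop)) (a : c.msect M n (U.ι ''ᵁ V.unop)) =>
          (c.comap U.ι).msect_ext fun i => by
            refine Eq.trans ?_ (InvExt.restrict_smul _ _ _ _).symm
            rw [Scheme.Opens.ι_appIso]
            refine Eq.trans (congrArg (fun t : c.msect M n (U.ι ''ᵁ V.unop) =>
              mres M (image_inf_preimage U V.unop (c.D i)).le (t.1 i))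
              (show (show c.msect M n (U.ι ''ᵁ V.unop) from (r • show Γ((c.modTwist M n).restrict U.ι, V.unop) from a)) =
                (show Γ(X, U.ι ''ᵁ V.unop) from r) • a by
                rw [InvExt.restrict_smul, Scheme.Opens.ι_appIso]; rfl)) ?_
            rw [Ample.Cocycle.msmul_apply, Ample.mres_smul']
            simp only [Ample.res_res]
            rfl }
    naturality := fun {V W} f => by
      ext (a : c.msect M n (U.ι ''ᵁ V.unop))
      refine (c.comap U.ι).msect_ext fun i => ?_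
      exact (InvExt.mres_mres M _ _ _).trans (InvExt.mres_mres M _ _ _).symm }⟩

theorem bijective_restrTwistHom_app (M : X.Modules) (n : ℕ) (V : U.toScheme.Opens) :
    Function.Bijective ((restrTwistHom c U M n).app V) := by
  refine ⟨fun (a : c.msect M n (U.ι ''ᵁ V)) b h => c.msect_ext fun i => ?_,
    fun (t : (c.comap U.ι).msect (M.restrict U.ι) n V) => ?_⟩
  · have h1 := congrArg (fun t : (c.comap U.ι).msect (M.restrict U.ι) n V =>
      mres M (image_inf_preimage U V (c.D i)).ge (show Γ(M, U.ι ''ᵁ (V ⊓ U.ι ⁻¹ᵁ c.D i)) from t.1 i)) h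
    change mres M _ (mres M _ (a.1 i)) = mres M _ (mres M _ (b.1 i)) at h1
    rw [InvExt.mres_mres, InvExt.mres_mres, InvExt.mres_self, InvExt.mres_self] at h1
    exact h1
  · refine ⟨(⟨fun i => mres M (image_inf_preimage U V (c.D i)).ge
      (show Γ(M, U.ι ''ᵁ (V ⊓ U.ι ⁻¹ᵁ c.D i)) from t.1 i), fun i j W hi hj => ?_⟩ : c.msect M n (U.ι ''ᵁ V)),
      (c.comap U.ι).msect_ext fun i => ?_⟩
    · have hWU : U.ι ''ᵁ (U.ι ⁻¹ᵁ W) = W := by
        rw [U.ι.image_preimage_eq_opensRange_inf, inf_eq_right]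
        exact (hi.trans inf_le_left).trans (U.ι.image_le_opensRange V)
      have hi' : U.ι ⁻¹ᵁ W ≤ V ⊓ U.ι ⁻¹ᵁ c.D i := by
        refine (U.ι.preimage_mono hi).trans ?_
        rw [Scheme.Hom.preimage_inf, U.ι.preimage_image_eq]
      have hj' : U.ι ⁻¹ᵁ W ≤ V ⊓ U.ι ⁻¹ᵁ c.D j := by
        refine (U.ι.preimage_mono hj).trans ?_
        rw [Scheme.Hom.preimage_inf, U.ι.preimage_image_eq]
      have h := (c.comap U.ι).msect_spec t i j hi' hj'
      rw [InvExt.restrict_smul, Scheme.Opens.ι_appIso] at h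
      replace h := congrArg (fun z : Γ(M, U.ι ''ᵁ (U.ι ⁻¹ᵁ W)) => mres M hWU.ge z) h
      change mres M hWU.ge (mres M (U.ι.image_mono hi') _) = mres M hWU.ge
        ((show Γ(X, U.ι ''ᵁ (U.ι ⁻¹ᵁ W)) from (c.comap U.ι).G i j _ _ ^ n) • mres M (U.ι.image_mono hj') _) at h
      rw [Ample.mres_smul', InvExt.mres_mres, InvExt.mres_mres] at h
      rw [InvExt.mres_mres, InvExt.mres_mres]
      refine h.trans ?_
      congr 1
      rw [show (show Γ(X, U.ι ''ᵁ (U.ι ⁻¹ᵁ W)) from (c.comap U.ι).G i j _ _ ^ n) =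
          c.G i j (hWU.le.trans (hi.trans inf_le_right)) (hWU.le.trans (hj.trans inf_le_right)) ^ n from
            congrArg (· ^ n) (comap_G_opens c U i j (hi'.trans inf_le_right) (hj'.trans inf_le_right) _ _),
        map_pow, Ample.Cocycle.res_G]
    · show mres M _ (mres M _ _) = _
      rw [InvExt.mres_mres, InvExt.mres_self]

/-- Serre vanishing on the preimage of an affine open of the target. -/
theorem exists_vanish_preimage {Y : Scheme.{u}} (π : X ⟶ Y) [IsProper π] [IsLocallyNoetherian Y]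
    [IsNoetherian X] (hc : c.IsAmp) {N : X.Modules} (hN : Coh.IsCoh N) {W : Y.Opens} (hW : IsAffineOpen W) :
    ∃ d₀ : ℕ, ∀ d, d₀ ≤ d →
      Subsingleton (Abelian.Ext.{u} (Cohom.freeFun.obj (π ⁻¹ᵁ W)) (Coh.toAb (c.modTwist N d)) 1) := by
  haveI : IsNoetherianRing Γ(Y, W) := IsLocallyNoetherian.component_noetherian ⟨W, hW⟩
  let f : (π ⁻¹ᵁ W).toScheme ⟶ Spec Γ(Y, W) := π ∣_ W ≫ hW.isoSpec.hom
  haveI : IsProper (π ∣_ W) := MorphismProperty.of_isPullback (isPullback_morphismRestrict π W).flip inferInstance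
  letI : (π ⁻¹ᵁ W).toScheme.Over (Spec (CommRingCat.of Γ(Y, W))) := ⟨f⟩
  haveI : IsProper ((π ⁻¹ᵁ W).toScheme ↘ Spec (CommRingCat.of Γ(Y, W))) := inferInstanceAs (IsProper f)
  haveI : CompactSpace (π ⁻¹ᵁ W).toScheme := isCompact_iff_compactSpace.mp
    (π.isCompact_preimage hW.isCompact)
  have hL : CohB1.IsAmple (c.twist 1) := (c.isAmple_iff (Iso.refl _)).2 ⟨inferInstance, hc⟩
  obtain ⟨e⟩ := c.nonempty_pullback_iso (π ⁻¹ᵁ W).ι (Iso.refl (c.twist 1))
  have hcU : (c.comap (π ⁻¹ᵁ W).ι).IsAmp := (((c.comap _).isAmple_iff e).1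
    (Ample.isAmple_pullback_of_isEmbedding (π ⁻¹ᵁ W).ι (π ⁻¹ᵁ W).ι.isOpenEmbedding.isEmbedding hL)).2
  obtain ⟨d₀, hd₀⟩ := SerreVanish.evAcyclic (c.comap (π ⁻¹ᵁ W).ι) Γ(Y, W) hcU
    (Cohom.isCoh_restrict N hN (π ⁻¹ᵁ W).ι)
  refine ⟨d₀, fun d hd => ?_⟩
  haveI := hd₀ d hd 1 le_rfl
  haveI : IsIso (restrTwistHom c (π ⁻¹ᵁ W) N d) :=
    InvTriv26.isIso_of_app_bijective _ (bijective_restrTwistHom_app c (π ⁻¹ᵁ W) N d)
  haveI : Subsingleton (Coh.HHon X (c.modTwist N d) (π ⁻¹ᵁ W) 1) :=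
    (Euler.hhEquiv (A := Γ(Y, W)) (asIso (restrTwistHom c (π ⁻¹ᵁ W) N d)) 1).toEquiv.subsingleton
  obtain ⟨e'⟩ := Cohom.nonempty_HHon_equiv (c.modTwist N d) (π ⁻¹ᵁ W) 1
  exact e'.symm.toEquiv.subsingleton

end GrothLib.FormalExist7
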